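import Cfsg.Agent.Lib.Bender.Q.Criterion

/-!
Aschbacher's criterion without simplicity: theorem Q applied to the permutations induced on the cosets, and the
involutions of the kernel.

Blueprint: `blueprint/bender/Q.md` VII.
-/

set_option autoImplicit false
set_option linter.unusedSectionVars false
set_option linter.style.haveILetI false

universe u

namespace CfsgLib.Bender.Q

open MulAction
open CfsgLib.Bender.TwoClosed (IsInv)
open CfsgLib.Bender.Assembly (orderOf_two isInv_of_orderOf fix_iff)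

variable {G : Type u} [Group G] [Finite G] {Ω : Type u} [MulAction G Ω] {Z : Set G}

/-- The image of `G` in the permutations of the points. -/
abbrev permGrp (G Ω : Type u) [Group G] [MulAction G Ω] : Subgroup (Equiv.Perm Ω) :=
  (MulAction.toPermHom G Ω).range

/-- The induced permutation. -/
abbrev permImg (G Ω : Type u) [Group G] [MulAction G Ω] : G →* permGrp G Ω :=
  (MulAction.toPermHom G Ω).rangeRestrict

theorem permImg_smul (x : G) (c : Ω) : permImg G Ω x • c = x • c := rfl

theorem permImg_eq_one {x : G} : permImg G Ω x = 1 ↔ ∀ c : Ω, x • c = c := by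
  refine ⟨fun h c => by rw [← permImg_smul, h, one_smul], fun h => Subtype.ext (Equiv.ext fun c => ?_)⟩
  exact h c

variable (hQ : Hyp G Ω Z)
include hQ

/-- A member moves a point. -/
theorem member_moves {y : G} (hy : y ∈ Z) : ¬ ∀ c : Ω, y • c = c := fun h => by
  haveI := hQ.nontriv
  obtain ⟨c, d, hne⟩ := exists_pair_ne Ω
  exact hne (eq_of_fix hQ hy (h c) (h d))

/-- The central involution of two members with even product fixes only the point of the first. -/
theorem half_fix {y z : G} (hy : y ∈ Z) (hz : z ∈ Z) (hev : Even (orderOf (y * z))) {c : Ω}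
    (hc : ((y * z) ^ (orderOf (y * z) / 2)) • c = c) : y • c = c := by
  obtain ⟨h1, h2, h3⟩ := half_mem hQ hy hz hev
  refine hQ.prod_fix y hy _ h1 (Ne.symm h2) h3 c ?_
  rwa [h3, mul_assoc, (hQ.inv y hy).2, mul_one]

/-- Hypothesis Q for the induced permutations. -/
theorem hyp_permImg : Hyp (permGrp G Ω) Ω (permImg G Ω '' Z) where
  inv := by
    rintro _ ⟨x, hx, rfl⟩
    exact ⟨fun e => member_moves hQ hx (permImg_eq_one.mp e), by rw [← map_mul, (hQ.inv x hx).2, map_one]⟩
  conj := by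
    rintro _ ⟨x, hx, rfl⟩ g
    obtain ⟨g, rfl⟩ := MonoidHom.rangeRestrict_surjective (MulAction.toPermHom G Ω) g
    exact ⟨g * x * g⁻¹, hQ.conj x hx g, by rw [map_mul, map_mul, map_inv]⟩
  one_fix := by
    rintro _ ⟨x, hx, rfl⟩
    exact hQ.one_fix x hx
  exists_at := fun c => by
    obtain ⟨z, hz, hzc⟩ := hQ.exists_at c
    exact ⟨_, ⟨z, hz, rfl⟩, hzc⟩
  nontriv := hQ.nontriv
  two_cent := by
    intro P a hP hPa
    haveI : Fact (Nat.Prime 2) := ⟨Nat.prime_two⟩
    let H : Subgroup G := P.comap (permImg G Ω)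
    let f : H →* P := ((permImg G Ω).comp H.subtype).codRestrict P fun h => h.2
    have hf : Function.Surjective f := fun y => by
      obtain ⟨x, hx⟩ := MonoidHom.rangeRestrict_surjective (MulAction.toPermHom G Ω) (y : permGrp G Ω)
      exact ⟨⟨x, show permImg G Ω x ∈ P by rw [show permImg G Ω x = y from hx]; exact y.2⟩, Subtype.ext hx⟩
    let S : Sylow 2 H := default
    obtain ⟨z, hz, hza, hzc⟩ := hQ.two_cent ((S : Subgroup H).map H.subtype) a (S.isPGroup'.map _) (by
      rintro _ ⟨s, -, rfl⟩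
      exact hPa _ s.2)
    refine ⟨_, ⟨z, hz, rfl⟩, hza, fun x hx => ?_⟩
    have h1 := (S.mapSurjective hf).is_maximal' (IsPGroup.to_le hP le_rfl |>.to_subgroup ⊤) le_top
    obtain ⟨s, hs, hse⟩ : (⟨x, hx⟩ : P) ∈ ((S.mapSurjective hf : Sylow 2 P) : Subgroup P) := h1 ▸ Subgroup.mem_top _
    have hse' : permImg G Ω (s : G) = x := congrArg Subtype.val hse
    rw [← hse', ← map_mul, ← map_mul]
    exact congrArg _ (hzc _ ⟨s, hs, rfl⟩)
  odd_mul := by
    rintro _ ⟨x, hx, rfl⟩ _ ⟨y, hy, rfl⟩ c d hc hd hne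
    refine (hQ.odd_mul x hx y hy c d hc hd hne).of_dvd_nat ?_
    rw [← map_mul]
    exact orderOf_map_dvd _ _
  prod_fix := by
    rintro _ ⟨x, hx, rfl⟩ _ ⟨y, hy, rfl⟩ hne hcomm c hc
    rw [← map_mul, permImg_smul] at hc
    refine half_fix hQ hx hy (Nat.not_odd_iff_even.mp fun hodd => hne ?_)
      (mem_stabilizer_iff.mp (pow_mem (mem_stabilizer_iff.mpr hc) _))
    refine eq_of_commute_odd ⟨fun e => member_moves hQ hx (permImg_eq_one.mp e), ?_⟩
      ⟨fun e => member_moves hQ hy (permImg_eq_one.mp e), ?_⟩ hcomm (hodd.of_dvd_nat ?_)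
    · rw [← map_mul, (hQ.inv x hx).2, map_one]
    · rw [← map_mul, (hQ.inv y hy).2, map_one]
    · rw [← map_mul]
      exact orderOf_map_dvd _ _

/-- An involution generated by members that moves a point fixes exactly one. -/
theorem fix_closure (hA : TheoremQ.{u}) {x : G} (hxN : x ∈ Subgroup.closure Z) (hx2 : x * x = 1)
    (hmv : ¬ ∀ c : Ω, x • c = c) : ∃! c : Ω, x • c = c := by
  haveI : Finite (permGrp G Ω) := Finite.of_surjective _ (MonoidHom.rangeRestrict_surjective (MulAction.toPermHom G Ω))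
  refine hA (permGrp G Ω) Ω _ (hyp_permImg hQ) (permImg G Ω x) ?_
    ⟨fun e => hmv (permImg_eq_one.mp e), by rw [← map_mul, hx2, map_one]⟩
  rw [← MonoidHom.map_closure]
  exact ⟨x, hxN, rfl⟩

/-- A member is isolated in its extension of a subgroup fixing every point. -/
theorem odd_conj_fixAll {K : Subgroup G} (hK : ∀ k ∈ K, ∀ c : Ω, k • c = c) {y : G} (hy : y ∈ Z)
    {k : G} (hk : k ∈ K) : Odd (orderOf (y * (k * y * k⁻¹))) := by
  refine Nat.not_even_iff_odd.mp fun hev => member_moves hQ hy fun c =>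
    half_fix hQ hy (hQ.conj y hy k) hev (mem_stabilizer_iff.mp (pow_mem (mem_stabilizer_iff.mpr ?_) _))
  rw [mul_smul, mul_smul, mul_smul, hK _ (inv_mem hk), hK k hk, (hQ.inv y hy).smul_twice]

/-- A member centralises a subgroup fixing every point modulo its odd core. -/
theorem comm_fixAll {K : Subgroup G} [K.Normal] (hK : ∀ k ∈ K, ∀ c : Ω, k • c = c) {y : G} (hy : y ∈ Z)
    {k : G} (hk : k ∈ K) : y * k * y⁻¹ * k⁻¹ ∈ oddRad K :=
  comm_mem_oddRad (hQ.inv y hy) (by rw [Subgroup.normalizer_eq_top]; exact Subgroup.mem_top y)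
    (fun _ hk' => odd_conj_fixAll hQ hK hy hk') hk

omit hQ in
/-- An involution is conjugated onto one commuting with another by the odd dihedral rotations. -/
theorem exists_commute_conj {a b : G} (ha : IsInv a) (hb : IsInv b) (hodd : Odd (orderOf (a * (b * a * b)))) :
    ∃ h ∈ Subgroup.zpowers (a * (b * a * b)), h * a * h⁻¹ * b = b * (h * a * h⁻¹) := by
  obtain ⟨e, he⟩ : ∃ e, e = a * (b * a * b) := ⟨_, rfl⟩
  rw [← he] at hodd ⊢
  obtain ⟨n, hn⟩ := CfsgLib.Involutions.exists_sqrt (show Odd (orderOf e⁻¹) by rwa [orderOf_inv])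
  have hmem : (e⁻¹) ^ n ∈ Subgroup.zpowers e := pow_mem (inv_mem (Subgroup.mem_zpowers e)) n
  obtain ⟨m, hm⟩ := CfsgLib.Involutions.exists_sqrt
    (show Odd (orderOf ((e⁻¹) ^ n)) from (show Odd (orderOf e⁻¹) by rwa [orderOf_inv]).of_dvd_nat
      (orderOf_pow_dvd n))
  refine ⟨((e⁻¹) ^ n) ^ m, pow_mem hmem m, ?_⟩
  generalize hh : ((e⁻¹) ^ n) ^ m = h at hm
  have hhe : h ∈ Subgroup.zpowers e := hh ▸ pow_mem hmem m
  have hae : a * e * a = e⁻¹ := by
    rw [he, mul_inv_rev, mul_inv_rev, mul_inv_rev, ha.inv, hb.inv, ← mul_assoc, ha.2, one_mul, ← mul_assoc b]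
  have hbe : b * e * b = e⁻¹ := by
    rw [he, mul_inv_rev, mul_inv_rev, mul_inv_rev, ha.inv, hb.inv,
      show b * (a * (b * a * b)) * b = b * a * (b * a) * (b * b) by group, hb.2, mul_one]
    group
  have hinv : ∀ {c : G}, IsInv c → c * e * c = e⁻¹ → ∀ x ∈ Subgroup.zpowers e, c * x * c = x⁻¹ :=
    fun {c} hc hce x hx => by
      obtain ⟨j, rfl⟩ := Subgroup.mem_zpowers_iff.mp hx
      have h1 := (conj_zpow (a := c) (b := e) (i := j)).symm
      rw [hc.inv, hce, inv_zpow] at h1
      exact h1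
  have h2 : h * a * h⁻¹ = h * h * a := by
    rw [show h⁻¹ = a * h * a from (hinv ha hae h hhe).symm,
      show h * a * (a * h * a) = h * (a * a) * h * a by group, ha.2, mul_one]
  rw [h2]
  have hbab : b * a * b = e⁻¹ * a := by
    rw [← hae, he, show a * (a * (b * a * b)) * a * a = (a * a) * (b * a * b) * (a * a) by group, ha.2, one_mul,
      mul_one]
  have h4 : h * h * (h * h) = e⁻¹ := by rw [hm, hn]
  have key : b * (h * h * a) * b = h * h * a := by
    calc b * (h * h * a) * b = b * (h * h) * b * (b * a * b) := by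
          rw [show b * (h * h) * b * (b * a * b) = b * (h * h) * (b * b) * a * b by group, hb.2]; group
      _ = (h * h)⁻¹ * (e⁻¹ * a) := by rw [hinv hb hbe _ (mul_mem hhe hhe), hbab]
      _ = h * h * a := by rw [← h4]; simp [mul_assoc]
  calc h * h * a * b = b * (b * (h * h * a) * b) := by
        rw [show b * (b * (h * h * a) * b) = (b * b) * (h * h * a) * b by group, hb.2, one_mul]
    _ = _ := by rw [key]

/-- An involution fixing every point and generated by members: a conjugate of it lies in the subgroup generated by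
the members centralising it, commutes with a given member, and every member is carried into its centraliser by
elements fixing every point. -/
theorem kernel_inv {K : Subgroup G} [K.Normal] (hK : ∀ k ∈ K, ∀ c : Ω, k • c = c) {x : G} (hxK : x ∈ K)
    (hxN : x ∈ Subgroup.closure Z) (hx : IsInv x) {z : G} (hz : z ∈ Z) :
    ∃ w : G, w ∈ K ∧ IsInv w ∧ w * z = z * w ∧ w ∈ Subgroup.closure {y | y ∈ Z ∧ y * w = w * y} ∧
      ∀ y ∈ Z, ∃ k ∈ K, k * y * k⁻¹ * w = w * (k * y * k⁻¹) := by
  have hKn : ∀ g : G, g ∈ Subgroup.normalizer (K : Set G) := fun g => by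
    rw [Subgroup.normalizer_eq_top]; exact Subgroup.mem_top g
  have hOn : ∀ g : G, ∀ o ∈ oddRad K, g * o * g⁻¹ ∈ oddRad K := fun g o ho => oddRad_conj (hKn g) ho
  haveI hOnormal : (oddRad K).Normal := ⟨fun o ho g => hOn g o ho⟩
  have hx' : x * (z * x * z) ∈ oddRad K := by
    have h := hOn x _ (comm_fixAll hQ hK hz hxK)
    rwa [(hQ.inv z hz).inv, hx.inv, show x * (z * x * z * x) * x = x * (z * x * z) * (x * x) by group, hx.2,
      mul_one] at h
  obtain ⟨h, hh, hcomm⟩ := exists_commute_conj hx (hQ.inv z hz) (odd_orderOf_oddRad hx')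
  have hhO : h ∈ oddRad K := (Subgroup.zpowers_le.mpr hx') hh
  have hhN : h ∈ Subgroup.closure Z := (Subgroup.zpowers_le.mpr (Subgroup.mul_mem _ hxN
    (Subgroup.mul_mem _ (Subgroup.mul_mem _ (Subgroup.subset_closure hz) hxN) (Subgroup.subset_closure hz)))) hh
  set w := h * x * h⁻¹ with hw
  have hwK : w ∈ K := (inferInstance : K.Normal).conj_mem x hxK h
  have hwi : IsInv w := hx.conj h
  have hwN : w ∈ Subgroup.closure Z := Subgroup.mul_mem _ (Subgroup.mul_mem _ hhN hxN) (Subgroup.inv_mem _ hhN)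
  set L := Subgroup.closure {y | y ∈ Z ∧ y * w = w * y}
  have hmove : ∀ y ∈ Z, ∃ k ∈ oddRad K, k * y * k⁻¹ ∈ L ∧ k * y * k⁻¹ * w = w * (k * y * k⁻¹) := by
    intro y hy
    have h1 : y * (w * y * w) ∈ oddRad K := by
      have h2 := comm_fixAll hQ hK hy hwK
      rwa [(hQ.inv y hy).inv, hwi.inv, mul_assoc, mul_assoc, ← mul_assoc w] at h2
    obtain ⟨k, hk, hkc⟩ := exists_commute_conj (hQ.inv y hy) hwi (odd_orderOf_oddRad h1)
    exact ⟨k, (Subgroup.zpowers_le.mpr h1) hk, Subgroup.subset_closure ⟨hQ.conj y hy k, hkc⟩, hkc⟩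
  refine ⟨w, hwK, hwi, hcomm, ?_, fun y hy => ?_⟩
  · have hle : Subgroup.closure Z ≤ L ⊔ oddRad K := (Subgroup.closure_le _).mpr fun y hy => by
      obtain ⟨k, hk, hkL, -⟩ := hmove y hy
      have := Subgroup.mul_mem _ (Subgroup.mul_mem _ (Subgroup.inv_mem _ (Subgroup.mem_sup_right (S := L) hk))
        (Subgroup.mem_sup_left (T := oddRad K) hkL)) (Subgroup.mem_sup_right (S := L) hk)
      simpa [mul_assoc] using this
    obtain ⟨l, hl, o, ho, e⟩ := Subgroup.mem_sup_of_normal_right.mp (hle hwN)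
    have hlw : l * w = w * l := by
      have hLC : L ≤ Subgroup.centralizer ({w} : Set G) := (Subgroup.closure_le _).mpr fun y hy =>
        Subgroup.mem_centralizer_singleton_iff.mpr hy.2
      exact Subgroup.mem_centralizer_singleton_iff.mp (hLC hl)
    have hlo : Commute l o := by
      show l * o = o * l
      refine mul_left_cancel (a := l) ?_
      rw [← mul_assoc l o l, e, ← hlw]
    have hm : Odd (Nat.card (oddRad K)) := odd_oddRad K
    have h1 : w ^ Nat.card (oddRad K) = w := by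
      obtain ⟨j, hj⟩ := hm
      rw [hj, pow_succ, pow_mul, pow_two, hwi.2, one_pow, one_mul]
    have h2 : o ^ Nat.card (oddRad K) = 1 := congrArg Subtype.val (pow_card_eq_one' (x := (⟨o, ho⟩ : oddRad K)))
    have h3 : l ^ Nat.card (oddRad K) = w := by
      conv_rhs => rw [← h1, ← e, hlo.mul_pow, h2, mul_one]
    have h4 := Subgroup.pow_mem L hl (Nat.card (oddRad K))
    rwa [h3] at h4
  · obtain ⟨k, hk, -, hkc⟩ := hmove y hy
    exact ⟨k, oddRad_le K hk, hkc⟩

omit hQ

variable {M : Subgroup G}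

theorem mem_normalCore_of_fix {x : G} (h : ∀ c : G ⧸ M, x • c = c) : x ∈ M.normalCore := fun g => by
  simpa using fix_iff.mp (h ((g⁻¹ : G) : G ⧸ M))

theorem fix_normalCore {x : G} (hx : x ∈ M.normalCore) (c : G ⧸ M) : x • c = c := by
  induction c using QuotientGroup.induction_on with
  | _ g => exact fix_iff.mpr (by simpa using hx g⁻¹)

/-- **The criterion.** -/
theorem stronglyEmbedded_closure (hA : TheoremQ.{u}) (h : Crit M Z)
    (hker : ∀ x ∈ Subgroup.closure Z, IsInv x → x ∉ M.normalCore) :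
    Cfsg.IsStronglyEmbedded (M.subgroupOf (Subgroup.closure Z)) := by
  obtain ⟨-, -, z, hz, hzM, -⟩ := h.sylow
  refine ⟨fun e => h.ne_top (eq_top_iff.mpr fun g _ => h.fix z hz hzM g ?_), ?_, fun g hg => ?_⟩
  · exact Subgroup.subgroupOf_eq_top.mp e (Subgroup.subset_closure (h.conj z hz g))
  · rw [even_iff_two_dvd, ← orderOf_two (h.inv z hz), ← Subgroup.orderOf_mk z (Subgroup.subset_closure hz)]
    exact Subgroup.orderOf_dvd_natCard _ hzM
  · refine Nat.not_even_iff_odd.mp fun he => hg ?_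
    obtain ⟨x, hx, hxi⟩ := TwoClosed.exists_inv_of_even he
    have hxi' : IsInv (x : G) := ⟨fun e => hxi.1 (Subtype.ext e), congrArg Subtype.val hxi.2⟩
    obtain ⟨c, -, hu⟩ := fix_closure h.hyp hA x.2 hxi'.2
      fun hall => hker x x.2 hxi' (mem_normalCore_of_fix hall)
    have hxM : (x : G) ∈ M := (Subgroup.mem_inf.mp hx).1
    have e1 := hu ((1 : G) : G ⧸ M) (fix_iff.mpr (by simpa using hxM))
    have e2 := hu ((g : G) : G ⧸ M) (fix_iff.mpr (by
      obtain ⟨y, hy, hye⟩ := (Subgroup.mem_inf.mp hx).2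
      have hy' : (y : G) ∈ M := hy
      rw [← hye]
      simpa [mul_assoc] using hy'))
    have e3 := QuotientGroup.eq.mp (e1.trans e2.symm)
    simpa [Subgroup.mem_subgroupOf] using e3

/-- An involution at the centre of a Sylow subgroup whose local subgroups are strongly embedded. -/
theorem local_criterion (hA : TheoremQ.{u}) (P : Sylow 2 G) {z : G} (hz : IsInv z)
    (hzP : z ∈ (P : Subgroup G)) (hzc : ∀ s ∈ (P : Subgroup G), Commute s z) {H : Subgroup G} (hH : H ≠ ⊤)
    (hi : ∀ g : G, g * z * g⁻¹ ∈ H ↔ g ∈ H)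
    (hii : ∀ u : G, orderOf u = 2 → u * z = z * u → ¬ Subgroup.centralizer ({u} : Set G) ≤ H →
      Cfsg.IsStronglyEmbedded (H.subgroupOf (Subgroup.closure {x : G | IsConj z x ∧ x * u = u * x}))) :
    Cfsg.IsStronglyEmbedded (H.subgroupOf (Subgroup.closure (conjugatesOf z))) := by
  have hzH : z ∈ H := by simpa using (hi 1).mpr (one_mem H)
  have hcrit : Crit H (conjugatesOf z) := by
    refine crit_class hH (orderOf_two hz) hzH ⟨P, hzP, hzc⟩ (fun g => (hi g).mp) fun g hc hne => ?_
    set v := g * z * g⁻¹ with hv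
    have hvH : v ∈ H := (hi v).mp (by rw [← hc.eq, mul_inv_cancel_right]; exact hzH)
    have hui : IsInv (z * v) := ⟨fun e => hne ((inv_eq_of_mul_eq_one_right e).symm.trans hz.inv), by
      have e := hc.mul_pow 2
      rw [pow_two, pow_two, pow_two, hz.2, (hz.conj g).2, one_mul] at e
      exact e⟩
    have hcu : z * v * z = z * (z * v) := by rw [mul_assoc, ← hc.eq]
    by_contra hnot
    have hL := hii _ (orderOf_two hui) hcu hnot
    obtain ⟨c, hc', hcH⟩ := SetLike.not_le_iff_exists.mp hnot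
    have hc'' := Subgroup.mem_centralizer_singleton_iff.mp hc'
    set L := Subgroup.closure {x : G | IsConj z x ∧ x * (z * v) = z * v * x}
    have hzL : z ∈ L := Subgroup.subset_closure ⟨IsConj.refl z, hcu.symm⟩
    have hvL : v ∈ L := Subgroup.subset_closure ⟨isConj_iff.mpr ⟨g, rfl⟩, by rw [← mul_assoc, ← hc.eq]⟩
    have hyL : c * z * c⁻¹ ∈ L := Subgroup.subset_closure ⟨isConj_iff.mpr ⟨c, rfl⟩, by
      calc c * z * c⁻¹ * (z * v) = c * z * (c⁻¹ * (z * v)) := by group
        _ = c * z * (z * v * c⁻¹) := by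
          rw [show c⁻¹ * (z * v) = z * v * c⁻¹ from (Commute.inv_left (hc'' : Commute c (z * v))).eq]
        _ = c * (z * (z * v)) * c⁻¹ := by group
        _ = c * (z * v * z) * c⁻¹ := by rw [hcu]
        _ = c * (z * v) * z * c⁻¹ := by group
        _ = z * v * c * z * c⁻¹ := by rw [hc'']
        _ = _ := by group⟩
    have huL : (⟨z * v, mul_mem hzL hvL⟩ : L) ∈ H.subgroupOf L := mul_mem hzH hvH
    have h1 := CfsgLib.StrongEmb.centralizer_le hL huL
      (by rw [← Subgroup.orderOf_coe]; exact orderOf_two hui)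
      (show (⟨c * z * c⁻¹, hyL⟩ : L) ∈ _ from Subgroup.mem_centralizer_singleton_iff.mpr (Subtype.ext (by
        show c * z * c⁻¹ * (z * v) = z * v * (c * z * c⁻¹)
        have : ∀ y ∈ L, y * (z * v) = z * v * y := fun y hy => by
          have hle : L ≤ Subgroup.centralizer ({z * v} : Set G) := (Subgroup.closure_le _).mpr fun y hy =>
            Subgroup.mem_centralizer_singleton_iff.mpr hy.2
          exact Subgroup.mem_centralizer_singleton_iff.mp (hle hy)
        exact this _ hyL)))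
    exact hcH ((hi c).mp h1)
  refine stronglyEmbedded_closure hA hcrit fun x hxN hxi hxK => ?_
  obtain ⟨w, hwK, hwi, hwz, hwL, hmove⟩ := kernel_inv hcrit.hyp (K := H.normalCore)
    (fun k hk => fix_normalCore hk) hxK hxN hxi (mem_conjugatesOf_self (a := z))
  have hnot : ¬ Subgroup.centralizer ({w} : Set G) ≤ H := fun hle => hH (eq_top_iff.mpr fun g _ => by
    obtain ⟨k, hk, hkc⟩ := hmove (g * z * g⁻¹) (isConj_iff.mpr ⟨g, rfl⟩)
    have h1 : k * (g * z * g⁻¹) * k⁻¹ ∈ H := hle (Subgroup.mem_centralizer_singleton_iff.mpr hkc)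
    have hkH := H.normalCore_le hk
    refine (hi g).mp ?_
    simpa [mul_assoc] using mul_mem (mul_mem (inv_mem hkH) h1) hkH)
  have hL := hii w (orderOf_two hwi) hwz hnot
  set L := Subgroup.closure {x : G | IsConj z x ∧ x * w = w * x}
  obtain ⟨g, hg⟩ : ∃ g : L, g ∉ H.subgroupOf L := by
    by_contra hall
    push Not at hall
    exact hL.1 (eq_top_iff.mpr fun g _ => hall g)
  have hLC : L ≤ Subgroup.centralizer ({w} : Set G) := (Subgroup.closure_le _).mpr fun y hy =>
    Subgroup.mem_centralizer_singleton_iff.mpr hy.2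
  refine Nat.not_even_iff_odd.mpr (hL.2.2 g hg) (even_iff_two_dvd.mpr ?_)
  rw [← orderOf_two hwi, ← Subgroup.orderOf_mk w hwL]
  refine Subgroup.orderOf_dvd_natCard _ ⟨H.normalCore_le hwK, ⟨w, hwL⟩, H.normalCore_le hwK, Subtype.ext ?_⟩
  show (g : G) * w * (g : G)⁻¹ = w
  rw [Subgroup.mem_centralizer_singleton_iff.mp (hLC g.2), mul_inv_cancel_right]

end CfsgLib.Bender.Q
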