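import Cfsg.Agent.Lib.Bender.Q.Heredity
import Cfsg.Agent.Lib.Bender.Assembly
import Cfsg.Agent.Lib.AfterFT.CoreSeparated
import Cfsg.Agent.Lib.Comp.PTerminal
import Cfsg.Prelude.Def_TwoFusion

/-!
Aschbacher's criterion from theorem Q: the rows on simple groups.

Blueprint: `blueprint/bender/Q.md` VII.
-/

set_option autoImplicit false
set_option linter.unusedSectionVars false
set_option linter.style.haveILetI false

universe u

namespace CfsgLib.Bender.Q

open MulAction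
open CfsgLib.Bender.TwoClosed (IsInv)
open CfsgLib.Bender.Assembly (orderOf_two isInv_of_orderOf fix_iff)

/-- Theorem Q. -/
def TheoremQ : Prop :=
  ∀ (K Δ : Type u) [Group K] [Finite K] [MulAction K Δ] [FaithfulSMul K Δ] (Z : Set K),
    Hyp K Δ Z → ∀ x ∈ Subgroup.closure Z, IsInv x → ∃! c : Δ, x • c = c

/-- The hypotheses of the criterion for a set `Z` of involutions and a subgroup `M`. -/
structure Crit {G : Type u} [Group G] (M : Subgroup G) (Z : Set G) : Prop where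
  ne_top : M ≠ ⊤
  inv : ∀ z ∈ Z, IsInv z
  conj : ∀ z ∈ Z, ∀ g : G, g * z * g⁻¹ ∈ Z
  exists_conj : ∀ z ∈ Z, ∃ g : G, g⁻¹ * z * g ∈ M
  fix : ∀ z ∈ Z, z ∈ M → ∀ g : G, g * z * g⁻¹ ∈ M → g ∈ M
  sylow : ∃ S : Sylow 2 G, (S : Subgroup G) ≤ M ∧ ∃ z ∈ Z, z ∈ M ∧ ∀ s ∈ S, Commute s z
  prod : ∀ y ∈ Z, ∀ z ∈ Z, y ∈ M → z ∈ M → y ≠ z → y * z = z * y →
    Subgroup.centralizer ({y * z} : Set G) ≤ M

variable {G : Type u} [Group G] [Finite G] {M : Subgroup G} {Z : Set G}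

theorem Crit.one_fix (h : Crit M Z) {z : G} (hz : z ∈ Z) : ∃! c : G ⧸ M, z • c = c := by
  obtain ⟨g, hg⟩ := h.exists_conj z hz
  refine ⟨(g : G ⧸ M), fix_iff.mpr hg, fun c hc => ?_⟩
  induction c using QuotientGroup.induction_on with
  | _ k =>
    refine QuotientGroup.eq.mpr (h.fix (g⁻¹ * z * g) (by simpa using h.conj z hz g⁻¹) hg (k⁻¹ * g) ?_)
    rw [show k⁻¹ * g * (g⁻¹ * z * g) * (k⁻¹ * g)⁻¹ = k⁻¹ * z * k by group]
    exact fix_iff.mp hc

/-- Members generated by two members. -/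
theorem Crit.pow_mul_mem (h : Crit M Z) {x y : G} (hx : x ∈ Z) (hy : y ∈ Z) : ∀ k : ℕ, (x * y) ^ k * x ∈ Z := by
  intro k
  induction k using Nat.twoStepInduction with
  | zero => rwa [pow_zero, one_mul]
  | one =>
    rw [pow_one]
    have h1 := h.conj y hy x
    rwa [(h.inv x hx).inv] at h1
  | more n ih _ =>
    have h1 := h.conj _ ih (x * y)
    rwa [← mul_assoc, ← pow_succ', mul_assoc _ x,
      show x * (x * y)⁻¹ = x * y * x by rw [mul_inv_rev, (h.inv x hx).inv, (h.inv y hy).inv, mul_assoc],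
      ← mul_assoc, ← pow_succ] at h1

/-- Commuting members share their point. -/
theorem Crit.share (h : Crit M Z) {y z : G} (hy : y ∈ Z) (hyz : y * z = z * y) {c : G ⧸ M}
    (hc : y • c = c) : z • c = c :=
  (h.one_fix hy).unique (by rw [← mul_smul, hyz, mul_smul, hc]) hc

/-- The centralizer of the product of commuting members fixes their point. -/
theorem Crit.prod_le (h : Crit M Z) {y z : G} (hy : y ∈ Z) (hz : z ∈ Z) (hne : y ≠ z) (hyz : y * z = z * y)
    {c : G ⧸ M} (hc : y • c = c) {x : G} (hx : x * (y * z) = y * z * x) : x • c = c := by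
  have hzc := h.share hy hyz hc
  induction c using QuotientGroup.induction_on with
  | _ g =>
    refine fix_iff.mpr (h.prod (g⁻¹ * y * g) (by simpa using h.conj y hy g⁻¹) (g⁻¹ * z * g)
      (by simpa using h.conj z hz g⁻¹) (fix_iff.mp hc) (fix_iff.mp hzc) (fun e => hne (by simpa using e)) ?_ ?_)
    · calc g⁻¹ * y * g * (g⁻¹ * z * g) = g⁻¹ * (y * z) * g := by group
        _ = g⁻¹ * (z * y) * g := by rw [hyz]
        _ = _ := by group
    · refine Subgroup.mem_centralizer_singleton_iff.mpr ?_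
      calc g⁻¹ * x * g * (g⁻¹ * y * g * (g⁻¹ * z * g)) = g⁻¹ * (x * (y * z)) * g := by group
        _ = g⁻¹ * (y * z * x) * g := by rw [hx]
        _ = _ := by group

/-- A `2`-subgroup of `M` is conjugate in `M` into a Sylow subgroup of `G` inside `M`. -/
theorem exists_conj_sylow {S : Sylow 2 G} (hSM : (S : Subgroup G) ≤ M) {P : Subgroup G}
    (hP : IsPGroup 2 P) (hPM : P ≤ M) : ∃ m ∈ M, ∀ x ∈ P, m * x * m⁻¹ ∈ (S : Subgroup G) := by
  haveI : Fact (Nat.Prime 2) := ⟨Nat.prime_two⟩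
  obtain ⟨R, hR⟩ := (hP.comap_subtype (K := M) : IsPGroup 2 ↥(P.subgroupOf M)).exists_le_sylow
  obtain ⟨m, hm⟩ := MulAction.exists_smul_eq ↥M R (S.subtype hSM)
  refine ⟨m, m.2, fun x hx => ?_⟩
  have h1 : (⟨x, hPM hx⟩ : M) ∈ (R : Subgroup M) := hR hx
  have h2 : m * ⟨x, hPM hx⟩ * m⁻¹ ∈ ((m • R : Sylow 2 M) : Subgroup M) := ⟨_, h1, rfl⟩
  rw [hm] at h2
  exact h2

theorem Crit.two_cent (h : Crit M Z) (P : Subgroup G) (a : G ⧸ M) (hP : IsPGroup 2 P)
    (hPa : ∀ x ∈ P, x • a = a) : ∃ z ∈ Z, z • a = a ∧ ∀ x ∈ P, x * z = z * x := by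
  induction a using QuotientGroup.induction_on with
  | _ g =>
    obtain ⟨S, hSM, z, hz, hzM, hzS⟩ := h.sylow
    obtain ⟨m, hm, hmS⟩ := exists_conj_sylow (M := M) hSM (hP.map (MulAut.conj g⁻¹).toMonoidHom) (by
      rintro _ ⟨x, hx, rfl⟩
      simpa using fix_iff.mp (hPa x hx))
    refine ⟨(g * m⁻¹) * z * (g * m⁻¹)⁻¹, h.conj z hz _, fix_iff.mpr ?_, fun x hx => ?_⟩
    · rw [show g⁻¹ * (g * m⁻¹ * z * (g * m⁻¹)⁻¹) * g = m⁻¹ * z * m by group]
      exact mul_mem (mul_mem (inv_mem hm) hzM) hm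
    · have h3 : Commute (m * (g⁻¹ * x * g) * m⁻¹) z := hzS _ (hmS _ ⟨x, hx, by simp⟩)
      calc x * (g * m⁻¹ * z * (g * m⁻¹)⁻¹)
          = g * m⁻¹ * (m * (g⁻¹ * x * g) * m⁻¹ * z) * (g * m⁻¹)⁻¹ := by group
        _ = g * m⁻¹ * (z * (m * (g⁻¹ * x * g) * m⁻¹)) * (g * m⁻¹)⁻¹ := by rw [h3.eq]
        _ = _ := by group

/-- The criterion gives hypothesis Q. -/
theorem Crit.hyp (h : Crit M Z) : Hyp G (G ⧸ M) Z := by
  refine ⟨h.inv, h.conj, fun z hz => h.one_fix hz, ?_, ?_, h.two_cent, ?_, ?_⟩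
  · intro c
    induction c using QuotientGroup.induction_on with
    | _ g =>
      obtain ⟨-, -, z, hz, hzM, -⟩ := h.sylow
      exact ⟨g * z * g⁻¹, h.conj z hz g, fix_iff.mpr (by simpa [mul_assoc] using hzM)⟩
  · obtain ⟨g, -, hg⟩ := SetLike.exists_of_lt (lt_top_iff_ne_top.mpr h.ne_top)
    refine ⟨⟨((1 : G) : G ⧸ M), (g : G ⧸ M), fun e => hg ?_⟩⟩
    simpa using QuotientGroup.eq.mp e
  · intro y hy z hz c d hc hd hne
    refine Nat.not_even_iff_odd.mp fun he => hne ?_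
    obtain ⟨h1, h2⟩ := CfsgLib.Involutions.central_half (h.inv y hy).2 (h.inv z hz).2 he
    obtain ⟨-, hw1⟩ := CfsgLib.Involutions.orderOf_eq_two_iff'.mp (CfsgLib.Involutions.orderOf_half he)
    set w := (y * z) ^ (orderOf (y * z) / 2) with hw
    have hwy : w * y ∈ Z := h.pow_mul_mem hy hz _
    have hne' : y ≠ w * y := fun e => hw1 (mul_eq_right.mp e.symm)
    have hcomm : y * (w * y) = w * y * y := by rw [← mul_assoc, h1.eq]
    have hprod : y * (w * y) = w := by rw [hcomm, mul_assoc, (h.inv y hy).2, mul_one]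
    have hzc := h.prod_le hy hwy hne' hcomm hc (x := z) (by rw [hprod]; exact h2.eq.symm)
    exact (h.one_fix hz).unique hzc hd
  · intro y hy z hz hne hyz c hc
    obtain ⟨a, ha⟩ := (h.one_fix hy).exists
    have hyz2 : (y * z) * (y * z) = 1 := by
      rw [mul_assoc, ← mul_assoc z, ← hyz, mul_assoc y, (h.inv z hz).2, mul_one, (h.inv y hy).2]
    obtain ⟨m, hm, hmc, hmx⟩ := h.two_cent (Subgroup.zpowers (y * z)) c
      (CfsgLib.AfterFT.CoreSep.zpowers_two hyz2)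
      (fun x hx => mem_stabilizer_iff.mp ((Subgroup.zpowers_le.mpr (mem_stabilizer_iff.mpr hc)) hx))
    have hma := h.prod_le hy hz hne hyz ha (x := m) (hmx _ (Subgroup.mem_zpowers _)).symm
    rwa [(h.one_fix hm).unique hma hmc] at ha

/-- **The criterion for simple groups.** -/
theorem stronglyEmbedded_of_crit (hA : TheoremQ.{u}) [IsSimpleGroup G] (h : Crit M Z) :
    Cfsg.IsStronglyEmbedded M := by
  obtain ⟨-, -, z, hz, hzM, -⟩ := h.sylow
  have hzi := h.inv z hz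
  have hgen : Subgroup.closure Z = ⊤ := by
    have hn : (Subgroup.closure Z).Normal := ⟨fun x hx g => by
      have hle : Subgroup.closure Z ≤ (Subgroup.closure Z).comap (MulAut.conj g).toMonoidHom :=
        (Subgroup.closure_le _).mpr fun y hy => Subgroup.subset_closure (h.conj y hy g)
      exact hle hx⟩
    exact hn.eq_bot_or_eq_top.resolve_left fun e =>
      hzi.1 (Subgroup.mem_bot.mp (e.le (Subgroup.subset_closure hz)))
  have hcore : M.normalCore = ⊥ :=
    (Subgroup.normalCore_normal M).eq_bot_or_eq_top.resolve_right fun e =>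
      h.ne_top (top_le_iff.mp (e ▸ M.normalCore_le))
  haveI := CfsgLib.Bender.faithful hcore
  refine ⟨h.ne_top, ?_, fun g hg => ?_⟩
  · rw [even_iff_two_dvd, ← orderOf_two hzi]
    exact Subgroup.orderOf_dvd_natCard M hzM
  · refine Nat.not_even_iff_odd.mp fun he => hg ?_
    obtain ⟨x, hx, hxi⟩ := TwoClosed.exists_inv_of_even he
    obtain ⟨c, -, hu⟩ := hA G (G ⧸ M) Z h.hyp x (hgen ▸ Subgroup.mem_top x) hxi
    have e1 := hu ((1 : G) : G ⧸ M) (fix_iff.mpr (by simpa using (Subgroup.mem_inf.mp hx).1))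
    have e2 := hu (g : G ⧸ M) (fix_iff.mpr (by
      obtain ⟨y, hy, he⟩ := (Subgroup.mem_inf.mp hx).2
      rw [← he]
      simpa [mul_assoc] using hy))
    have e3 := QuotientGroup.eq.mp (e1.trans e2.symm)
    simpa using e3

/-- The hypotheses of Aschbacher's criterion. -/
theorem crit_class (hM : M ≠ ⊤) {z : G} (hz : orderOf z = 2) (hzM : z ∈ M)
    (h1 : ∃ S : Sylow 2 G, z ∈ S ∧ ∀ s ∈ S, Commute s z) (h2 : ∀ g : G, g * z * g⁻¹ ∈ M → g ∈ M)
    (h3 : ∀ g : G, Commute z (g * z * g⁻¹) → g * z * g⁻¹ ≠ z →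
      Subgroup.centralizer ({z * (g * z * g⁻¹)} : Set G) ≤ M) : Crit M (conjugatesOf z) := by
  have hzi := isInv_of_orderOf hz
  have hmem : ∀ {x : G}, x ∈ conjugatesOf z → ∃ g, g * z * g⁻¹ = x := fun hx => isConj_iff.mp hx
  refine ⟨hM, fun x hx => ?_, fun x hx g => hx.trans (isConj_iff.mpr ⟨g, rfl⟩), fun x hx => ?_,
    fun x hx hxM g hg => ?_, ?_, fun x hx y hy hxM hyM hne hxy => ?_⟩
  · obtain ⟨g, rfl⟩ := hmem hx
    exact hzi.conj g
  · obtain ⟨g, rfl⟩ := hmem hx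
    exact ⟨g, by simpa [mul_assoc] using hzM⟩
  · obtain ⟨k, rfl⟩ := hmem hx
    have hk := h2 k hxM
    have := h2 (g * k) (by rwa [show g * k * z * (g * k)⁻¹ = g * (k * z * k⁻¹) * g⁻¹ by group])
    simpa [mul_assoc] using mul_mem this (inv_mem hk)
  · obtain ⟨S, -, hS⟩ := h1
    refine ⟨S, fun s hs => h2 s ?_, z, mem_conjugatesOf_self, hzM, hS⟩
    rw [(hS s hs).eq, mul_inv_cancel_right]
    exact hzM
  · obtain ⟨j, rfl⟩ := hmem hx
    obtain ⟨k, rfl⟩ := hmem hy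
    have hj := h2 j hxM
    have e : j⁻¹ * k * z * (j⁻¹ * k)⁻¹ = j⁻¹ * (k * z * k⁻¹) * j := by group
    intro c hc
    have h4 := h3 (j⁻¹ * k) (by
        rw [e]
        calc z * (j⁻¹ * (k * z * k⁻¹) * j) = j⁻¹ * (j * z * j⁻¹ * (k * z * k⁻¹)) * j := by group
          _ = j⁻¹ * (k * z * k⁻¹ * (j * z * j⁻¹)) * j := by rw [hxy]
          _ = _ := by group)
      (by
        rw [e]
        intro h
        refine hne ?_
        calc j * z * j⁻¹ = j * (j⁻¹ * (k * z * k⁻¹) * j) * j⁻¹ := by rw [h]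
          _ = k * z * k⁻¹ := by group)
      (show j⁻¹ * c * j ∈ _ from Subgroup.mem_centralizer_singleton_iff.mpr (by
        rw [e]
        have hc' := Subgroup.mem_centralizer_singleton_iff.mp hc
        calc j⁻¹ * c * j * (z * (j⁻¹ * (k * z * k⁻¹) * j))
            = j⁻¹ * (c * (j * z * j⁻¹ * (k * z * k⁻¹))) * j := by group
          _ = j⁻¹ * (j * z * j⁻¹ * (k * z * k⁻¹) * c) * j := by rw [hc']
          _ = _ := by group))
    have := mul_mem (mul_mem hj h4) (inv_mem hj)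
    simpa [mul_assoc] using this

/-- Aschbacher's criterion. -/
theorem aschbacher (hA : TheoremQ.{u}) [IsSimpleGroup G] (hM : M ≠ ⊤) {z : G} (hz : orderOf z = 2) (hzM : z ∈ M)
    (h1 : ∃ S : Sylow 2 G, z ∈ S ∧ ∀ s ∈ S, Commute s z) (h2 : ∀ g : G, g * z * g⁻¹ ∈ M → g ∈ M)
    (h3 : ∀ g : G, Commute z (g * z * g⁻¹) → g * z * g⁻¹ ≠ z →
      Subgroup.centralizer ({z * (g * z * g⁻¹)} : Set G) ≤ M) : ∃ H : Subgroup G, Cfsg.IsStronglyEmbedded H :=
  ⟨M, stronglyEmbedded_of_crit hA (crit_class hM hz hzM h1 h2 h3)⟩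

omit [Finite G] in
/-- Conjugation carries a centraliser along. -/
theorem conj_comm {g c t : G} (h : c * t = t * c) :
    g * c * g⁻¹ * (g * t * g⁻¹) = g * t * g⁻¹ * (g * c * g⁻¹) := by
  calc g * c * g⁻¹ * (g * t * g⁻¹) = g * (c * t) * g⁻¹ := by group
    _ = g * (t * c) * g⁻¹ := by rw [h]
    _ = _ := by group

/-- The strongly closed subgroup `T`: fusion of a central involution of `T` is controlled by an overgroup of
the normaliser of the Sylow subgroup and of the centralisers. -/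
theorem mem_of_conj_mem {S : Sylow 2 G} {T : Subgroup G} (hT : Cfsg.IsStronglyClosed T (S : Subgroup G))
    (hN : ∀ g ∈ Subgroup.normalizer ((S : Subgroup G) : Set G), g ∈ M) (hSM : (S : Subgroup G) ≤ M)
    (hC : ∀ t ∈ T, IsInv t → Subgroup.centralizer ({t} : Set G) ≤ M) {z : G} (hzT : z ∈ T) (hzi : IsInv z)
    (hS : ∀ s ∈ (S : Subgroup G), Commute s z) {g : G} (hg : g * z * g⁻¹ ∈ M) : g ∈ M := by
  haveI : Fact (Nat.Prime 2) := ⟨Nat.prime_two⟩
  obtain ⟨m, hm, hmS⟩ := exists_conj_sylow hSM (CfsgLib.AfterFT.CoreSep.zpowers_two (hzi.conj g).2)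
    (Subgroup.zpowers_le.mpr hg)
  set k := m * g with hk
  have hkz : k * z * k⁻¹ ∈ T := hT.2 z hzT k (by
    rw [show k * z * k⁻¹ = m * (g * z * g⁻¹) * m⁻¹ by rw [hk]; group]
    exact hmS _ (Subgroup.mem_zpowers _))
  have hSk : ((k • S : Sylow 2 G) : Subgroup G) ≤ M := by
    rintro _ ⟨s, hs, rfl⟩
    exact hC _ hkz (hzi.conj k) (Subgroup.mem_centralizer_singleton_iff.mpr (conj_comm (hS s hs).eq))
  obtain ⟨l, hl⟩ := MulAction.exists_smul_eq ↥M ((k • S).subtype hSk) (S.subtype hSM)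
  have hn : (l : G) * k ∈ Subgroup.normalizer ((S : Subgroup G) : Set G) := by
    refine Sylow.smul_eq_iff_mem_normalizer.mp ?_
    rw [mul_smul]
    refine Sylow.ext (le_antisymm ?_ ?_)
    · rintro _ ⟨y, hy, rfl⟩
      have : l * (⟨y, hSk hy⟩ : M) * l⁻¹ ∈ ((S.subtype hSM : Sylow 2 M) : Subgroup M) := by
        rw [← hl]; exact ⟨_, hy, rfl⟩
      exact this
    · intro y hy
      have h5 : (⟨y, hSM hy⟩ : M) ∈ ((S.subtype hSM : Sylow 2 M) : Subgroup M) := hy
      rw [← hl] at h5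
      obtain ⟨x, hx, he⟩ := h5
      exact ⟨(x : G), hx, congrArg Subtype.val he⟩
  have h6 := mul_mem (mul_mem (inv_mem hm) (inv_mem l.2)) (hN _ hn)
  simpa [hk, mul_assoc] using h6

/-- The hypotheses of the criterion for a strongly closed subgroup. -/
theorem crit_closed (hM : M ≠ ⊤) {S : Sylow 2 G} {T : Subgroup G} (hT : Cfsg.IsStronglyClosed T (S : Subgroup G))
    (hN : ∀ g ∈ Subgroup.normalizer ((S : Subgroup G) : Set G), g ∈ M) (hSM : (S : Subgroup G) ≤ M)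
    (hC : ∀ t ∈ T, IsInv t → Subgroup.centralizer ({t} : Set G) ≤ M) {z : G} (hzT : z ∈ T) (hzi : IsInv z)
    (hS : ∀ s ∈ (S : Subgroup G), Commute s z) : Crit M (conjugatesOf z) := by
  haveI : Fact (Nat.Prime 2) := ⟨Nat.prime_two⟩
  have hzS : z ∈ (S : Subgroup G) := hT.1 hzT
  refine crit_class hM (orderOf_two hzi) (hSM hzS) ⟨S, hzS, hS⟩
    (fun g hg => mem_of_conj_mem hT hN hSM hC hzT hzi hS hg) fun g hc hne x hx => ?_
  have hSC : (S : Subgroup G) ≤ Subgroup.centralizer ({z} : Set G) := fun s hs =>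
    Subgroup.mem_centralizer_singleton_iff.mpr (hS s hs).eq
  obtain ⟨c, hcz, hcy⟩ := exists_conj_sylow hSC (CfsgLib.AfterFT.CoreSep.zpowers_two (hzi.conj g).2)
    (Subgroup.zpowers_le.mpr (Subgroup.mem_centralizer_singleton_iff.mpr hc.eq.symm))
  have hcy' := hcy _ (Subgroup.mem_zpowers (g * z * g⁻¹))
  have hcT : c * (g * z * g⁻¹) * c⁻¹ ∈ T := by
    have h := hT.2 z hzT (c * g) (by rwa [show c * g * z * (c * g)⁻¹ = c * (g * z * g⁻¹) * c⁻¹ by group])
    rwa [show c * g * z * (c * g)⁻¹ = c * (g * z * g⁻¹) * c⁻¹ by group] at h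
  have hu : c * (z * (g * z * g⁻¹)) * c⁻¹ ∈ T := by
    rw [show c * (z * (g * z * g⁻¹)) * c⁻¹ = (c * z * c⁻¹) * (c * (g * z * g⁻¹) * c⁻¹) by group]
    refine mul_mem ?_ hcT
    rw [Subgroup.mem_centralizer_singleton_iff.mp hcz, mul_inv_cancel_right]
    exact hzT
  have hui : IsInv (z * (g * z * g⁻¹)) := ⟨fun e => hne ((inv_eq_of_mul_eq_one_right e).symm.trans hzi.inv), by
    have e := hc.mul_pow 2
    rw [pow_two, pow_two, pow_two, hzi.2, (hzi.conj g).2, one_mul] at e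
    exact e⟩
  have hcM : c ∈ M := hC z hzT hzi hcz
  have h1 : c * x * c⁻¹ ∈ M := hC _ hu (hui.conj c) (Subgroup.mem_centralizer_singleton_iff.mpr
    (conj_comm (Subgroup.mem_centralizer_singleton_iff.mp hx)))
  simpa [mul_assoc] using mul_mem (mul_mem (inv_mem hcM) h1) hcM

/-- A strongly closed subgroup whose involution centralisers generate a proper subgroup. -/
theorem strongly_closed_simple (hA : TheoremQ.{u}) [IsSimpleGroup G] (S : Sylow 2 G) (T : Subgroup G) (hT1 : T ≠ ⊥)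
    (hT : Cfsg.IsStronglyClosed T (S : Subgroup G))
    (hprop : (⨆ t : {t : G // t ∈ T ∧ orderOf t = 2}, Subgroup.centralizer ({(t : G)} : Set G)) ≠ ⊤) :
    ∃ H : Subgroup G, Cfsg.IsStronglyEmbedded H := by
  haveI : Fact (Nat.Prime 2) := ⟨Nat.prime_two⟩
  set J := ⨆ t : {t : G // t ∈ T ∧ orderOf t = 2}, Subgroup.centralizer ({(t : G)} : Set G) with hJ
  have hTn : ∀ g ∈ Subgroup.normalizer ((S : Subgroup G) : Set G), ∀ t ∈ T, g * t * g⁻¹ ∈ T := fun g hg t ht =>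
    hT.2 t ht g ((Subgroup.mem_normalizer_iff.mp hg t).mp (hT.1 ht))
  obtain ⟨z, hzT, hz, hzc⟩ := CfsgLib.Comp.exists_central_in_normal (p := 2) S.isPGroup' hT.1
    (fun s hs => TwoClosed.mem_normalizer_of_conj (hTn s (Subgroup.le_normalizer hs))) hT1
  have hCJ : ∀ t ∈ T, IsInv t → Subgroup.centralizer ({t} : Set G) ≤ J := fun t ht ht2 =>
    le_iSup (fun t : {t : G // t ∈ T ∧ orderOf t = 2} => Subgroup.centralizer ({(t : G)} : Set G))
      ⟨t, ht, orderOf_two ht2⟩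
  have hzi := isInv_of_orderOf hz
  have hSJ : (S : Subgroup G) ≤ J := fun s hs =>
    hCJ z hzT hzi (Subgroup.mem_centralizer_singleton_iff.mpr (hzc s hs))
  have hNJ : ∀ g ∈ Subgroup.normalizer ((S : Subgroup G) : Set G), g ∈ Subgroup.normalizer (J : Set G) := by
    intro g hg
    refine TwoClosed.mem_normalizer_of_conj fun x hx => ?_
    have hle : J ≤ J.comap (MulAut.conj g).toMonoidHom := iSup_le fun t c hc =>
      hCJ (g * t * g⁻¹) (hTn g hg t t.2.1) ((isInv_of_orderOf t.2.2).conj g)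
        (Subgroup.mem_centralizer_singleton_iff.mpr (conj_comm (Subgroup.mem_centralizer_singleton_iff.mp hc)))
    exact hle hx
  have hMtop : Subgroup.normalizer (J : Set G) ≠ ⊤ := fun e => by
    rcases (Subgroup.normalizer_eq_top_iff.mp e).eq_bot_or_eq_top with h | h
    · exact hzi.1 (Subgroup.mem_bot.mp (h ▸ hSJ (hT.1 hzT)))
    · exact hprop h
  exact ⟨_, stronglyEmbedded_of_crit hA (crit_closed hMtop hT hNJ (hSJ.trans Subgroup.le_normalizer)
    (fun t ht ht2 => (hCJ t ht ht2).trans Subgroup.le_normalizer) hzT hzi hzc)⟩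

end CfsgLib.Bender.Q
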