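import Cfsg.Agent.Lib.Bender.Q.B1.Main
import Cfsg.Agent.Lib.Bender.Q.Criterion
import Cfsg.Agent.Lib.Bender.Q.Semi.End
import Cfsg.Agent.Lib.Bender.Q.Full.Base

/-!
Theorem Q from the impossibility of the full case: induction on the order, the case without commuting members, and the
dichotomy.

Blueprint: `blueprint/bender/Q2.md`.
-/

set_option autoImplicit false
set_option linter.unusedSectionVars false
set_option linter.style.haveILetI false

universe u

namespace CfsgLib.Bender.Q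

open MulAction
open CfsgLib.Bender.TwoClosed (IsInv two mem_two smul_conj)

variable {G Ω : Type u} [Group G] [MulAction G Ω] [Finite G] [FaithfulSMul G Ω] {Z : Set G}

omit [Finite G] in
/-- Hypothesis Q for a subgroup containing the members. -/
theorem hyp_subgroup (hQ : Hyp G Ω Z) {H : Subgroup G} (hZ : Z ⊆ H) :
    Hyp H Ω (Subtype.val ⁻¹' Z : Set H) where
  inv z hz := ⟨fun e => (hQ.inv _ hz).1 (congrArg Subtype.val e), Subtype.ext (hQ.inv _ hz).2⟩
  conj z hz g := hQ.conj _ hz g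
  one_fix z hz := hQ.one_fix _ hz
  exists_at c := by
    obtain ⟨z, hz, hzc⟩ := hQ.exists_at c
    exact ⟨⟨z, hZ hz⟩, hz, hzc⟩
  nontriv := hQ.nontriv
  two_cent P a hP hPa := by
    obtain ⟨z, hz, hza, hzP⟩ := hQ.two_cent (P.map H.subtype) a (hP.map _) (by
      rintro _ ⟨x, hx, rfl⟩
      exact hPa x hx)
    exact ⟨⟨z, hZ hz⟩, hz, hza, fun x hx => Subtype.ext (hzP _ ⟨x, hx, rfl⟩)⟩
  odd_mul y hy z hz c d hc hd hne := by
    rw [← Subgroup.orderOf_coe]
    exact hQ.odd_mul _ hy _ hz c d hc hd hne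
  prod_fix y hy z hz hne h c hc :=
    hQ.prod_fix _ hy _ hz (fun e => hne (Subtype.ext e)) (congrArg Subtype.val h) c hc

/-- Without commuting members every involution is a member. -/
theorem mem_of_no_four (hQ : Hyp G Ω Z) (hgen : Subgroup.closure Z = ⊤) (h4 : ¬ FourIn Z (⊤ : Subgroup G)) {x : G}
    (hx : IsInv x) : x ∈ Z := by
  obtain ⟨c, -⟩ := hQ.nontriv.exists_pair_ne
  obtain ⟨i, hi, -⟩ := hQ.exists_at c
  have hii := hQ.inv i hi
  set O := oddRad (⊤ : Subgroup G)
  have hOn : ∀ g : G, g ∈ Subgroup.normalizer (O : Set G) := fun g =>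
    le_normalizer_oddRad _ (by rw [Subgroup.normalizer_eq_top]; exact Subgroup.mem_top g)
  haveI hO : O.Normal := ⟨fun n hn g => (Subgroup.mem_normalizer_iff.mp (hOn g) n).mp hn⟩
  have hsq : ∀ k ∈ Subgroup.zpowers i, k = 1 ∨ k = i := by
    rintro k ⟨t, rfl⟩
    rcases Int.even_or_odd' t with ⟨s, rfl | rfl⟩
    · exact Or.inl (by simp only; rw [zpow_mul, zpow_two, hii.2, one_zpow])
    · exact Or.inr (by simp only; rw [zpow_add, zpow_mul, zpow_two, hii.2, one_zpow, one_mul, zpow_one])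
  have hZ : Z ⊆ ((O ⊔ Subgroup.zpowers i : Subgroup G) : Set G) := by
    intro z hz
    have hzi := hQ.inv z hz
    obtain ⟨n, he⟩ := exists_pow_conj hzi hii
      (odd_mul_of_no_four hQ h4 (Subgroup.mem_top _) (Subgroup.mem_top _) hi hz)
    set k := (i * z) ^ n
    have h1 := comm_mem_of_no_four hQ h4 hz (Subgroup.mem_top z) (Subgroup.mem_top k)
    rw [show z * k * z * k⁻¹ = z * (k * z * k⁻¹) by group, he] at h1
    have h2 := Subgroup.mul_mem _ (Subgroup.mem_sup_left (T := Subgroup.zpowers i) h1)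
      (Subgroup.mem_sup_right (Subgroup.mem_zpowers i))
    rwa [mul_assoc, hii.2, mul_one] at h2
  have hxS : x ∈ O ⊔ Subgroup.zpowers i := (hgen ▸ (Subgroup.closure_le _).mpr hZ) (Subgroup.mem_top x)
  obtain ⟨o, ho, k, hk, rfl⟩ := Subgroup.mem_sup_of_normal_left.mp hxS
  rcases hsq k hk with rfl | rfl
  · exfalso
    rw [mul_one] at hx
    have h2 : Odd (orderOf o) := (odd_oddRad _).of_dvd_nat (Subgroup.orderOf_dvd_natCard O ho)
    rw [orderOf_eq_prime (p := 2) (by rw [pow_two]; exact hx.2) hx.1] at h2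
    exact absurd h2 (by decide)
  · obtain ⟨g, hg⟩ := exists_pow_conj hii hx
      (by rw [mul_assoc, hii.2, mul_one]; exact (odd_oddRad _).of_dvd_nat (Subgroup.orderOf_dvd_natCard O ho))
    exact hg ▸ hQ.conj _ hi _

/-- Theorem Q, given that the full case is impossible. -/
theorem theoremQ_of_full
    (hfull : ∀ (G Ω : Type u) [Group G] [MulAction G Ω] [Finite G] [FaithfulSMul G Ω] (Z : Set G),
      FCtx G Ω Z → False) : TheoremQ.{u} := by
  suffices h : ∀ n, Below.{u} n by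
    intro K Δ _ _ _ _ Z hQ
    exact h (Nat.card K + 1) K Δ Z hQ (Nat.lt_succ_self _)
  intro n
  induction n with
  | zero => intro K Δ _ _ _ _ Z _ h; exact absurd h (Nat.not_lt_zero _)
  | succ n ih =>
  intro K Δ _ _ _ _ Z hQ hn x hxZ hx
  rcases Nat.lt_succ_iff_lt_or_eq.mp hn with h | h
  · exact ih K Δ Z hQ h x hxZ hx
  subst h
  by_cases hgen : Subgroup.closure Z = ⊤
  swap
  · set H := Subgroup.closure Z
    have hlt : Nat.card H < Nat.card K :=
      lt_of_le_of_ne (Subgroup.card_le_card_group H) fun e => hgen ((Subgroup.card_eq_iff_eq_top H).mp e)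
    exact ih H Δ (Subtype.val ⁻¹' Z) (hyp_subgroup hQ Subgroup.subset_closure) hlt ⟨x, hxZ⟩
      (by rw [Subgroup.closure_closure_coe_preimage]; exact Subgroup.mem_top _)
      ⟨fun e => hx.1 (congrArg Subtype.val e), Subtype.ext hx.2⟩
  by_cases h4 : FourIn Z (⊤ : Subgroup K)
  swap
  · exact hQ.one_fix x (mem_of_no_four hQ hgen h4 hx)
  have hX := ctx_of_below hQ h4 ih hgen
  haveI := finite_points hQ
  by_cases hB : IsB Δ x
  · exfalso
    rcases full_or hX with hf | ⟨h1, h2, h3⟩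
    · refine hfull K Δ Z ⟨hX, fun y hy z hz c hyc hzc => ?_, hf, x, hB⟩
      obtain ⟨a, -, -, ha, -⟩ := hB.2
      haveI := pretransitive hQ
      obtain ⟨g, hg⟩ := exists_smul_eq K a c
      have hu := hB.conj g
      have huc : (g * x * g⁻¹) • c = c := hg ▸ smul_conj ha
      exact commute_at hX hu huc ⟨hy, hf _ hu c huc y hy hyc, hyc⟩ ⟨hz, hf _ hu c huc z hz hzc, hzc⟩
    · exact false_of_semi hX ⟨h1, h2, h3⟩ hB
  · obtain ⟨a, -⟩ := hQ.nontriv.exists_pair_ne
    obtain ⟨z, hz, hza⟩ := hQ.exists_at a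
    have hodd : Odd (fixN Δ x) := by
      have h1 : fixN Δ z = 1 := by
        rw [fixN, Set.ncard_eq_one]
        exact ⟨a, Set.eq_singleton_iff_unique_mem.mpr ⟨hza, fun c hc => eq_of_fix hQ hz hc hza⟩⟩
      have h2 : fixN Δ x ≡ 1 [MOD 2] := (fixN_parity hx).trans (h1 ▸ (fixN_parity (Ω := Δ) (hQ.inv z hz)).symm)
      exact Nat.odd_iff.mpr h2
    obtain ⟨c, hc⟩ : {c : Δ | x • c = c}.Nonempty := (Set.ncard_pos (Set.toFinite _)).mp hodd.pos
    exact ⟨c, hc, fun d hd => by_contra fun hne => hB ⟨hx, d, c, hne, hd, hc⟩⟩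

end CfsgLib.Bender.Q
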