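import Cfsg.Agent.Lib.Bender.Q.Criterion
import Cfsg.Agent.Lib.Bender.Q.Reduce
import Cfsg.Agent.Lib.Bender.Q.Full.Main

/-!
Theorem Q.

Blueprint: `blueprint/bender/Q.md`.
-/

set_option autoImplicit false

universe u

namespace CfsgLib.Bender.Q

/-- Theorem Q: under hypothesis Q every involution of the subgroup generated by the members fixes exactly one
point. -/
theorem theoremQ : TheoremQ.{u} :=
  theoremQ_of_full fun _ _ _ _ _ _ _ h => h.false_full

end CfsgLib.Bender.Q
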