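import Cfsg.Agent.Lib.Bender.OneFix.Basic
import Cfsg.Agent.Lib.Bender.TwoClosed.Tools
import Cfsg.Agent.Lib.ZStar.Main
import Cfsg.Prelude.Def_TwoFusion
import Cfsg.Prelude.Def_CaseTheorems

/-!
Hypothesis Q: a class of involutions, each fixing exactly one point, of which commuting members share their point,
and first facts.

Blueprint: `blueprint/bender/Q.md` I, `blueprint/bender/Q_B1.md` 0.1 and 0.2.
-/

set_option autoImplicit false
set_option linter.unusedSectionVars false
set_option linter.style.haveILetI false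

universe u v

namespace CfsgLib.Bender.Q

open MulAction
open CfsgLib.Bender.TwoClosed (IsInv two mem_two smul_conj)

/-- Hypothesis Q for the set `Z` of members. -/
structure Hyp (G : Type u) (Ω : Type v) [Group G] [MulAction G Ω] (Z : Set G) : Prop where
  inv : ∀ z ∈ Z, IsInv z
  conj : ∀ z ∈ Z, ∀ g : G, g * z * g⁻¹ ∈ Z
  one_fix : ∀ z ∈ Z, ∃! c : Ω, z • c = c
  exists_at : ∀ c : Ω, ∃ z ∈ Z, z • c = c
  nontriv : Nontrivial Ω
  /-- A `2`-subgroup fixing a point centralises a member at that point. -/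
  two_cent : ∀ (P : Subgroup G) (a : Ω), IsPGroup 2 P → (∀ x ∈ P, x • a = a) →
    ∃ z ∈ Z, z • a = a ∧ ∀ x ∈ P, x * z = z * x
  /-- Members at different points have an odd product. -/
  odd_mul : ∀ y ∈ Z, ∀ z ∈ Z, ∀ c d : Ω, y • c = c → z • d = d → c ≠ d → Odd (orderOf (y * z))
  /-- The product of distinct commuting members fixes only their point. -/
  prod_fix : ∀ y ∈ Z, ∀ z ∈ Z, y ≠ z → y * z = z * y → ∀ c : Ω, (y * z) • c = c → y • c = c

variable {G : Type u} {Ω : Type v} [Group G] [MulAction G Ω] {Z : Set G}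

/-- The members fixing `a`. -/
abbrev MemAt (Z : Set G) (a : Ω) : Type u := {x : G // x ∈ Z ∧ x • a = a}

/-- The members mapping `a` to `b`. -/
abbrev Swp (Z : Set G) (a b : Ω) : Type u := {x : G // x ∈ Z ∧ x • a = b}

/-- Two commuting involutions with product of odd order coincide. -/
theorem eq_of_commute_odd {x y : G} (hx : IsInv x) (hy : IsInv y) (h : x * y = y * x)
    (hodd : Odd (orderOf (x * y))) : x = y := by
  have h1 : x * y = 1 := CfsgLib.Bender.TwoClosed.eq_one_of_two_odd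
    ((Commute.mul_pow h 2).trans (by rw [pow_two, pow_two, hx.2, hy.2, one_mul])) hodd
  exact (mul_eq_one_iff_eq_inv.mp h1).trans hy.inv

variable (hQ : Hyp G Ω Z)
include hQ

theorem conj_member {u : G} (hu : u ∈ Z) {z : G} (hz : z ∈ Z) : u * z * u ∈ Z := by
  have h := hQ.conj z hz u
  rwa [(hQ.inv u hu).inv] at h

theorem eq_of_fix {x : G} (hx : x ∈ Z) {c d : Ω} (hc : x • c = c) (hd : x • d = d) : c = d :=
  (hQ.one_fix x hx).unique hc hd

theorem exists_fix {x : G} (hx : x ∈ Z) : ∃ c : Ω, x • c = c := (hQ.one_fix x hx).exists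

theorem commute_fix {x g : G} (hx : x ∈ Z) {c : Ω} (hc : x • c = c) (h : g * x = x * g) : g • c = c :=
  eq_of_fix hQ hx (by rw [← mul_smul, ← h, mul_smul, hc]) hc

/-- An element commuting with a member as far as `Ω` sees it fixes its point. -/
theorem fix_of_fixed {x g : G} (hx : x ∈ Z) {c : Ω} (hc : x • c = c) (h : x * g * x = g) : g • c = c :=
  commute_fix hQ hx hc (by
    calc g * x = x * g * x * x := by rw [h]
      _ = x * g := by rw [mul_assoc, (hQ.inv x hx).2, mul_one])

theorem exists_ne_point (a : Ω) : ∃ b : Ω, b ≠ a := by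
  haveI := hQ.nontriv
  exact exists_ne a

/-- The products of two members inside the dihedral group they generate. -/
theorem pow_mul_mem {x y : G} (hx : x ∈ Z) (hy : y ∈ Z) : ∀ k : ℕ, (x * y) ^ k * x ∈ Z := by
  have hxy : x * (x * y)⁻¹ = x * y * x := by
    rw [mul_inv_rev, (hQ.inv x hx).inv, (hQ.inv y hy).inv, mul_assoc]
  intro k
  induction k using Nat.twoStepInduction with
  | zero => rwa [pow_zero, one_mul]
  | one => rw [pow_one]; exact conj_member hQ hx hy
  | more n ih _ =>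
    have h := hQ.conj _ ih (x * y)
    rwa [← mul_assoc, ← pow_succ', mul_assoc _ x, hxy, ← mul_assoc, ← pow_succ] at h

variable [Finite G]

/-- Distinct commuting members share their point. -/
theorem eq_point_of_commute {y z : G} (hy : y ∈ Z) (hz : z ∈ Z) (h : y * z = z * y) {c d : Ω} (hc : y • c = c)
    (hd : z • d = d) : c = d := by
  by_contra hne
  have e := eq_of_commute_odd (hQ.inv y hy) (hQ.inv z hz) h (hQ.odd_mul y hy z hz c d hc hd hne)
  exact hne (eq_of_fix hQ hy hc (e ▸ hd))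

theorem swap_points {i j u : G} {c d : Ω} (hc : i • c = c) (hj : j ∈ Z) (hd : j • d = d)
    (hu : u ∈ Z) (he : u * i * u = j) : u • c = d ∧ u • d = c := by
  have h1 : u • c = d := by
    refine eq_of_fix hQ hj ?_ hd
    rw [← he, mul_smul, mul_smul, (hQ.inv u hu).smul_twice, hc]
  exact ⟨h1, by rw [← h1, (hQ.inv u hu).smul_twice]⟩

theorem exists_swap_conj {i j : G} {c d : Ω} (hi : i ∈ Z) (hc : i • c = c) (hj : j ∈ Z)
    (hd : j • d = d) (hne : c ≠ d) : ∃ u ∈ Z, u * i * u = j ∧ u ∈ Subgroup.closure ({i, j} : Set G) := by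
  obtain ⟨l, hl⟩ := hQ.odd_mul i hi j hj c d hc hd hne
  have hi' := hQ.inv i hi
  have hj' := hQ.inv j hj
  have hpow : (i * j) ^ (l + l) = j * i := by
    have h1 : (i * j) * (i * j) ^ (l + l) = 1 := by
      rw [← pow_succ', ← two_mul, ← hl, pow_orderOf_eq_one]
    rw [← inv_eq_of_mul_eq_one_right h1, mul_inv_rev, hi'.inv, hj'.inv]
  refine ⟨_, pow_mul_mem hQ hi hj l, ?_, mul_mem (pow_mem (mul_mem (Subgroup.subset_closure (Set.mem_insert i {j}))
      (Subgroup.subset_closure (Set.mem_insert_of_mem i (Set.mem_singleton j)))) _)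
      (Subgroup.subset_closure (Set.mem_insert i {j}))⟩
  rw [mul_assoc _ i i, hi'.2, mul_one, ← mul_assoc, ← pow_add, hpow, mul_assoc, hi'.2, mul_one]

theorem exists_swap {c d : Ω} (hne : c ≠ d) : ∃ u ∈ Z, u • c = d ∧ u • d = c := by
  obtain ⟨i, hi, hc⟩ := hQ.exists_at c
  obtain ⟨j, hj, hd⟩ := hQ.exists_at d
  obtain ⟨u, hu, he, -⟩ := exists_swap_conj hQ hi hc hj hd hne
  exact ⟨u, hu, swap_points hQ hc hj hd hu he⟩

theorem pretransitive : IsPretransitive G Ω := ⟨fun c d => by
  rcases eq_or_ne c d with e | e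
  · exact ⟨1, by rw [one_smul, e]⟩
  · obtain ⟨u, -, hu, -⟩ := exists_swap hQ e
    exact ⟨u, hu⟩⟩

theorem finite_points : Finite Ω := by
  haveI := pretransitive hQ
  haveI := hQ.nontriv
  exact Finite.of_surjective (fun g : G => g • Classical.arbitrary Ω) (exists_smul_eq G _)

/-- All members are conjugate. -/
theorem exists_conj {i j : G} (hi : i ∈ Z) (hj : j ∈ Z) : ∃ g : G, g * i * g⁻¹ = j := by
  obtain ⟨c, hc⟩ := exists_fix hQ hi
  obtain ⟨e, he⟩ := exists_ne_point hQ c
  obtain ⟨k, hk, hke⟩ := hQ.exists_at e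
  obtain ⟨u, hu, hui, -⟩ := exists_swap_conj hQ hi hc hk hke he.symm
  obtain ⟨d, hd⟩ := exists_fix hQ hj
  have key : ∀ {x y : G} {p q : Ω}, x ∈ Z → x • p = p → y ∈ Z → y • q = q → p ≠ q →
      ∃ g : G, g * x * g⁻¹ = y := fun hx hp hy hq hne => by
    obtain ⟨w, hw, hwe, -⟩ := exists_swap_conj hQ hx hp hy hq hne
    exact ⟨w, by rwa [(hQ.inv w hw).inv]⟩
  rcases eq_or_ne e d with rfl | hed
  · exact key hi hc hj hd he.symm
  · obtain ⟨g, hg⟩ := key hk hke hj hd hed
    refine ⟨g * u, ?_⟩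
    rw [← hg, ← hui, mul_inv_rev, (hQ.inv u hu).inv]
    group

/-- An odd order element inverted by a member commutes with no member whose point that member moves. -/
theorem inverted_commute {x u y : G} (hu : u ∈ Z) (hx : x ∈ Z) (hy : Odd (orderOf y))
    (hinv : u * y * u = y⁻¹) (hxy : y * x = x * y) {c : Ω} (hxc : x • c = c) (hne : u • c ≠ c) : y = 1 := by
  obtain ⟨e, he⟩ := exists_fix hQ hu
  have hu' := hQ.inv u hu
  have hx' := hQ.inv x hx
  have hodd := hQ.odd_mul u hu x hx e c he hxc (fun h => hne (h ▸ he))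
  have h2 : (u * x) * y * (u * x)⁻¹ = y⁻¹ := by
    rw [mul_inv_rev, hu'.inv, hx'.inv, ← hinv]
    calc u * x * y * (x * u) = u * (x * y) * x * u := by group
      _ = u * (y * x) * x * u := by rw [hxy]
      _ = u * y * (x * x) * u := by group
      _ = u * y * u := by rw [hx'.2, mul_one]
  obtain ⟨n, hn⟩ := CfsgLib.Involutions.exists_sqrt hodd
  have h3 : ((u * x) * (u * x)) * y * ((u * x) * (u * x))⁻¹ = y := by
    calc ((u * x) * (u * x)) * y * ((u * x) * (u * x))⁻¹
        = (u * x) * ((u * x) * y * (u * x)⁻¹) * (u * x)⁻¹ := by group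
      _ = ((u * x) * y * (u * x)⁻¹)⁻¹ := by
          conv_lhs => rw [h2]
          group
      _ = y := by rw [h2, inv_inv]
  have h4 : Commute ((u * x) * (u * x)) y := mul_inv_eq_iff_eq_mul.mp h3
  have h5 : Commute (u * x) y := by
    have := h4.pow_left n
    rwa [(Commute.refl (u * x)).mul_pow, hn] at this
  refine CfsgLib.Bender.TwoClosed.eq_one_of_inv_eq ?_ hy
  rw [← h2, h5.eq, mul_inv_cancel_right]

/-- Members exchanging the same two points have an odd product. -/
theorem odd_swap {a b : Ω} (hb : b ≠ a) {c c' : G} (hc : c ∈ Z) (hca : c • a = b) (hc' : c' ∈ Z)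
    (hca' : c' • a = b) : Odd (orderOf (c * c')) := by
  by_contra hodd
  rw [Nat.not_odd_iff_even] at hodd
  have hci := hQ.inv c hc
  have hci' := hQ.inv c' hc'
  obtain ⟨h1, -⟩ := CfsgLib.Involutions.central_half hci.2 hci'.2 hodd
  obtain ⟨-, hw1⟩ := CfsgLib.Involutions.orderOf_eq_two_iff'.mp (CfsgLib.Involutions.orderOf_half hodd)
  set w := (c * c') ^ (orderOf (c * c') / 2) with hw
  have hwa : w • a = a := by
    refine mem_stabilizer_iff.mp (pow_mem (mem_stabilizer_iff.mpr ?_) _)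
    rw [mul_smul, hca', ← hca, hci.smul_twice]
  have hwc : w * c ∈ Z := pow_mul_mem hQ hc hc' _
  have hcomm : c * (w * c) = w * c * c := by rw [← mul_assoc, ← h1.eq]
  have hne : c ≠ w * c := fun e => hw1 (mul_eq_right.mp e.symm)
  refine hb ((hca.symm.trans (hQ.prod_fix c hc _ hwc hne hcomm a ?_)))
  rwa [hcomm, mul_assoc, hci.2, mul_one]

theorem swap_unique {i u u' : G} {c d : Ω} (hi : i ∈ Z) (hc : i • c = c) (hne : c ≠ d) (hu : u ∈ Z)
    (hu' : u' ∈ Z) (hj : (u * i * u) • d = d) (he : u' * i * u' = u * i * u) : u' = u := by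
  obtain ⟨h1, -⟩ := swap_points hQ hc (conj_member hQ hu hi) hj hu rfl
  obtain ⟨h3, -⟩ := swap_points hQ hc (conj_member hQ hu hi) hj hu' he
  have hui := hQ.inv u hu
  have hui' := hQ.inv u' hu'
  have hcomm : (u' * u) * i = i * (u' * u) := by
    calc (u' * u) * i = u' * (u * i * u) * u := by simp [mul_assoc, hui.2]
      _ = u' * (u' * i * u') * u := by rw [he]
      _ = i * (u' * u) := by simp [← mul_assoc, hui'.2]
  have hinv : u * (u' * u) * u = (u' * u)⁻¹ := by
    rw [mul_inv_rev, hui.inv, hui'.inv, mul_assoc, mul_assoc u' u u, hui.2, mul_one]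
  have := inverted_commute hQ hu hi (odd_swap hQ hne.symm hu' h3 hu h1) hinv hcomm hc
    (by rw [h1]; exact hne.symm)
  rw [mul_eq_one_iff_eq_inv, hui.inv] at this
  exact this

theorem card_memAt_eq (c a : Ω) : Nat.card (MemAt Z c) = Nat.card (MemAt Z a) := by
  haveI := pretransitive hQ
  obtain ⟨g, rfl⟩ := exists_smul_eq G a c
  exact Nat.card_congr
    { toFun := fun x => ⟨g⁻¹ * x * g, by simpa using hQ.conj _ x.2.1 g⁻¹, by
        rw [mul_smul, mul_smul, x.2.2, inv_smul_smul]⟩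
      invFun := fun x => ⟨g * x * g⁻¹, hQ.conj _ x.2.1 g, smul_conj x.2.2⟩
      left_inv := fun x => Subtype.ext (by simp [mul_assoc])
      right_inv := fun x => Subtype.ext (by simp [mul_assoc]) }

theorem card_swp {a b : Ω} (hb : b ≠ a) : Nat.card (Swp Z a b) = Nat.card (MemAt Z a) := by
  obtain ⟨i, hi, hia⟩ := hQ.exists_at a
  rw [← card_memAt_eq hQ b a]
  refine Nat.card_eq_of_bijective (fun u : Swp Z a b => (⟨u.1 * i * u.1, conj_member hQ u.2.1 hi, ?_⟩ : MemAt Z b))
    ⟨?_, ?_⟩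
  · rw [mul_smul, mul_smul, (hQ.inv _ u.2.1).swap_back u.2.2, hia, u.2.2]
  · intro u u' h
    have h' : u.1 * i * u.1 = u'.1 * i * u'.1 := congrArg Subtype.val h
    refine Subtype.ext (swap_unique hQ hi hia hb.symm u'.2.1 u.2.1 ?_ h')
    rw [mul_smul, mul_smul, (hQ.inv _ u'.2.1).swap_back u'.2.2, hia, u'.2.2]
  · rintro ⟨j, hj, hjb⟩
    obtain ⟨u, hu, he, -⟩ := exists_swap_conj hQ hi hia hj hjb hb.symm
    exact ⟨⟨u, hu, (swap_points hQ hia hj hjb hu he).1⟩, Subtype.ext he⟩

end CfsgLib.Bender.Q
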