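import Cfsg.Agent.Lib.Bender.Q.Ctx
import Cfsg.Agent.Lib.Bender.Q.B1.Top

/-!
The members commuting with an involution with two fixed points: their centres are its fixed points, those at one point
commute, their number `e` is independent of the point, `e + 1` is a power of two and the fixed points number
`q + 1`, `q ^ 2 + 1` or `q ^ 3 + 1` when `e + 1 = q > 2`.

Blueprint: `blueprint/bender/Q2.md`, setting.
-/

set_option autoImplicit false
set_option linter.unusedSectionVars false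
set_option linter.style.haveILetI false

universe u

namespace CfsgLib.Bender.Q

open MulAction Cfsg CfsgLib.SuzukiRankOne
open CfsgLib.Bender.TwoClosed (IsInv InvAt two mem_two smul_conj)

variable {G Ω : Type u} [Group G] [MulAction G Ω] {Z : Set G}

/-- The members at `a` commuting with `u`. -/
def eSet (Z : Set G) (u : G) (a : Ω) : Set G := {z | z ∈ Z ∧ u * z = z * u ∧ z • a = a}

/-- The number of members at `a` commuting with `u`. -/
noncomputable def eAt (Z : Set G) (u : G) (a : Ω) : ℕ := (eSet Z u a).ncard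

/-- The members commuting with `u` mapping `a` to `b`. -/
def sSet (Z : Set G) (u : G) (a b : Ω) : Set G := {w | w ∈ Z ∧ u * w = w * u ∧ w • a = b}

/-- The number of members commuting with `u` mapping `a` to `b`. -/
noncomputable def sAt (Z : Set G) (u : G) (a b : Ω) : ℕ := (sSet Z u a b).ncard

theorem mem_cent_iff {u z : G} : z ∈ Subgroup.centralizer ({u} : Set G) ↔ u * z = z * u :=
  Subgroup.mem_centralizer_singleton_iff.trans eq_comm

theorem eAt_conj (hQ : Hyp G Ω Z) (g u : G) (a : Ω) : eAt Z (g * u * g⁻¹) (g • a) = eAt Z u a := by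
  rw [eAt, eAt, ← Set.ncard_image_of_injective (eSet Z u a) (MulAut.conj g).injective]
  congr 1
  ext z
  constructor
  · rintro ⟨hz, hzu, hza⟩
    refine ⟨g⁻¹ * z * g⁻¹⁻¹, ⟨hQ.conj z hz _, ?_, ?_⟩, by simp [mul_assoc]⟩
    · calc u * (g⁻¹ * z * g⁻¹⁻¹) = g⁻¹ * ((g * u * g⁻¹) * z) * g := by group
        _ = g⁻¹ * z * g⁻¹⁻¹ * u := by rw [hzu]; group
    · have := smul_conj (g := g⁻¹) hza
      rwa [inv_smul_smul] at this
  · rintro ⟨w, ⟨hw, hwu, hwa⟩, rfl⟩
    refine ⟨hQ.conj w hw g, ?_, smul_conj hwa⟩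
    show g * u * g⁻¹ * (g * w * g⁻¹) = g * w * g⁻¹ * (g * u * g⁻¹)
    rw [conj_mul, hwu, conj_mul]

variable [Finite G] (hQ : Hyp G Ω Z)
include hQ

theorem exists_cent_at {u : G} (hu : IsInv u) {a : Ω} (ha : u • a = a) :
    ∃ z ∈ Z, u * z = z * u ∧ z • a = a := by
  obtain ⟨z, hz, hza, hzu⟩ := hQ.two_cent _ a (isPGroup_zpowers hu) (fix_of_zpowers ha)
  exact ⟨z, hz, hzu u (Subgroup.mem_zpowers u), hza⟩

/-- The centres of the centraliser of an involution are its fixed points. -/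
theorem centres_cent {u : G} (hu : IsInv u) :
    centres Ω Z (Subgroup.centralizer ({u} : Set G)) = {c : Ω | u • c = c} := by
  ext c
  constructor
  · rintro ⟨x, hx, hxZ, hxc⟩
    exact commute_fix hQ hxZ hxc (mem_cent_iff.mp hx)
  · intro hc
    obtain ⟨z, hz, hzu, hzc⟩ := exists_cent_at hQ hu hc
    exact mem_centres (mem_cent_iff.mpr hzu) hz hzc

theorem eAt_pos {u : G} (hu : IsInv u) {a : Ω} (ha : u • a = a) : 0 < eAt Z u a := by
  obtain ⟨z, hz⟩ := exists_cent_at hQ hu ha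
  exact (Set.ncard_pos (Set.toFinite _)).mpr ⟨z, hz⟩

/-- In the centraliser of `v` the members exchanging two of its fixed points match those at one of them. -/
theorem sAt_eq_eAt {v : G} (hv : IsInv v) {a b : Ω} (hb : b ≠ a) (hva : v • a = a) :
    sAt Z v a b = eAt Z v b := by
  obtain ⟨i, hi, hvi, hia⟩ := exists_cent_at hQ hv hva
  refine Set.ncard_congr (fun w _ => w * i * w) ?_ ?_ ?_
  · rintro w ⟨hw, hwv, hwa⟩
    refine ⟨conj_member hQ hw hi, ?_, ?_⟩
    · calc v * (w * i * w) = (v * w) * (i * w) := by group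
        _ = w * ((v * i) * w) := by rw [hwv]; group
        _ = w * (i * (v * w)) := by rw [hvi, mul_assoc]
        _ = w * i * w * v := by rw [hwv]; group
    · rw [mul_smul, mul_smul, (hQ.inv _ hw).swap_back hwa, hia, hwa]
  · rintro w w' ⟨hw, -, hwa⟩ ⟨hw', -, -⟩ h
    have hwb : (w * i * w) • b = b := by
      rw [mul_smul, mul_smul, (hQ.inv _ hw).swap_back hwa, hia, hwa]
    exact swap_unique hQ hi hia hb.symm hw' hw (h ▸ hwb) h
  · rintro j ⟨hj, hjv, hjb⟩
    obtain ⟨w, hw, he, hcl⟩ := exists_swap_conj hQ hi hia hj hjb hb.symm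
    refine ⟨w, ⟨hw, ?_, (swap_points hQ hia hj hjb hw he).1⟩, he⟩
    refine mem_cent_iff.mp ((Subgroup.closure_le _).mpr ?_ hcl)
    rintro _ (rfl | rfl)
    · exact mem_cent_iff.mpr hvi
    · exact mem_cent_iff.mpr hjv

variable [FaithfulSMul G Ω]

/-- The number of members commuting with `u` is the same at all its fixed points. -/
theorem eAt_eq {u : G} (hu : IsB Ω u) {a b : Ω} (ha : u • a = a) (hb : u • b = b) : eAt Z u a = eAt Z u b := by
  obtain ⟨hi, p, q, hpq, hp, hq⟩ := hu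
  obtain ⟨x, hx, hxu, hxa⟩ := exists_cent_at hQ hi ha
  obtain ⟨y, hy, hyu, hyb⟩ := exists_cent_at hQ hi hb
  obtain ⟨g, hg, hge⟩ := exists_conj_cent hQ hi hpq hp hq hx hxu hy hyu
  have hgu : g * u * g⁻¹ = u := by rw [← hg, mul_inv_cancel_right]
  have hgab : g • a = b := eq_of_fix hQ hy (hge ▸ smul_conj hxa) hyb
  rw [← eAt_conj hQ g u a, hgu, hgab]

theorem odd_eAt {u : G} (hu : IsInv u) {a : Ω} (ha : u • a = a) : Odd (eAt Z u a) := by
  obtain ⟨z, hz, hzu, hza⟩ := exists_cent_at hQ hu ha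
  have h := odd_memIn hQ (X := Subgroup.centralizer ({u} : Set G)) hz (mem_cent_iff.mpr hzu) hza
  rwa [eAt, ← Nat.card_coe_set_eq, Nat.card_congr (Equiv.subtypeEquivRight (q := fun y => y ∈ Z ∧
    y ∈ Subgroup.centralizer ({u} : Set G) ∧ y • a = a) fun y => ?_)]
  show y ∈ Z ∧ u * y = y * u ∧ y • a = a ↔ _
  rw [mem_cent_iff]

variable (hX : Ctx G Ω Z) {u : G} (hu : IsB Ω u)
include hX hu

omit hQ in
theorem cent_ne_top : Subgroup.centralizer ({u} : Set G) ≠ ⊤ := fun e => hu.1.1 <| by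
  refine eq_of_smul_eq_smul (α := Ω) fun c => ?_
  rw [one_smul]
  obtain ⟨z, hz, hzc⟩ := hX.hyp.exists_at c
  exact commute_fix hX.hyp hz hzc (mem_cent_iff.mp (e ▸ Subgroup.mem_top z))

omit hQ in
theorem exists_fix_ne (a : Ω) : ∃ b : Ω, b ≠ a ∧ u • b = b := by
  obtain ⟨-, p, q, hpq, hp, hq⟩ := hu
  rcases eq_or_ne p a with rfl | h
  · exact ⟨q, hpq.symm, hq⟩
  · exact ⟨p, h, hp⟩

omit hQ in
/-- Without commuting members in its centraliser `u` commutes with one member at each fixed point. -/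
theorem eAt_eq_one_of_no_four (h4 : ¬ FourIn Z (Subgroup.centralizer ({u} : Set G))) {a : Ω} (ha : u • a = a) :
    eAt Z u a = 1 := by
  obtain ⟨x, hx, hxu, hxa⟩ := exists_cent_at hX.hyp hu.1 ha
  refine Set.ncard_eq_one.mpr ⟨x, Set.eq_singleton_iff_unique_mem.mpr ⟨⟨hx, hxu, hxa⟩, ?_⟩⟩
  rintro y ⟨hy, hyu, hya⟩
  have hxC := mem_cent_iff.mpr hxu
  have hyC := mem_cent_iff.mpr hyu
  have hodd := odd_mul_of_no_four hX.hyp h4 hxC hyC hx hy
  obtain ⟨b, hb, hbu⟩ := exists_fix_ne hX hu a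
  obtain ⟨z, hz, hzu, hzb⟩ := exists_cent_at hX.hyp hu.1 hbu
  obtain ⟨c, hca, hc⟩ := inverted_fix_one hX.hyp h4 hx hxC hxa ⟨b, mem_centres (mem_cent_iff.mpr hzu) hz hzb, hb⟩
  have hja : (x * y) • a = a := by rw [mul_smul, hya, hxa]
  have hinv : x * (x * y) * x = (x * y)⁻¹ := by
    rw [mul_inv_rev, (hX.hyp.inv x hx).inv, (hX.hyp.inv y hy).inv, ← mul_assoc x x, (hX.hyp.inv x hx).2, one_mul]
  have h := hX.noBad x hx (x * y) a c hxa hinv hodd hja hca (hc _ (mul_mem hxC hyC) hja hinv hodd)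
  rw [mul_eq_one_iff_eq_inv, (hX.hyp.inv y hy).inv] at h
  exact h.symm

omit hQ in
theorem four_of_eAt_ne_one {a : Ω} (ha : u • a = a) (he : eAt Z u a ≠ 1) :
    FourIn Z (Subgroup.centralizer ({u} : Set G)) :=
  by_contra fun h4 => he (eAt_eq_one_of_no_four hX hu h4 ha)

omit hQ in
theorem isTop_cent (h4 : FourIn Z (Subgroup.centralizer ({u} : Set G))) :
    IsTop Ω Z (Subgroup.centralizer ({u} : Set G)) := by
  refine ⟨cent_ne_top hX hu, h4, ?_⟩
  obtain ⟨hi, p, q, hpq, hp, hq⟩ := hu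
  rw [centres_cent hX.hyp hi]
  exact ⟨p, q, hp, hq, hpq.symm⟩

omit hQ in
theorem centres_memGrp_cent : centres Ω Z (memGrp Z (Subgroup.centralizer ({u} : Set G))) = {c : Ω | u • c = c} := by
  rw [centres_memGrp, centres_cent hX.hyp hu.1]

omit hQ in
/-- Members at a fixed point of `u` commuting with it commute with each other. -/
theorem commute_at {a : Ω} (ha : u • a = a) {x y : G} (hx : x ∈ eSet Z u a) (hy : y ∈ eSet Z u a) :
    x * y = y * x := by
  have hQ := hX.hyp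
  by_cases h4 : FourIn Z (Subgroup.centralizer ({u} : Set G))
  swap
  · obtain ⟨w, hw⟩ := Set.ncard_eq_one.mp (eAt_eq_one_of_no_four hX hu h4 ha)
    rw [hw] at hx hy
    rw [Set.mem_singleton_iff.mp hx, Set.mem_singleton_iff.mp hy]
  have hT := isTopOdd_memGrp (isTop_cent hX hu h4)
  set X := memGrp Z (Subgroup.centralizer ({u} : Set G))
  have hax : a ∈ centres Ω Z X := (centres_memGrp_cent hX hu).symm ▸ ha
  obtain ⟨b, hb, hbu⟩ := exists_fix_ne hX hu a
  obtain ⟨w, hw, hwu, hwb⟩ := exists_cent_at hQ hu.1 hbu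
  have hwa : w • a ≠ a := fun e => hb (eq_of_fix hQ hw hwb e)
  obtain ⟨Q, hS⟩ := hT.setup hQ hX.below hax (mem_memGrp hw (mem_cent_iff.mpr hwu)) hw hwa
  have hxX : x ∈ X := mem_memGrp hx.1 (mem_cent_iff.mpr hx.2.1)
  have hyX : y ∈ X := mem_memGrp hy.1 (mem_cent_iff.mpr hy.2.1)
  have hmem : ∀ {z : G} (hz : z ∈ eSet Z u a) (hzX : z ∈ X), img hQ X ⟨z, hzX⟩ ∈
      involutionsIn (stabilizer (topGrp hQ X) (⟨a, hax⟩ : centres Ω Z X) : Set (topGrp hQ X)) :=
    fun {z} hz hzX => ⟨Subtype.ext hz.2.2, (img_isInv hQ hT.toIsTop (x := ⟨z, hzX⟩) hz.1).1,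
      (img_isInv hQ hT.toIsTop (x := ⟨z, hzX⟩) hz.1).2⟩
  have hcomm := invol_comm hS (hT.fourTop hQ hX.below) (hmem hx hxX) (hmem hy hyX)
  have hxi := hQ.inv x hx.1
  have hxya : (x * y * x) • a = a := by rw [mul_smul, mul_smul, hx.2.2, hy.2.2, hx.2.2]
  have hbX : b ∈ centres Ω Z X := (centres_memGrp_cent hX hu).symm ▸ hbu
  have h1 : img hQ X (⟨x, hxX⟩ * ⟨y, hyX⟩ * ⟨x, hxX⟩) = img hQ X ⟨y, hyX⟩ := by
    rw [map_mul, map_mul, hcomm, mul_assoc, ← map_mul,
      show (⟨x, hxX⟩ : X) * ⟨x, hxX⟩ = 1 from Subtype.ext hxi.2, map_one, mul_one]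
  have h2 : x * y * x = y := hX.eq_of_fix_two (conj_member hQ hx.1 hy.1) hy.1 hxya hy.2.2 hb
    (smul_of_img_eq h1 hbX)
  calc x * y = (x * y * x) * x := by rw [mul_assoc, hxi.2, mul_one]
    _ = y * x := by rw [h2]

omit hQ in
/-- The set-up on the fixed points of `u`. -/
theorem exists_setup_fix (h4 : FourIn Z (Subgroup.centralizer ({u} : Set G))) {a : Ω}
    (ha : a ∈ centres Ω Z (memGrp Z (Subgroup.centralizer ({u} : Set G)))) :
    ∃ (t : topGrp hX.hyp (memGrp Z (Subgroup.centralizer ({u} : Set G))))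
      (Q : Subgroup (topGrp hX.hyp (memGrp Z (Subgroup.centralizer ({u} : Set G))))),
      IsRankOneSetup _ (centres Ω Z (memGrp Z (Subgroup.centralizer ({u} : Set G)))) ⟨a, ha⟩ t Q ∧
        CfsgLib.SuzukiRankOne.qZ (topGrp hX.hyp (memGrp Z (Subgroup.centralizer ({u} : Set G))))
          (⟨a, ha⟩ : centres Ω Z (memGrp Z (Subgroup.centralizer ({u} : Set G)))) = eAt Z u a + 1 := by
  have hQ := hX.hyp
  have hT := isTopOdd_memGrp (isTop_cent hX hu h4)
  set X := memGrp Z (Subgroup.centralizer ({u} : Set G))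
  obtain ⟨b, ⟨w, hwX, hw, hwb⟩, hne⟩ := hT.toIsTop.exists_ne hQ a
  obtain ⟨Q, hS⟩ := hT.setup hQ hX.below ha hwX hw (fun e => hne (eq_of_fix hQ hw hwb e))
  refine ⟨_, Q, hS, ?_⟩
  rw [qTop_eq hQ hX.below hT ha, qTop_eq_invAt hQ hX.below hT ha, eAt, ← Nat.card_coe_set_eq]
  have hua : u • a = a := (centres_memGrp_cent hX hu).le ha
  obtain ⟨c, hc, hcu⟩ := exists_fix_ne hX hu a
  let F : eSet Z u a → InvAt (topGrp hQ X) (⟨a, ha⟩ : centres Ω Z X) := fun z =>
    ⟨img hQ X ⟨z, mem_memGrp z.2.1 (mem_cent_iff.mpr z.2.2.1)⟩,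
      img_isInv hQ hT.toIsTop (x := ⟨z, mem_memGrp z.2.1 (mem_cent_iff.mpr z.2.2.1)⟩) z.2.1,
      Subtype.ext z.2.2.2⟩
  refine congrArg (· + 1) (Nat.card_eq_of_bijective F ⟨fun z z' h => Subtype.ext ?_, fun y => ?_⟩).symm
  · exact hX.eq_of_fix_two z.2.1 z'.2.1 z.2.2.2 z'.2.2.2 hc
      (smul_of_img_eq (congrArg Subtype.val h) ((centres_memGrp_cent hX hu).ge hcu))
  · obtain ⟨x, hx, hxy⟩ := exists_inv_lift hQ hX.below hT y.2.1
    refine ⟨⟨x, hx, mem_cent_iff.mp (memGrp_le x.2), ?_⟩, Subtype.ext hxy⟩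
    rw [← img_smul (hQ := hQ) x ⟨a, ha⟩, hxy, y.2.2]

omit hQ in
/-- `e + 1` is a power of two. -/
theorem eAt_two_pow {a : Ω} (ha : u • a = a) : ∃ i, 1 ≤ i ∧ eAt Z u a + 1 = 2 ^ i := by
  by_cases h4 : FourIn Z (Subgroup.centralizer ({u} : Set G))
  · have hax := (centres_memGrp_cent hX hu).ge ha
    obtain ⟨t, Q, hS, hq⟩ := exists_setup_fix hX hu h4 hax
    obtain ⟨i, hi, he⟩ := Ext.qZ_two_pow hS ((isTopOdd_memGrp (isTop_cent hX hu h4)).fourTop hX.hyp hX.below)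
    exact ⟨i, by omega, hq ▸ he⟩
  · exact ⟨1, le_rfl, by rw [eAt_eq_one_of_no_four hX hu h4 ha]; rfl⟩

omit hQ in
/-- With commuting members in the centraliser `u` has `q + 1`, `q ^ 2 + 1` or `q ^ 3 + 1` fixed points. -/
theorem card_fix_cases (h4 : FourIn Z (Subgroup.centralizer ({u} : Set G))) {a : Ω} (ha : u • a = a) :
    3 ≤ eAt Z u a ∧ ({c : Ω | u • c = c}.ncard = (eAt Z u a + 1) + 1 ∨
      {c : Ω | u • c = c}.ncard = (eAt Z u a + 1) ^ 2 + 1 ∨ {c : Ω | u • c = c}.ncard = (eAt Z u a + 1) ^ 3 + 1) := by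
  have hax := (centres_memGrp_cent hX hu).ge ha
  obtain ⟨t, Q, hS, hq⟩ := exists_setup_fix hX hu h4 hax
  have hF := (isTopOdd_memGrp (isTop_cent hX hu h4)).fourTop hX.hyp hX.below
  refine ⟨?_, ?_⟩
  · obtain ⟨i, hi, he⟩ := Ext.qZ_two_pow hS hF
    have := Nat.pow_le_pow_right two_pos hi
    omega
  rw [← centres_memGrp_cent hX hu, ← Nat.card_coe_set_eq, CfsgLib.RankOne.card_points hS, ← hq]
  rcases Ext.shape_cases hS hF with ⟨-, h | h⟩ | ⟨-, h⟩
  · exact Or.inl (by rw [h])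
  · exact Or.inr (Or.inr (by rw [h]))
  · exact Or.inr (Or.inl (by rw [h]))

end CfsgLib.Bender.Q
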