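import Cfsg.Agent.Lib.Bender.Q.Ctx
import Cfsg.Agent.Lib.Bender.Q.B1.Count
import Cfsg.Agent.Lib.Bender.B1.Climb
import Cfsg.Agent.Lib.CyclicInt.Defs

/-!
Primes dividing the number of members at a point: the Sylow subgroups of a pair stabiliser are Sylow subgroups of the
group and fix only the pair; so the group is doubly transitive.

Blueprint: `blueprint/bender/Q2.md` II.2.
-/

set_option autoImplicit false
set_option linter.unusedSectionVars false
set_option linter.style.haveILetI false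

universe u v

namespace CfsgLib.Bender.Q

open MulAction
open CfsgLib.Bender.TwoClosed (IsInv two mem_two smul_conj MaxP exists_maxP maxP_of_card fixSet fixSet_smul
  mem_normalizer_of_conj conj_mem_of_normalizer exists_mem_normalizer mem_of_sq_mem odd_orderOf)

section Orb

variable {G : Type u} [Group G]

/-- The conjugates of `c` under `X`. -/
def orb (X : Subgroup G) (c : G) : Set G := (fun x => x * c * x⁻¹) '' X

theorem mem_orb {X : Subgroup G} {c w : G} : w ∈ orb X c ↔ ∃ x ∈ X, x * c * x⁻¹ = w := Iff.rfl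

theorem orb_mono {X Y : Subgroup G} (h : X ≤ Y) (c : G) : orb X c ⊆ orb Y c := Set.image_mono h

theorem self_mem_orb (X : Subgroup G) (c : G) : c ∈ orb X c := ⟨1, X.one_mem, by simp⟩

theorem exists_ne_of_orb {X : Subgroup G} {c : G} (h : 1 < (orb X c).ncard) : ∃ x ∈ X, x * c ≠ c * x := by
  by_contra hne
  push Not at hne
  have : orb X c ⊆ {c} := by
    rintro w ⟨x, hx, rfl⟩
    show x * c * x⁻¹ = c
    rw [hne x hx, mul_inv_cancel_right]
  have := Set.ncard_le_ncard this (Set.finite_singleton c)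
  rw [Set.ncard_singleton] at this
  omega

theorem ncard_orb_conj [Finite G] {X : Subgroup G} {c r : G} (hr : r ∈ Subgroup.normalizer (X : Set G)) :
    (orb X (r * c * r⁻¹)).ncard = (orb X c).ncard := by
  rw [← Set.ncard_image_of_injective (orb X c) (MulAut.conj r).injective]
  congr 1
  ext w
  constructor
  · rintro ⟨x, hx, rfl⟩
    exact ⟨_, ⟨r⁻¹ * x * r⁻¹⁻¹, conj_mem_of_normalizer (inv_mem hr) hx, rfl⟩, by simp [mul_assoc]⟩
  · rintro ⟨_, ⟨x, hx, rfl⟩, rfl⟩
    exact ⟨r * x * r⁻¹, conj_mem_of_normalizer hr hx, by simp [mul_assoc]⟩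

variable [Finite G]

theorem card_eq_orb_mul (X : Subgroup G) (c : G) :
    Nat.card X = (orb X c).ncard * Nat.card ↥(X ⊓ Subgroup.centralizer ({c} : Set G)) := by
  set L := (X ⊓ Subgroup.centralizer ({c} : Set G)).subgroupOf X
  rw [Subgroup.card_eq_card_quotient_mul_card_subgroup L,
    Nat.card_congr (Subgroup.subgroupOfEquivOfLe (inf_le_left : X ⊓ Subgroup.centralizer ({c} : Set G) ≤ X)).toEquiv,
    ← Nat.card_coe_set_eq]
  congr 1
  have hiff : ∀ e e' : X, (e : G) * c * (e : G)⁻¹ = (e' : G) * c * (e' : G)⁻¹ ↔ e⁻¹ * e' ∈ L := fun e e' => by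
    rw [Subgroup.mem_subgroupOf, Subgroup.mem_inf, Subgroup.mem_centralizer_singleton_iff,
      and_iff_right (e⁻¹ * e').2, Subgroup.coe_mul, Subgroup.coe_inv]
    constructor
    · intro h
      calc (e : G)⁻¹ * e' * c = (e : G)⁻¹ * ((e' : G) * c * (e' : G)⁻¹) * e' := by group
        _ = c * ((e : G)⁻¹ * e') := by rw [← h]; group
    · intro h
      calc (e : G) * c * (e : G)⁻¹ = (e : G) * (c * ((e : G)⁻¹ * e')) * (e' : G)⁻¹ := by group
        _ = _ := by rw [← h]; group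
  refine Nat.card_eq_of_bijective (Quotient.lift (fun e : X => (⟨_, e, e.2, rfl⟩ : orb X c))
    fun e e' h => Subtype.ext ((hiff e e').mpr (QuotientGroup.leftRel_apply.mp h))) ⟨?_, ?_⟩
  · intro x y h
    induction x using Quotient.inductionOn
    induction y using Quotient.inductionOn
    exact Quotient.sound (QuotientGroup.leftRel_apply.mpr ((hiff _ _).mp (congrArg Subtype.val h)))
  · rintro ⟨_, x, hx, rfl⟩
    exact ⟨Quotient.mk _ ⟨x, hx⟩, rfl⟩

/-- In an invariant Sylow subgroup an involution has the whole `p`-part of its conjugates. -/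
theorem ncard_orb_maxP {p : ℕ} [hp : Fact p.Prime] {K R : Subgroup G} {c : G} (hc : IsInv c)
    (hK : Odd (Nat.card K)) (hcK : ∀ k ∈ K, c * k * c⁻¹ ∈ K) (hR : MaxP p K R)
    (hcR : c ∈ Subgroup.normalizer (R : Set G)) :
    (orb R c).ncard = p ^ (orb K c).ncard.factorization p := by
  have h := card_eq_orb_mul R c
  rw [hR.card, (B1.maxP_cent hc hK hcK hR hcR).card, card_eq_orb_mul K c,
    Nat.factorization_mul ((Set.ncard_ne_zero_of_mem (self_mem_orb K c) (Set.toFinite _))) Nat.card_pos.ne',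
    Finsupp.add_apply, pow_add] at h
  exact (Nat.eq_of_mul_eq_mul_right (pow_pos hp.out.pos _) h).symm

/-- The Sylow subgroups of a normal subgroup are cut out by those of the group. -/
theorem maxP_inf_normal {p : ℕ} [Fact p.Prime] {D O R : Subgroup G} (hR : MaxP p D R) (hOD : O ≤ D)
    (hn : ∀ g ∈ D, ∀ o ∈ O, g * o * g⁻¹ ∈ O) : MaxP p O (R ⊓ O) := by
  obtain ⟨Y, hle, hY⟩ := exists_maxP (K := O) (hR.isPGroup.to_le (inf_le_left : R ⊓ O ≤ R)) inf_le_right
  obtain ⟨P, hYP, hP⟩ := exists_maxP (K := D) hY.isPGroup (hY.le.trans hOD)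
  obtain ⟨k, hk, hkR⟩ := hP.conj hR
  have hmap : Y.map (MulAut.conj k).toMonoidHom ≤ R ⊓ O := by
    rintro _ ⟨y, hy, rfl⟩
    exact ⟨(hkR y).mp (hYP hy), hn k hk y (hY.le hy)⟩
  have hcard := Subgroup.card_le_of_le hmap
  rw [Subgroup.card_map_of_injective (MulAut.conj k).injective] at hcard
  exact (Subgroup.eq_of_le_of_card_ge hle hcard) ▸ hY

/-- A `p`-group orbit small enough for the `p`-part of the set. -/
theorem exists_small_orbit {p μ : ℕ} [Fact p.Prime] {H T : Type u} [Group H] [MulAction H T] [Finite T]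
    (hH : IsPGroup p H) (h : ¬ p ^ (μ + 1) ∣ Nat.card T) : ∃ t : T, (MulAction.orbit H t).ncard ≤ p ^ μ := by
  by_contra hne
  push Not at hne
  refine h ?_
  haveI := Fintype.ofFinite (Quotient (MulAction.orbitRel H T))
  rw [Nat.card_congr (MulAction.selfEquivSigmaOrbits H T), Nat.card_sigma]
  refine Finset.dvd_sum fun ω _ => ?_
  obtain ⟨k, hk⟩ := hH.card_orbit (ω.out)
  have h1 := hne ω.out
  rw [← Nat.card_coe_set_eq, hk] at h1
  rw [hk]
  exact pow_dvd_pow p ((Nat.pow_lt_pow_iff_right (Fact.out : p.Prime).one_lt).mp h1)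

end Orb

variable {G : Type u} [Group G]

/-- Two involutions with odd product are conjugate by a power of the product. -/
theorem exists_pow_conj {u w : G} (hu : IsInv u) (hw : IsInv w) (hodd : Odd (orderOf (w * u))) :
    ∃ n : ℕ, (w * u) ^ n * u * ((w * u) ^ n)⁻¹ = w := by
  obtain ⟨n, hn⟩ := CfsgLib.Involutions.exists_sqrt hodd
  refine ⟨n, ?_⟩
  have hinv : u * (w * u) ^ n * u = ((w * u) ^ n)⁻¹ := by
    have h1 := conj_pow (i := n) (a := u) (b := w * u)
    rw [hu.inv] at h1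
    rw [← h1, mul_assoc, mul_assoc w u u, hu.2, mul_one, ← inv_pow, mul_inv_rev, hu.inv, hw.inv]
  rw [← hinv]
  calc (w * u) ^ n * u * (u * (w * u) ^ n * u) = (w * u) ^ n * (u * u) * (w * u) ^ n * u := by group
    _ = w := by rw [hu.2, mul_one, hn, mul_assoc, hu.2, mul_one]

section

variable {Ω : Type u} [MulAction G Ω] [Finite G] {Z : Set G} {p : ℕ} [hp : Fact p.Prime]

theorem mem_fixSet_two {U : Subgroup G} {g h : Ω} (hg : g ∈ fixSet Ω U) (hh : h ∈ fixSet Ω U) : U ≤ two g h :=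
  fun x hx => mem_two.mpr ⟨hg x hx, hh x hx⟩

theorem left_mem_fixSet {U : Subgroup G} {g h : Ω} (hU : U ≤ two g h) : g ∈ fixSet Ω U :=
  fun x hx => (mem_two.mp (hU hx)).1

theorem right_mem_fixSet {U : Subgroup G} {g h : Ω} (hU : U ≤ two g h) : h ∈ fixSet Ω U :=
  fun x hx => (mem_two.mp (hU hx)).2

/-- A Sylow subgroup of a pair stabiliser fixing only the pair is one of the group. -/
theorem maxP_top_of_two (hp2 : p ≠ 2) {a b : Ω} {P : Subgroup G} (hP : MaxP p (two a b) P)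
    (hF : ∀ e ∈ fixSet Ω P, e = a ∨ e = b) : MaxP p ⊤ P := by
  obtain ⟨Y, hPY, hY⟩ := exists_maxP (K := ⊤) hP.isPGroup le_top
  rcases hPY.lt_or_eq with hlt | rfl
  swap
  · exact hY
  exfalso
  obtain ⟨g, hgY, hgP, hgn⟩ := exists_mem_normalizer hY.isPGroup hlt
  have hodd : Odd (orderOf g) := CfsgLib.Bender.TwoClosed.odd_orderOf_of_pGroup hp2 hY.isPGroup hgY
  have ha := hF _ (fixSet_smul hgn (left_mem_fixSet hP.le))
  have hb := hF _ (fixSet_smul hgn (right_mem_fixSet hP.le))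
  have hgD : g ∈ (two a b : Subgroup G) :=
    mem_two.mpr ⟨B1.smul_eq_of_pair hodd ha hb, B1.smul_eq_of_pair hodd hb.symm ha.symm⟩
  have hW : P ⊔ Subgroup.zpowers g ≤ Y := sup_le hPY (Subgroup.zpowers_le.mpr hgY)
  have := hP.eq_of_le (hY.isPGroup.to_le hW) (sup_le hP.le (Subgroup.zpowers_le.mpr hgD)) le_sup_left
  exact hgP (this ▸ Subgroup.mem_sup_right (Subgroup.mem_zpowers g))

variable (hX : Ctx G Ω Z)
include hX

theorem ncard_orb_oddRad {a b : Ω} (hb : b ≠ a) {c : G} (hc : c ∈ Z) (hca : c • a = b) :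
    (orb (oddRad (two a b : Subgroup G)) c).ncard = Nat.card (MemAt Z a) := by
  have h1 := card_eq_orb_mul (oddRad (two a b : Subgroup G)) c
  rw [card_oddRad_eq hX.hyp hb hc hca] at h1
  exact (Nat.eq_of_mul_eq_mul_right Nat.card_pos h1).symm

/-- In an invariant Sylow subgroup of a pair stabiliser the swapper has the `p`-part of `m` conjugates. -/
theorem ncard_orb_swap {a b : Ω} (hb : b ≠ a) {c : G} (hc : c ∈ Z) (hca : c • a = b) {R : Subgroup G}
    (hR : MaxP p (two a b) R) (hcR : c ∈ Subgroup.normalizer (R : Set G)) :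
    (orb R c).ncard = p ^ (Nat.card (MemAt Z a)).factorization p := by
  have hQ := hX.hyp
  have hci := hQ.inv c hc
  set D : Subgroup G := two a b
  have hcD := mem_normalizer_two hQ hb hc hca
  have hOn : ∀ g ∈ D, ∀ o ∈ oddRad D, g * o * g⁻¹ ∈ oddRad D := fun g hg o ho =>
    oddRad_conj (Subgroup.le_normalizer hg) ho
  have hS := maxP_inf_normal hR (oddRad_le D) hOn
  have hcS : c ∈ Subgroup.normalizer ((R ⊓ oddRad D : Subgroup G) : Set G) := mem_normalizer_of_conj fun x hx =>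
    ⟨conj_mem_of_normalizer hcR hx.1, oddRad_conj hcD hx.2⟩
  rw [show orb R c = orb (R ⊓ oddRad D) c from ?_, ncard_orb_maxP hci (odd_oddRad D)
    (fun k hk => oddRad_conj hcD hk) hS hcS, ncard_orb_oddRad hX hb hc hca]
  refine Set.Subset.antisymm ?_ (orb_mono inf_le_left c)
  rintro w ⟨x, hx, rfl⟩
  obtain ⟨hwZ, hwa⟩ := conj_swap hQ hb hc hca (hR.le hx)
  refine exists_sqrt_conj hQ hb hc hca hwZ hwa ⟨?_, swap_mul_mem hQ hb hc hca hwZ hwa⟩
  rw [show x * c * x⁻¹ * c = x * (c * x⁻¹ * c⁻¹) by rw [hci.inv]; group]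
  exact mul_mem hx (conj_mem_of_normalizer hcR (inv_mem hx))

/-- A Sylow subgroup of a pair stabiliser is normalised by a swapper. -/
theorem exists_swap_of_maxP {g h : Ω} (hne : h ≠ g) {U : Subgroup G} (hU : MaxP p (two g h) U) :
    ∃ w ∈ Z, w ∈ Subgroup.normalizer (U : Set G) ∧ w • g = h := by
  have hQ := hX.hyp
  obtain ⟨w, hw, hwg, -⟩ := exists_swap hQ hne.symm
  obtain ⟨R, hR, -, hwR⟩ := exists_swap_maxP hQ hne hw hwg (p := p) IsPGroup.of_bot bot_le
    (by rw [Subgroup.normalizer_eq_top]; exact Subgroup.mem_top _)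
  obtain ⟨k, hk, hkU⟩ := hR.conj hU
  obtain ⟨h1, h2⟩ := conj_swap hQ hne hw hwg hk
  refine ⟨_, h1, mem_normalizer_of_conj fun x hx => ?_, h2⟩
  have h3 := (hkU _).mp (conj_mem_of_normalizer hwR ((hkU (k⁻¹ * x * k)).mpr (by simpa [mul_assoc] using hx)))
  simpa [mul_assoc] using h3

variable [FaithfulSMul G Ω]

section Moved

variable {U : Subgroup G} (hodd : Odd (Nat.card U)) {c : G} (hc : c ∈ Z)
  (hcU : c ∈ Subgroup.normalizer (U : Set G)) (hmv : ∃ x ∈ U, x * c ≠ c * x) {a a' : Ω} (ha : a ∈ fixSet Ω U)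
  (ha' : a' ∈ fixSet Ω U) (hne : a' ≠ a)
include hodd hc hcU hmv ha ha' hne

/-- A member moving `U` moves each of its fixed points. -/
theorem fpf_of_moved {h : Ω} (hh : h ∈ fixSet Ω U) : c • h ≠ h := by
  intro e
  obtain ⟨x, hx, hxc⟩ := hmv
  rcases eq_or_ne h a with rfl | hha
  · exact hxc (hX.commute_of_fix hodd hc hcU hh ha' hne e x hx)
  · exact hxc (hX.commute_of_fix hodd hc hcU hh ha hha.symm e x hx)

theorem no_four_normalizer : ¬ FourIn Z (Subgroup.normalizer (U : Set G)) := by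
  rintro ⟨x, hxn, y, hyn, hxZ, hyZ, hxy, hcom⟩
  have hQ := hX.hyp
  obtain ⟨h, hxh⟩ := exists_fix hQ hxZ
  have hyh : y • h = h := commute_fix hQ hxZ hxh hcom.symm
  have hxi := hQ.inv x hxZ
  have hyi := hQ.inv y hyZ
  have hhU : h ∈ fixSet Ω U := fun v hv => mem_stabilizer_iff.mp
    (CfsgLib.CyclicInt.mem_of_four (D := stabilizer G h) hxi hyi hxy hcom hodd hxn hyn
      (fun e w he hecl _ hwe => by
        rcases CfsgLib.CyclicInt.mem_four_list hxi hyi hcom hecl with rfl | rfl | rfl | rfl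
        · exact absurd rfl he.1
        · exact commute_fix hQ hxZ hxh hwe
        · exact commute_fix hQ hyZ hyh hwe
        · exact commute_fix hQ (prod_mem hQ hxZ hyZ hxy hcom) (by rw [mul_smul, hyh, hxh]) hwe) hv)
  obtain ⟨d, hd, hdh⟩ : ∃ d ∈ fixSet Ω U, d ≠ h := by
    rcases eq_or_ne a h with rfl | e
    · exact ⟨a', ha', hne⟩
    · exact ⟨a, ha, e⟩
  have hxU := hX.commute_of_fix hodd hxZ hxn hhU hd hdh hxh
  have hne' : c • h ≠ h := fpf_of_moved hX hodd hc hcU hmv ha ha' hne hhU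
  have hjU : ∀ e ∈ U, e * (c * x * c⁻¹) = c * x * c⁻¹ * e := fun e he => by
    have h1 := hxU _ (conj_mem_of_normalizer (inv_mem hcU) he)
    calc e * (c * x * c⁻¹) = c * ((c⁻¹ * e * c⁻¹⁻¹) * x) * c⁻¹ := by group
      _ = _ := by rw [h1]; group
  obtain ⟨u, hu, hue, hucl⟩ :=
    exists_swap_conj hQ hxZ hxh (hQ.conj x hxZ c) (smul_conj hxh) (Ne.symm hne')
  obtain ⟨hu1, -⟩ := swap_points hQ hxh (hQ.conj x hxZ c) (smul_conj hxh) hu hue
  have hucent : u ∈ Subgroup.centralizer (U : Set G) := by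
    refine (Subgroup.closure_le _).mpr ?_ hucl
    rintro _ (rfl | rfl)
    · exact fun e he => hxU e he
    · exact fun e he => hjU e he
  have huN : u ∈ Subgroup.normalizer (U : Set G) := mem_normalizer_of_conj fun e he => by
    rwa [← hucent e he, mul_inv_cancel_right]
  obtain ⟨r, hr, hrc⟩ := exists_sqrt_conj hQ hne' hu hu1 (K := Subgroup.normalizer (U : Set G)) hc rfl
    (mul_mem hcU huN)
  obtain ⟨w, hw, hwc⟩ := hmv
  have h1 := hucent _ (conj_mem_of_normalizer (inv_mem hr) hw)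
  refine hwc ?_
  rw [← hrc]
  calc w * (r * u * r⁻¹) = r * ((r⁻¹ * w * r⁻¹⁻¹) * u) * r⁻¹ := by group
    _ = r * u * r⁻¹ * w := by rw [h1]; group

theorem mul_mem_oddRad_normalizer {v w : G} (hv : v ∈ Z) (hvn : v ∈ Subgroup.normalizer (U : Set G))
    (hw : w ∈ Z) (hwn : w ∈ Subgroup.normalizer (U : Set G)) :
    v * w ∈ oddRad (Subgroup.normalizer (U : Set G)) := by
  have h4 := no_four_normalizer hX hodd hc hcU hmv ha ha' hne
  refine mem_of_sq_mem (odd_mul_of_no_four hX.hyp h4 hvn hwn hv hw) ?_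
  have h := comm_mem_of_no_four hX.hyp h4 hv hvn hwn
  rwa [(hX.hyp.inv w hw).inv, mul_assoc (v * w)] at h

/-- The members of the normaliser are conjugate under its odd core. -/
theorem orb_normalizer : orb (oddRad (Subgroup.normalizer (U : Set G))) c =
    {w | w ∈ Z ∧ w ∈ Subgroup.normalizer (U : Set G)} := by
  ext w
  constructor
  · rintro ⟨r, hr, rfl⟩
    exact ⟨hX.hyp.conj c hc r,
      mul_mem (mul_mem (oddRad_le _ hr) hcU) (inv_mem (oddRad_le _ hr))⟩
  · rintro ⟨hw, hwn⟩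
    have h := mul_mem_oddRad_normalizer hX hodd hc hcU hmv ha ha' hne hw hwn hc hcU
    obtain ⟨n, hn⟩ := exists_pow_conj (hX.hyp.inv c hc) (hX.hyp.inv w hw) (odd_orderOf (odd_oddRad _) h)
    exact ⟨_, pow_mem h n, hn⟩

/-- If any two fixed points of `U` are swapped by members normalising it, there are only two. -/
theorem two_of_pairs (hpair : ∀ g ∈ fixSet Ω U, ∀ h ∈ fixSet Ω U, h ≠ g →
      ∃ w ∈ Z, w ∈ Subgroup.normalizer (U : Set G) ∧ w • g = h)
    {e : Ω} (he : e ∈ fixSet Ω U) : e = a ∨ e = c • a := by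
  by_contra hno
  push Not at hno
  obtain ⟨hea, heb⟩ := hno
  set O := oddRad (Subgroup.normalizer (U : Set G))
  have hmem : ∀ {w : G}, w ∈ Z → w ∈ Subgroup.normalizer (U : Set G) → w * c ∈ O := fun hw hwn =>
    mul_mem_oddRad_normalizer hX hodd hc hcU hmv ha ha' hne hw hwn hc hcU
  have hci := hX.hyp.inv c hc
  set b := c • a with hb
  have hbU : b ∈ fixSet Ω U := fixSet_smul hcU ha
  have horb : ∀ g ∈ fixSet Ω U, g ∈ MulAction.orbit O b := by
    have hstep : ∀ g ∈ fixSet Ω U, g ≠ a → g ∈ MulAction.orbit O b := fun g hg hga => by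
      obtain ⟨w, hw, hwn, hwg⟩ := hpair a ha g hg hga
      refine ⟨⟨w * c, hmem hw hwn⟩, ?_⟩
      show (w * c) • b = g
      rw [mul_smul, hb, hci.smul_twice, hwg]
    intro g hg
    rcases eq_or_ne g a with rfl | hga
    · obtain ⟨w, hw, hwn, hwe⟩ := hpair b hbU e he heb
      obtain ⟨w2, hw2, hwn2, hw2e⟩ := hpair g ha e he hea
      refine ⟨(⟨w * c, hmem hw hwn⟩ : O)⁻¹ * ⟨w2 * c, hmem hw2 hwn2⟩, ?_⟩
      show ((w * c)⁻¹ * (w2 * c)) • b = g
      rw [mul_smul, inv_smul_eq_iff, mul_smul, mul_smul, ← hb, hci.smul_twice, hw2e, hwe]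
    · exact hstep g hg hga
  have hsub : MulAction.orbit O b = fixSet Ω U := by
    refine Set.Subset.antisymm ?_ horb
    rintro _ ⟨o, rfl⟩
    exact fixSet_smul (oddRad_le _ o.2) hbU
  haveI : Finite (MulAction.orbit O b) :=
    Finite.of_equiv _ (MulAction.orbitEquivQuotientStabilizer O b).symm
  haveI := Fintype.ofFinite (MulAction.orbit O b)
  classical
  haveI : Fact (Nat.Prime 2) := ⟨Nat.prime_two⟩
  have hmaps : ∀ q : MulAction.orbit O b, c • (q : Ω) ∈ MulAction.orbit O b := fun q =>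
    hsub.ge (fixSet_smul hcU (hsub.le q.2))
  let σ : Equiv.Perm (MulAction.orbit O b) :=
    Function.Involutive.toPerm (fun q => ⟨c • (q : Ω), hmaps q⟩) (fun q => Subtype.ext (hci.smul_twice (q : Ω)))
  have hcard : ¬ 2 ∣ Fintype.card (MulAction.orbit O b) := fun h =>
    Nat.not_even_iff_odd.mpr (odd_oddRad _) (even_iff_two_dvd.mpr (h.trans (by
      rw [← Nat.card_eq_fintype_card, Nat.card_congr (MulAction.orbitEquivQuotientStabilizer O b),
        ← Subgroup.index_eq_card]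
      exact Subgroup.index_dvd_card _)))
  obtain ⟨q, hq⟩ := Equiv.Perm.exists_fixed_point_of_prime hcard (σ := σ) (n := 1) (by
    rw [pow_one, pow_two]
    exact Equiv.ext fun q => Subtype.ext (hci.smul_twice (q : Ω)))
  exact fpf_of_moved hX hodd hc hcU hmv ha ha' hne (hsub.le q.2) (congrArg Subtype.val hq)

end Moved

variable {a₀ : Ω} (hpm : p ∣ Nat.card (MemAt Z a₀))
include hpm

theorem prime_ne_two : p ≠ 2 := fun e =>
  Nat.not_even_iff_odd.mpr (odd_memAt hX.hyp a₀) (even_iff_two_dvd.mpr (e ▸ hpm))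

theorem odd_card_pGroup {U : Subgroup G} (hU : IsPGroup p U) : Odd (Nat.card U) :=
  B1.odd_of_pGroup (prime_ne_two hX hpm) hU

theorem one_lt_ppart : 1 < p ^ (Nat.card (MemAt Z a₀)).factorization p :=
  Nat.one_lt_pow (hp.out.factorization_pos_of_dvd
    (Nat.not_even_iff_odd.mpr (odd_memAt hX.hyp a₀) |> fun h e => h (e ▸ Even.zero)) hpm).ne' hp.out.one_lt

/-- Every `p`-subgroup fixes two points. -/
theorem exists_pair_of_pgroup {X : Subgroup G} (hXp : IsPGroup p X) :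
    ∃ g h : Ω, h ≠ g ∧ g ∈ fixSet Ω X ∧ h ∈ fixSet Ω X := by
  have hQ := hX.hyp
  haveI := finite_points hQ
  obtain ⟨b₀, hb₀⟩ := exists_ne_point hQ a₀
  haveI : Nonempty {q : Ω × Ω // q.2 ≠ q.1} := ⟨⟨(a₀, b₀), hb₀⟩⟩
  obtain ⟨⟨⟨a, b⟩, hba⟩, hmax⟩ := Finite.exists_max fun q : {q : Ω × Ω // q.2 ≠ q.1} =>
    (Nat.card (two q.1.1 q.1.2 : Subgroup G)).factorization p
  simp only at hba
  obtain ⟨c, hc, hca, -⟩ := exists_swap hQ (Ne.symm hba)
  obtain ⟨P, hP, -, hcP⟩ := exists_swap_maxP hQ hba hc hca (p := p) IsPGroup.of_bot bot_le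
    (by rw [Subgroup.normalizer_eq_top]; exact Subgroup.mem_top _)
  have hmv : ∃ x ∈ P, x * c ≠ c * x := exists_ne_of_orb (by
    rw [ncard_orb_swap hX hba hc hca hP hcP, card_memAt_eq hQ a a₀]
    exact one_lt_ppart hX hpm)
  have hpair : ∀ g ∈ fixSet Ω P, ∀ h ∈ fixSet Ω P, h ≠ g →
      ∃ w ∈ Z, w ∈ Subgroup.normalizer (P : Set G) ∧ w • g = h := fun g hg h hh hgh => by
    refine exists_swap_of_maxP hX hgh (maxP_of_card (p := p) hP.isPGroup (mem_fixSet_two hg hh) ?_)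
    refine le_antisymm ?_ ?_
    · exact Nat.le_of_dvd (pow_pos hp.out.pos _) (hP.card ▸ pow_dvd_pow p
        ((hp.out.pow_dvd_iff_le_factorization Nat.card_pos.ne').mp
          (hP.card ▸ Subgroup.card_dvd_of_le (mem_fixSet_two hg hh))))
    · rw [hP.card]
      exact Nat.pow_le_pow_right hp.out.pos (hmax ⟨(g, h), hgh⟩)
  have hF : ∀ e ∈ fixSet Ω P, e = a ∨ e = b := fun e he => hca ▸
    two_of_pairs hX (odd_card_pGroup hX hpm hP.isPGroup) hc hcP hmv (left_mem_fixSet hP.le)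
      (right_mem_fixSet hP.le) hba hpair he
  obtain ⟨Y, hXY, hY⟩ := exists_maxP (K := ⊤) hXp le_top
  obtain ⟨k, -, hk⟩ := (maxP_top_of_two (prime_ne_two hX hpm) hP hF).conj hY
  have hmove : ∀ g ∈ fixSet Ω P, k • g ∈ fixSet Ω X := fun g hg x hx => by
    have h := hg _ ((hk (k⁻¹ * x * k)).mpr (by simpa [mul_assoc] using hXY hx))
    rwa [mul_smul, mul_smul, inv_smul_eq_iff] at h
  exact ⟨k • a, k • b, fun e => hba (smul_left_cancel k e), hmove a (left_mem_fixSet hP.le),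
    hmove b (right_mem_fixSet hP.le)⟩

/-- An invariant Sylow subgroup of a pair stabiliser fixes only the pair. -/
theorem fix_two_of_invariant {a b : Ω} (hb : b ≠ a) {c : G} (hc : c ∈ Z) (hca : c • a = b) {R : Subgroup G}
    (hR : MaxP p (two a b) R) (hcR : c ∈ Subgroup.normalizer (R : Set G)) {e : Ω} (he : e ∈ fixSet Ω R) :
    e = a ∨ e = b := by
  by_contra hno
  push Not at hno
  have hQ := hX.hyp
  set μ := (Nat.card (MemAt Z a₀)).factorization p with hμ
  have hpμ : 1 < p ^ μ := one_lt_ppart hX hpm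
  obtain ⟨U, -, ⟨hUp, ⟨v, hv, hvU, hvorb⟩, g1, g2, g3, h1, h2, h3, h12, h13, h23⟩, hmax⟩ :=
    Finite.exists_le_maximal (p := fun Y : Subgroup G => IsPGroup p Y ∧
      (∃ v ∈ Z, v ∈ Subgroup.normalizer (Y : Set G) ∧ (orb Y v).ncard = p ^ μ) ∧
      ∃ g1 g2 g3 : Ω, g1 ∈ fixSet Ω Y ∧ g2 ∈ fixSet Ω Y ∧ g3 ∈ fixSet Ω Y ∧ g1 ≠ g2 ∧ g1 ≠ g3 ∧ g2 ≠ g3)
      ⟨hR.isPGroup, ⟨c, hc, hcR, by rw [ncard_orb_swap hX hb hc hca hR hcR, card_memAt_eq hQ a a₀]⟩,
        a, b, e, left_mem_fixSet hR.le, right_mem_fixSet hR.le, he, hb.symm, hno.1.symm, hno.2.symm⟩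
  have hodd := odd_card_pGroup hX hpm hUp
  have hmv : ∃ x ∈ U, x * v ≠ v * x := exists_ne_of_orb (hvorb ▸ hpμ)
  set N := Subgroup.normalizer (U : Set G) with hN
  set O := oddRad N with hO
  have hM := orb_normalizer hX hodd hv hvU hmv h1 h2 h12.symm
  have hUO : U ≤ O := le_oddRad Subgroup.le_normalizer hodd fun g hg x hx => conj_mem_of_normalizer hg hx
  have hvO : ∀ k ∈ O, v * k * v⁻¹ ∈ O := fun k hk => oddRad_conj (Subgroup.le_normalizer hvU) hk
  have hdvd : ¬ p ^ (μ + 1) ∣ (orb O v).ncard := fun hdiv => by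
    obtain ⟨S, hUS, hS, hvS⟩ := B1.exists_invariant_maxP_above (odd_oddRad N) (hQ.inv v hv).2 hvO hUp hUO hvU
    obtain ⟨g, g', -, hg, -⟩ := exists_pair_of_pgroup hX hpm hS.isPGroup
    have hgv : v • g ≠ g := fpf_of_moved hX hodd hv hvU hmv h1 h2 h12.symm fun x hx => hg x (hUS hx)
    obtain ⟨R₁, hR₁, hSR, hvR⟩ := exists_swap_maxP hQ hgv hv rfl hS.isPGroup
      (mem_fixSet_two hg (fixSet_smul hvS hg)) hvS
    have hle := Set.ncard_le_ncard (orb_mono hSR v) (Set.toFinite _)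
    rw [ncard_orb_swap hX hgv hv rfl hR₁ hvR, card_memAt_eq hQ g a₀, ← hμ,
      ncard_orb_maxP (K := O) (hQ.inv v hv) (odd_oddRad N) hvO hS hvS] at hle
    have h4 := (Nat.pow_le_pow_iff_right hp.out.one_lt).mp hle
    have h5 := (hp.out.pow_dvd_iff_le_factorization
      (Set.ncard_ne_zero_of_mem (self_mem_orb O v) (Set.toFinite _))).mp hdiv
    omega
  have hpair : ∀ g ∈ fixSet Ω U, ∀ h ∈ fixSet Ω U, h ≠ g → ∃ w ∈ Z, w ∈ N ∧ w • g = h := by
    intro g hg h hh hne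
    obtain ⟨R₀, hUR, hR₀⟩ := exists_maxP (K := two g h) hUp (mem_fixSet_two hg hh)
    rcases hUR.lt_or_eq with hlt | rfl
    swap
    · exact exists_swap_of_maxP hX hne hR₀
    set U₁ : Subgroup G := R₀ ⊓ N with hU₁
    have hU1p : IsPGroup p U₁ := hR₀.isPGroup.to_le inf_le_left
    have hUU1 : U ≤ U₁ := le_inf hlt.le Subgroup.le_normalizer
    have hmaps : ∀ (x : U₁) (w : {w : G // w ∈ Z ∧ w ∈ N}),
        (x : G) * w.1 * (x : G)⁻¹ ∈ Z ∧ (x : G) * w.1 * (x : G)⁻¹ ∈ N := fun x w =>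
      ⟨hQ.conj _ w.2.1 _, N.mul_mem (N.mul_mem x.2.2 w.2.2) (N.inv_mem x.2.2)⟩
    letI : MulAction U₁ {w : G // w ∈ Z ∧ w ∈ N} :=
      { smul := fun x w => ⟨_, hmaps x w⟩
        one_smul := fun w => Subtype.ext (show (1 : G) * w.1 * (1 : G)⁻¹ = w.1 by group)
        mul_smul := fun x y w => Subtype.ext (show ((x : G) * y) * w.1 * ((x : G) * y)⁻¹ =
          (x : G) * ((y : G) * w.1 * (y : G)⁻¹) * (x : G)⁻¹ by group) }
    obtain ⟨⟨d, hd, hdN⟩, hsmall⟩ := exists_small_orbit (μ := μ) (T := {w : G // w ∈ Z ∧ w ∈ N}) hU1p (by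
      rwa [hM, ← Nat.card_coe_set_eq] at hdvd)
    rw [← Set.ncard_image_of_injective _ Subtype.val_injective] at hsmall
    have hsub : orb U₁ d ⊆ Subtype.val '' MulAction.orbit U₁ (⟨d, hd, hdN⟩ : {w : G // w ∈ Z ∧ w ∈ N}) := by
      rintro _ ⟨x, hx, rfl⟩
      exact ⟨_, ⟨⟨x, hx⟩, rfl⟩, rfl⟩
    obtain ⟨r, hr, hrd⟩ : d ∈ orb O v := by rw [hM]; exact ⟨hd, hdN⟩
    have hdorb : (orb U d).ncard = p ^ μ := by rw [← hrd, ncard_orb_conj (oddRad_le N hr), hvorb]
    have heq : orb U d = orb U₁ d := Set.eq_of_subset_of_ncard_le (orb_mono hUU1 d)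
      (((Set.ncard_le_ncard hsub (Set.toFinite _)).trans hsmall).trans hdorb.ge) (Set.toFinite _)
    have hdU1 : d ∈ Subgroup.normalizer (U₁ : Set G) := mem_normalizer_of_conj fun x hx => by
      obtain ⟨y, hy, hye⟩ := (heq.ge (⟨x, hx, rfl⟩ : x * d * x⁻¹ ∈ orb U₁ d) : x * d * x⁻¹ ∈ orb U d)
      have hye' : y * d * y⁻¹ = x * d * x⁻¹ := hye
      rw [show d * x * d⁻¹ = (d * y * d⁻¹) * y⁻¹ * x by
        calc d * x * d⁻¹ = d * y * (y⁻¹ * (x * d⁻¹ * x⁻¹)) * x := by group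
          _ = d * y * (y⁻¹ * (x * d * x⁻¹)⁻¹) * x := by group
          _ = _ := by rw [← hye']; group]
      exact mul_mem (mul_mem (hUU1 (conj_mem_of_normalizer hdN hy)) (hUU1 (U.inv_mem hy))) hx
    have hdmv : ∃ x ∈ U, x * d ≠ d * x := exists_ne_of_orb (hdorb ▸ hpμ)
    refine ⟨d, hd, hdN, ?_⟩
    by_contra hdg
    have hgR : g ∈ fixSet Ω U₁ := fun x hx => (mem_two.mp (hR₀.le hx.1)).1
    have hhR : h ∈ fixSet Ω U₁ := fun x hx => (mem_two.mp (hR₀.le hx.1)).2
    have hle : U₁ ≤ U := hmax ⟨hU1p, ⟨d, hd, hdU1, heq ▸ hdorb⟩, g, h, d • g, hgR, hhR,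
      fixSet_smul hdU1 hgR, hne.symm, (fpf_of_moved hX hodd hd hdN hdmv hg hh hne hg).symm, Ne.symm hdg⟩ hUU1
    obtain ⟨y, hyR, hyU, hyn⟩ := exists_mem_normalizer hR₀.isPGroup hlt
    exact hyU (hle ⟨hyR, hyn⟩)
  rcases two_of_pairs hX hodd hv hvU hmv h1 h2 h12.symm hpair h2 with e2 | e2
  · exact h12 e2.symm
  rcases two_of_pairs hX hodd hv hvU hmv h1 h2 h12.symm hpair h3 with e3 | e3
  · exact h13 e3.symm
  · exact h23 (e2.trans e3.symm)

/-- II.2: a Sylow subgroup of a pair stabiliser fixes only the pair and is a Sylow subgroup of the group. -/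
theorem Ctx.sylow_pair {a b : Ω} (hb : b ≠ a) {R : Subgroup G} (hR : MaxP p (two a b) R) :
    MaxP p ⊤ R ∧ ∀ e ∈ fixSet Ω R, e = a ∨ e = b := by
  obtain ⟨w, hw, hwR, hwa⟩ := exists_swap_of_maxP hX hb hR
  have hF : ∀ e ∈ fixSet Ω R, e = a ∨ e = b := fun e he => fix_two_of_invariant hX hpm hb hw hwa hR hwR he
  exact ⟨maxP_top_of_two (prime_ne_two hX hpm) hR hF, hF⟩

/-- II.2: the number of points is `2` modulo `p`. -/
theorem Ctx.card_points_mod : Nat.card Ω ≡ 2 [MOD p] := by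
  haveI := finite_points hX.hyp
  obtain ⟨b, hb⟩ := exists_ne_point hX.hyp a₀
  obtain ⟨R, -, hR⟩ := exists_maxP (p := p) (K := two a₀ b) IsPGroup.of_bot (bot_le : (⊥ : Subgroup G) ≤ _)
  have hF := (hX.sylow_pair hpm hb hR).2
  have h := hR.isPGroup.card_modEq_card_fixedPoints Ω
  have hfix : MulAction.fixedPoints R Ω = {a₀, b} := by
    ext x
    constructor
    · exact fun hx => hF x fun r hr => hx ⟨r, hr⟩
    · rintro (rfl | rfl) r
      · exact (mem_two.mp (hR.le r.2)).1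
      · exact (mem_two.mp (hR.le r.2)).2
  rwa [hfix, Nat.card_coe_set_eq, Set.ncard_pair hb.symm] at h

/-- An element of `p`-power order inverted by a member at one of its fixed points is trivial. -/
theorem Ctx.eq_one_of_inverted {z j : G} (hz : z ∈ Z) {a : Ω} (hza : z • a = a) (hinv : z * j * z = j⁻¹)
    (hja : j • a = a) {k : ℕ} (hjk : j ^ p ^ k = 1) : j = 1 := by
  have hpg : IsPGroup p (Subgroup.zpowers j) := by
    obtain ⟨i, -, hi⟩ := (Nat.dvd_prime_pow hp.out).1 (orderOf_dvd_of_pow_eq_one hjk)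
    exact IsPGroup.of_card (n := i) (by rw [Nat.card_zpowers, hi])
  obtain ⟨g, h, hne, hg, hh⟩ := exists_pair_of_pgroup hX hpm hpg
  have hodd : Odd (orderOf j) :=
    CfsgLib.Bender.TwoClosed.odd_orderOf_of_pGroup (prime_ne_two hX hpm) hpg (Subgroup.mem_zpowers j)
  rcases eq_or_ne g a with rfl | hga
  · exact hX.noBad z hz j g h hza hinv hodd hja hne (hh j (Subgroup.mem_zpowers j))
  · exact hX.noBad z hz j a g hza hinv hodd hja hga (hg j (Subgroup.mem_zpowers j))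

/-- II.2: the group is transitive on pairs. -/
theorem two_trans_of_dvd {a b a' b' : Ω} (hb : b ≠ a) (hb' : b' ≠ a') : ∃ g : G, g • a = a' ∧ g • b = b' := by
  have hQ := hX.hyp
  obtain ⟨R, -, hR⟩ := exists_maxP (p := p) (K := two a b) IsPGroup.of_bot (bot_le : (⊥ : Subgroup G) ≤ _)
  obtain ⟨R', -, hR'⟩ := exists_maxP (p := p) (K := two a' b') IsPGroup.of_bot (bot_le : (⊥ : Subgroup G) ≤ _)
  obtain ⟨hT, -⟩ := hX.sylow_pair hpm hb hR
  obtain ⟨hT', hF'⟩ := hX.sylow_pair hpm hb' hR'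
  obtain ⟨k, -, hk⟩ := hT.conj hT'
  have hmove : ∀ e ∈ fixSet Ω R, k • e = a' ∨ k • e = b' := fun e he => hF' _ fun x hx => by
    have h := he _ ((hk (k⁻¹ * x * k)).mpr (by simpa [mul_assoc] using hx))
    rwa [mul_smul, mul_smul, inv_smul_eq_iff] at h
  rcases hmove a (left_mem_fixSet hR.le) with h1 | h1 <;> rcases hmove b (right_mem_fixSet hR.le) with h2 | h2
  · exact absurd (smul_left_cancel k (h2.trans h1.symm)) hb
  · exact ⟨k, h1, h2⟩
  · obtain ⟨w, -, hw1, hw2⟩ := exists_swap hQ hb'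
    exact ⟨w * k, by rw [mul_smul, h1, hw1], by rw [mul_smul, h2, hw2]⟩
  · exact absurd (smul_left_cancel k (h2.trans h1.symm)) hb

omit hp hpm in
theorem Ctx.two_le_memAt (a : Ω) : 2 ≤ Nat.card (MemAt Z a) := by
  obtain ⟨x, y, hx, hxa, hy, hya, hne, -⟩ := exists_commuting_at hX.hyp hX.four a
  haveI : Nontrivial (MemAt Z a) := ⟨⟨x, hx, hxa⟩, ⟨y, hy, hya⟩, fun e => hne (congrArg Subtype.val e)⟩
  exact Finite.one_lt_card

omit hp hpm in
theorem Ctx.two_trans {a b a' b' : Ω} (hb : b ≠ a) (hb' : b' ≠ a') : ∃ g : G, g • a = a' ∧ g • b = b' := by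
  have h2 := hX.two_le_memAt a
  haveI : Fact (Nat.card (MemAt Z a)).minFac.Prime := ⟨Nat.minFac_prime (by omega)⟩
  exact two_trans_of_dvd hX (Nat.minFac_dvd (Nat.card (MemAt Z a))) hb hb'

end

end CfsgLib.Bender.Q
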