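import Cfsg.Agent.Lib.Bender.Q.Klein
import Cfsg.Agent.Lib.Bender.Q.TwoTrans
import Mathlib.Combinatorics.Enumerative.DoubleCounting
import Mathlib.Tactic.LinearCombination

/-!
The basic equation: an involution `u` with `f > 1` fixed points, commuting with `e` members at each, has `k = m / e`
swappers at every moved point and `k (n - 1) = (f - 1) (k + f e)`; `u * c` has as many fixed points for each member
`c` commuting with `u`.

Blueprint: `blueprint/bender/Q2.md` II.3.
-/

set_option autoImplicit false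
set_option linter.unusedSectionVars false
set_option linter.style.haveILetI false

universe u v w

namespace CfsgLib.Bender.Q

open MulAction
open CfsgLib.Bender.TwoClosed (IsInv two mem_two smul_conj)

theorem ncard_mul_eq {α : Type v} {β : Type w} [Finite α] [Finite β] {S : Set α} {T : Set β} (r : α → β → Prop)
    {m n : ℕ} (hm : ∀ a ∈ S, {b | b ∈ T ∧ r a b}.ncard = m) (hn : ∀ b ∈ T, {a | a ∈ S ∧ r a b}.ncard = n) :
    S.ncard * m = T.ncard * n := by
  classical
  rw [Set.ncard_eq_toFinset_card S, Set.ncard_eq_toFinset_card T]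
  refine Finset.card_mul_eq_card_mul r (fun a ha => ?_) fun b hb => ?_
  · rw [← hm a (S.toFinite.mem_toFinset.mp ha), ← Set.ncard_coe_finset]
    congr 1
    ext b
    simp [Finset.bipartiteAbove]
  · rw [← hn b (T.toFinite.mem_toFinset.mp hb), ← Set.ncard_coe_finset]
    congr 1
    ext a
    simp [Finset.bipartiteBelow]

/-- The number of fixed points. -/
noncomputable def fixN {G : Type u} (Ω : Type u) [Group G] [MulAction G Ω] (u : G) : ℕ := {c : Ω | u • c = c}.ncard

variable {G Ω : Type u} [Group G] [MulAction G Ω] {Z : Set G}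

theorem fixN_conj (g u : G) : fixN Ω (g * u * g⁻¹) = fixN Ω u := by
  rw [fixN, fixN, ← Set.ncard_image_of_injective {c : Ω | u • c = c} (MulAction.injective g)]
  congr 1
  ext c
  constructor
  · intro h
    refine ⟨g⁻¹ • c, ?_, smul_inv_smul g c⟩
    have h' : (g * u * g⁻¹) • c = c := h
    rw [mul_smul, mul_smul] at h'
    show u • g⁻¹ • c = g⁻¹ • c
    rw [← smul_left_cancel_iff g, h', smul_inv_smul]
  · rintro ⟨d, hd, rfl⟩
    exact smul_conj hd

variable [Finite G] [FaithfulSMul G Ω] (hX : Ctx G Ω Z)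
include hX

omit [FaithfulSMul G Ω] in
theorem one_lt_fixN {u : G} (hu : IsB Ω u) : 1 < fixN Ω u := by
  haveI := finite_points hX.hyp
  obtain ⟨-, a, b, hab, ha, hb⟩ := hu
  exact (Set.one_lt_ncard).mpr ⟨a, ha, b, hb, hab⟩

/-- The product with a commuting member again has two fixed points. -/
theorem isB_mul {u c : G} (hu : IsB Ω u) (hc : c ∈ Z) (huc : u * c = c * u) : IsB Ω (u * c) := by
  have hci := hX.hyp.inv c hc
  obtain ⟨hi, a, b, hab, ha, hb⟩ := hu
  obtain ⟨p, hp⟩ := exists_fix hX.hyp hc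
  have hup : u • p = p := commute_fix hX.hyp hc hp huc
  obtain ⟨g, hg, hfix⟩ := exists_moved_fix hX.hyp hi hab ha hb hc huc
  refine ⟨⟨fun e => ?_, ?_⟩, p, g, fun e => hg (e ▸ hup), by rw [mul_smul, hp, hup], hfix⟩
  · rw [mul_eq_one_iff_eq_inv, hci.inv] at e
    exact hab (eq_of_fix hX.hyp hc (e ▸ ha) (e ▸ hb))
  · calc u * c * (u * c) = u * (c * u) * c := by group
      _ = u * u * (c * c) := by rw [← huc]; group
      _ = 1 := by rw [hi.2, hci.2, one_mul]

/-- The members at the point of `c` commuting with `u * c` are those commuting with `u`. -/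
theorem eSet_mul {u c : G} (hu : IsB Ω u) {a : Ω} (hc : c ∈ eSet Z u a) :
    eSet Z (u * c) a = eSet Z u a := by
  obtain ⟨hcZ, huc, hca⟩ := hc
  have hua : u • a = a := commute_fix hX.hyp hcZ hca huc
  have hci := hX.hyp.inv c hcZ
  have hcv : (u * c) * c = c * (u * c) := by rw [mul_assoc, ← mul_assoc c, ← huc, mul_assoc]
  ext z
  constructor
  · rintro ⟨hz, hzv, hza⟩
    have hzc : z * c = c * z := commute_at hX (isB_mul hX hu hcZ huc) (by rw [mul_smul, hca, hua])
      ⟨hz, hzv, hza⟩ ⟨hcZ, hcv, hca⟩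
    refine ⟨hz, ?_, hza⟩
    calc u * z = u * c * (c * z) := by rw [← mul_assoc (u * c), mul_assoc u c c, hci.2, mul_one]
      _ = (u * c * z) * c := by rw [← hzc]; group
      _ = z * (u * c) * c := by rw [hzv]
      _ = z * u := by rw [mul_assoc, mul_assoc u c c, hci.2, mul_one]
  · rintro ⟨hz, hzu, hza⟩
    have hzc : z * c = c * z := commute_at hX hu hua ⟨hz, hzu, hza⟩ ⟨hcZ, huc, hca⟩
    exact ⟨hz, by rw [mul_assoc, ← hzc, ← mul_assoc, hzu, mul_assoc], hza⟩

/-- The products of `u` with the members commuting with it are conjugate. -/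
theorem exists_conj_mul {u c c' : G} (hu : IsB Ω u) (hc : c ∈ Z) (huc : u * c = c * u) (hc' : c' ∈ Z)
    (huc' : u * c' = c' * u) : ∃ g : G, g * (u * c) * g⁻¹ = u * c' := by
  obtain ⟨hi, a, b, hab, ha, hb⟩ := hu
  obtain ⟨g, hg, hge⟩ := exists_conj_cent hX.hyp hi hab ha hb hc huc hc' huc'
  refine ⟨g, ?_⟩
  rw [← hge]
  calc g * (u * c) * g⁻¹ = (g * u) * (c * g⁻¹) := by group
    _ = u * (g * c * g⁻¹) := by rw [← hg]; group

/-- `u` commutes with `m / e` swappers at every point it moves. -/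
theorem moved_mul {u : G} (hu : IsB Ω u) {a : Ω} (ha : u • a = a) {g : Ω} (hg : u • g ≠ g) :
    sAt Z u g (u • g) * eAt Z u a = Nat.card (MemAt Z a) := by
  have hQ := hX.hyp
  obtain ⟨c, hc, huc, hcg⟩ := exists_cent_swap hQ hu.1 hg
  have hci := hQ.inv c hc
  obtain ⟨p, hp⟩ := exists_fix hQ hc
  have hup : u • p = p := commute_fix hQ hc hp huc
  have hv := isB_mul hX hu hc huc
  have hvg : (u * c) • g = g := by rw [mul_smul, hcg, hu.1.smul_twice]
  have hvh : (u * c) • (u • g) = u • g := by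
    rw [mul_smul, hci.swap_back hcg]
  have hvc : u * c * c = c * (u * c) := by rw [mul_assoc, ← mul_assoc c, ← huc, mul_assoc]
  have h := card_memAt_eq_mul hQ hg hc hcg hv.1 hvc
    (Subgroup.le_normalizer (mem_two.mpr ⟨hvg, hvh⟩))
  rw [show u * c * c = u by rw [mul_assoc, hci.2, mul_one], sAt_eq_eAt hQ hv.1 hg hvg,
    eAt_eq hQ hv hvh (b := p) (by rw [mul_smul, hp, hup]), card_memAt_eq hQ g a] at h
  rw [h, mul_comm, eAt_eq hQ hu ha hup, eAt, eAt, eSet_mul hX hu ⟨hc, huc, hp⟩]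

/-- The members commuting with `u`. -/
theorem ncard_members {u : G} (hu : IsB Ω u) {a : Ω} (ha : u • a = a) :
    {z | z ∈ Z ∧ u * z = z * u}.ncard = fixN Ω u * eAt Z u a := by
  haveI := finite_points hX.hyp
  have h := ncard_mul_eq (S := {z | z ∈ Z ∧ u * z = z * u}) (T := {c : Ω | u • c = c})
    (fun z c => z • c = c) (m := 1) (n := eAt Z u a) (fun z hz => ?_) (fun c hc => ?_)
  · rw [mul_one] at h
    exact h
  · obtain ⟨p, hp, huniq⟩ := hX.hyp.one_fix z hz.1
    rw [Set.ncard_eq_one]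
    refine ⟨p, Set.eq_singleton_iff_unique_mem.mpr ⟨⟨commute_fix hX.hyp hz.1 hp hz.2, hp⟩, fun x hx => ?_⟩⟩
    exact huniq x hx.2
  · rw [← eAt_eq hX.hyp hu hc ha, eAt, eSet]
    congr 1
    ext z
    exact and_assoc

/-- The double count of moved points and members commuting with `u`. -/
theorem count_moved {u : G} (hu : IsB Ω u) {a : Ω} (ha : u • a = a) {c₀ : G} (hc₀ : c₀ ∈ Z)
    (huc₀ : u * c₀ = c₀ * u) {k : ℕ} (hk : k * eAt Z u a = Nat.card (MemAt Z a)) :
    (k : ℤ) * (Nat.card Ω - fixN Ω u) = fixN Ω u * eAt Z u a * (fixN Ω (u * c₀) - 1) := by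
  have hQ := hX.hyp
  haveI := finite_points hQ
  have he := eAt_pos hQ hu.1 ha
  have h := ncard_mul_eq (S := {z | z ∈ Z ∧ u * z = z * u}) (T := {g : Ω | u • g ≠ g})
    (fun c g => c • g = u • g) (m := fixN Ω (u * c₀) - 1) (n := k) (fun c hc => ?_) (fun g hg => ?_)
  · have hcompl := Set.ncard_add_ncard_compl {c : Ω | u • c = c}
    rw [ncard_members hX hu ha] at h
    have h2 : (fixN Ω u : ℤ) + {g : Ω | u • g ≠ g}.ncard = Nat.card Ω := by exact_mod_cast hcompl
    have h1 := one_lt_fixN hX (isB_mul hX hu hc₀ huc₀)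
    have h3 : ((fixN Ω u * eAt Z u a * (fixN Ω (u * c₀) - 1) : ℕ) : ℤ) =
        (({g : Ω | u • g ≠ g}.ncard * k : ℕ) : ℤ) := by rw [h]
    push_cast [Nat.cast_sub (le_of_lt h1)] at h3
    rw [← h2, h3]
    ring
  · obtain ⟨g', hge⟩ := exists_conj_mul hX hu hc₀ huc₀ hc.1 hc.2
    rw [← fixN_conj g' (u * c₀), hge]
    obtain ⟨p, hp⟩ := exists_fix hQ hc.1
    have hup : u • p = p := commute_fix hQ hc.1 hp hc.2
    have hpmem : p ∈ {x : Ω | (u * c) • x = x} := by
      show (u * c) • p = p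
      rw [mul_smul, hp, hup]
    rw [fixN, ← Set.ncard_sdiff_singleton_of_mem hpmem]
    congr 1
    ext g
    constructor
    · rintro ⟨hg, hcg⟩
      refine ⟨?_, fun e => hg ?_⟩
      · show (u * c) • g = g
        rw [mul_smul, hcg, hu.1.smul_twice]
      · rw [Set.mem_singleton_iff.mp e, hup]
    · rintro ⟨hg, hgp⟩
      have hg' : (u * c) • g = g := hg
      rw [mul_smul] at hg'
      have hcg : c • g = u • g := by rw [← smul_left_cancel_iff u, hg', hu.1.smul_twice]
      exact ⟨fun e => hgp (Set.mem_singleton_iff.mpr (eq_of_fix hQ hc.1 (hcg.trans e) hp)), hcg⟩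
  · refine Nat.eq_of_mul_eq_mul_right he ?_
    rw [hk, ← moved_mul hX hu ha hg, sAt, sSet]
    congr 2
    ext z
    exact and_assoc

/-- II.3: the basic equation. -/
theorem Ctx.eq_count {u : G} (hu : IsB Ω u) {a : Ω} (ha : u • a = a) :
    ∃ k, k * eAt Z u a = Nat.card (MemAt Z a) ∧ (∀ g : Ω, u • g ≠ g → sAt Z u g (u • g) = k) ∧
      (∀ c ∈ Z, u * c = c * u → fixN Ω (u * c) = fixN Ω u) ∧
      k * (Nat.card Ω - 1) = (fixN Ω u - 1) * (k + fixN Ω u * eAt Z u a) := by
  have hQ := hX.hyp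
  haveI := finite_points hQ
  obtain ⟨hi, p, q, hpq, hp, hq⟩ := hu
  have hu : IsB Ω u := ⟨hi, p, q, hpq, hp, hq⟩
  obtain ⟨c₁, hc₁, huc₁, hc₁a⟩ := exists_cent_at hQ hi ha
  obtain ⟨g₁, hg₁, -⟩ := exists_moved_fix hQ hi hpq hp hq hc₁ huc₁
  set e := eAt Z u a with he
  set k := sAt Z u g₁ (u • g₁) with hkdef
  have hepos : 0 < e := eAt_pos hQ hi ha
  have hk : k * e = Nat.card (MemAt Z a) := moved_mul hX hu ha hg₁
  -- the same count at `u * c₁`
  have hv := isB_mul hX hu hc₁ huc₁
  have hva : (u * c₁) • a = a := by rw [mul_smul, hc₁a, ha]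
  have hev : eAt Z (u * c₁) a = e := by rw [eAt, eSet_mul hX hu ⟨hc₁, huc₁, hc₁a⟩]; rfl
  have hvc : (u * c₁) * c₁ = c₁ * (u * c₁) := by rw [mul_assoc, ← mul_assoc c₁, ← huc₁, mul_assoc]
  have hvc' : (u * c₁) * c₁ = u := by rw [mul_assoc, (hQ.inv c₁ hc₁).2, mul_one]
  have h1 := count_moved hX hu ha hc₁ huc₁ hk
  have h2 := count_moved hX hv hva hc₁ hvc (k := k) (by rw [hev]; exact hk)
  rw [hvc', hev] at h2
  set f := fixN Ω u with hf
  set f' := fixN Ω (u * c₁) with hf'
  have hff : f' = f := by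
    have hmul : ((k : ℤ) - e) * ((f' : ℤ) - f) = 0 := by linear_combination h1 - h2
    rcases mul_eq_zero.mp hmul with hke | hff
    swap
    · omega
    exfalso
    have hm := hX.two_le_memAt a
    have he1 : e ≠ 1 := fun e1 => by
      rw [← hk, show k = e by omega, e1] at hm
      omega
    have hn : (Nat.card Ω : ℤ) = f * f' := by
      have : (k : ℤ) = e := by omega
      rw [this] at h1
      have h3 : (e : ℤ) * (Nat.card Ω - f * f') = 0 := by linear_combination h1
      rcases mul_eq_zero.mp h3 with h4 | h4 <;> omega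
    obtain ⟨r, hr, hre⟩ := Nat.exists_prime_and_dvd he1
    haveI := Fact.mk hr
    have hrm : r ∣ Nat.card (MemAt Z a) := hk ▸ hre.mul_left k
    have hmod := hX.card_points_mod hrm
    have hfix : ∀ {w : G}, IsB Ω w → w • a = a → eAt Z w a = e → fixN Ω w ≡ 2 [MOD r] := by
      intro w hw hwa hwe
      have h4 := four_of_eAt_ne_one hX hw hwa (hwe ▸ he1)
      obtain ⟨-, hc⟩ := card_fix_cases hX hw h4 hwa
      rw [hwe] at hc
      have h0 : e + 1 ≡ 1 [MOD r] := by
        have := (Nat.modEq_zero_iff_dvd.mpr hre).add_right 1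
        simpa using this
      rcases hc with hc | hc | hc <;> rw [fixN, hc]
      · exact h0.add_right 1
      · simpa using (h0.pow 2).add_right 1
      · simpa using (h0.pow 3).add_right 1
    have h5 : Nat.card Ω = f * f' := by exact_mod_cast hn
    have h6 : (2 : ℕ) ≡ 4 [MOD r] := hmod.symm.trans (h5 ▸ (hfix hu ha he.symm).mul (hfix hv hva hev))
    have h7 : r ∣ 2 := by
      have := (Nat.modEq_iff_dvd' (by norm_num)).mp h6
      norm_num at this
      exact this
    have h8 := (Nat.prime_dvd_prime_iff_eq hr Nat.prime_two).mp h7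
    exact Nat.not_even_iff_odd.mpr (odd_eAt hQ hi ha) (even_iff_two_dvd.mpr (h8 ▸ hre))
  refine ⟨k, hk, fun g hg => Nat.eq_of_mul_eq_mul_right hepos ((moved_mul hX hu ha hg).trans hk.symm),
    fun c hc huc => ?_, ?_⟩
  · obtain ⟨g, hg⟩ := exists_conj_mul hX hu hc₁ huc₁ hc huc
    rw [← hg, fixN_conj]
    exact hff
  · have hf1 : 1 < f := one_lt_fixN hX hu
    have hfn : f ≤ Nat.card Ω := by
      rw [hf, fixN, ← Set.ncard_univ]
      exact Set.ncard_le_ncard (Set.subset_univ _)
    rw [hff] at h1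
    zify [hf1.le, (hf1.le.trans hfn : 1 ≤ Nat.card Ω)]
    linear_combination h1

end CfsgLib.Bender.Q
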