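import Cfsg.Agent.Lib.Bender.Q.Heredity

/-!
The standing hypotheses of sections II-VI of theorem Q, the involutions with two fixed points and the full ones.

Blueprint: `blueprint/bender/Q2.md`.
-/

set_option autoImplicit false
set_option linter.unusedSectionVars false
set_option linter.style.haveILetI false

universe u

namespace CfsgLib.Bender.Q

open MulAction
open CfsgLib.Bender.TwoClosed (IsInv fixSet conj_mem_of_normalizer)

/-- No element of odd order inverted by a member fixes its point and another one, except the identity. -/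
def NoBad (G Ω : Type u) [Group G] [MulAction G Ω] (Z : Set G) : Prop :=
  ∀ z ∈ Z, ∀ (j : G) (a b : Ω), z • a = a → z * j * z = j⁻¹ → Odd (orderOf j) → j • a = a → b ≠ a →
    j • b = b → j = 1

/-- The hypotheses of theorem Q after the fusion lemma: smaller groups are settled, no inverted element is bad, and
the group is generated by its members, two of which commute. -/
structure Ctx (G Ω : Type u) [Group G] [MulAction G Ω] (Z : Set G) : Prop where
  hyp : Hyp G Ω Z
  below : Below.{u} (Nat.card G)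
  noBad : NoBad G Ω Z
  four : FourIn Z ⊤
  gen : Subgroup.closure Z = ⊤

variable {G Ω : Type u} [Group G] [MulAction G Ω] {Z : Set G}

/-- An involution with at least two fixed points. -/
def IsB (Ω : Type u) [MulAction G Ω] (u : G) : Prop := IsInv u ∧ ∃ a b : Ω, a ≠ b ∧ u • a = a ∧ u • b = b

/-- `u` centralises every member at each of its fixed points. -/
def Full (Ω : Type u) [MulAction G Ω] (Z : Set G) (u : G) : Prop :=
  ∀ c : Ω, u • c = c → ∀ z ∈ Z, z • c = c → u * z = z * u

theorem IsB.conj {u : G} (h : IsB Ω u) (g : G) : IsB Ω (g * u * g⁻¹) := by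
  obtain ⟨hi, a, b, hab, ha, hb⟩ := h
  exact ⟨hi.conj g, g • a, g • b, fun e => hab (smul_left_cancel g e), CfsgLib.Bender.TwoClosed.smul_conj ha,
    CfsgLib.Bender.TwoClosed.smul_conj hb⟩

theorem Full.conj (hQ : Hyp G Ω Z) {u : G} (h : Full Ω Z u) (g : G) : Full Ω Z (g * u * g⁻¹) := by
  intro c hc z hz hzc
  rw [mul_smul, mul_smul] at hc
  have h1 := h (g⁻¹ • c) (by rw [← smul_left_cancel_iff g, hc, smul_inv_smul]) _
    (by simpa using hQ.conj z hz g⁻¹) (CfsgLib.Bender.TwoClosed.smul_conj hzc (g := g⁻¹))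
  calc g * u * g⁻¹ * z = g * (u * (g⁻¹ * z * g⁻¹⁻¹)) * g⁻¹ := by group
    _ = g * ((g⁻¹ * z * g⁻¹⁻¹) * u) * g⁻¹ := by rw [h1]
    _ = z * (g * u * g⁻¹) := by group

variable [Finite G] (hX : Ctx G Ω Z)
include hX

/-- A member normalising a subgroup of odd order with two fixed points, at one of them, centralises it. -/
theorem Ctx.commute_of_fix {X : Subgroup G} (hodd : Odd (Nat.card X)) {z : G} (hz : z ∈ Z)
    (hn : z ∈ Subgroup.normalizer (X : Set G)) {c d : Ω} (hc : c ∈ fixSet Ω X) (hd : d ∈ fixSet Ω X)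
    (hne : d ≠ c) (hzc : z • c = c) : ∀ e ∈ X, e * z = z * e := fun e he => by
  have hzi := hX.hyp.inv z hz
  have hy : z * e * z⁻¹ * e⁻¹ ∈ X := mul_mem (conj_mem_of_normalizer hn he) (inv_mem he)
  have h := hX.noBad z hz _ c d hzc (by
      rw [hzi.inv, mul_inv_rev, mul_inv_rev, mul_inv_rev, inv_inv, hzi.inv]
      calc z * (z * e * z * e⁻¹) * z = (z * z) * e * (z * e⁻¹ * z) := by group
        _ = e * (z * (e⁻¹ * z)) := by rw [hzi.2, one_mul, mul_assoc z])
    (hodd.of_dvd_nat (Subgroup.orderOf_dvd_natCard X hy)) (hc _ hy) hne (hd _ hy)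
  rw [mul_inv_eq_one, mul_inv_eq_iff_eq_mul] at h
  exact h.symm

/-- Two members at a point acting alike on two points coincide. -/
theorem Ctx.eq_of_fix_two [FaithfulSMul G Ω] {y z : G} (hy : y ∈ Z) (hz : z ∈ Z) {a b : Ω} (hya : y • a = a)
    (hza : z • a = a) (hne : b ≠ a) (hb : y • b = z • b) : y = z := by
  have hyi := hX.hyp.inv y hy
  have hzi := hX.hyp.inv z hz
  have hb' : (y * z) • b = b := by rw [mul_smul, ← hb, hyi.smul_twice]
  rcases Nat.even_or_odd (orderOf (y * z)) with hev | hodd
  · exfalso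
    have hw := central_mem hX.hyp hy hz hev
    have hwa : ((y * z) ^ (orderOf (y * z) / 2)) • a = a :=
      mem_stabilizer_iff.mp (pow_mem (mem_stabilizer_iff.mpr (by rw [mul_smul, hza, hya])) _)
    have hwb : ((y * z) ^ (orderOf (y * z) / 2)) • b = b :=
      mem_stabilizer_iff.mp (pow_mem (mem_stabilizer_iff.mpr hb') _)
    exact hne (eq_of_fix hX.hyp hw hwb hwa)
  · have h := hX.noBad y hy (y * z) a b hya (by
        rw [mul_inv_rev, hyi.inv, hzi.inv, ← mul_assoc y y, hyi.2, one_mul])
      hodd (by rw [mul_smul, hza, hya]) hne hb'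
    exact (mul_eq_one_iff_eq_inv.mp h).trans hzi.inv

/-- The centre of a member swapping two points is neither of them. -/
theorem Ctx.centre_ne {z : G} {a b c : Ω} (hz : z ∈ Z) (hzc : z • c = c) (hza : z • a = b) (hne : b ≠ a) :
    c ≠ a ∧ c ≠ b :=
  ⟨fun e => hne (by rw [← hza, ← e, hzc]), fun e => hne (by
    have h := (hX.hyp.inv z hz).swap_back hza
    rw [← e, hzc] at h
    rw [← e, h])⟩

end CfsgLib.Bender.Q
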