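import Cfsg.Agent.Lib.Bender.Q.Klein
import Cfsg.Agent.Lib.CyclicInt.Defs

/-!
Two commuting involutions fixing two points: the members exchanging the points split into four parts, and the part
commuting with both is not small against the part commuting with one.

Blueprint: `blueprint/bender/Q2.md` II.5.
-/

set_option autoImplicit false
set_option linter.unusedSectionVars false
set_option linter.style.haveILetI false

universe u

namespace CfsgLib.Bender.Q

open MulAction
open CfsgLib.Bender.TwoClosed (IsInv two mem_two smul_conj mem_normalizer_of_conj conj_mem_of_normalizer)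

section Generic

variable {G : Type u} [Group G]

theorem conj_eq_self_iff {u x : G} (hu : u * u = 1) : u * x * u = x ↔ u * x = x * u := by
  constructor
  · intro h
    calc u * x = u * x * u * u := by rw [mul_assoc (u * x), hu, mul_one]
      _ = x * u := by rw [h]
  · intro h
    rw [h, mul_assoc, hu, mul_one]

variable [Finite G]

theorem mem_normalizer_inf_centralizer {O : Subgroup G} {u w : G} (hw : w ∈ Subgroup.normalizer (O : Set G))
    (huw : u * w = w * u) :
    w ∈ Subgroup.normalizer ((O ⊓ Subgroup.centralizer ({u} : Set G) : Subgroup G) : Set G) :=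
  mem_normalizer_of_conj fun x hx => ⟨conj_mem_of_normalizer hw hx.1, mem_cent_iff.mpr (by
    have h1 : Commute u x := mem_cent_iff.mp hx.2
    exact ((show Commute u w from huw).mul_right h1).mul_right (show Commute u w from huw).inv_right)⟩

end Generic

variable {G Ω : Type u} [Group G] [MulAction G Ω] {Z : Set G}

/-- The number of members mapping `a` to `b` commuting with both of two elements. -/
noncomputable def sAt2 (Z : Set G) (u w : G) (a b : Ω) : ℕ :=
  {x | x ∈ Z ∧ (u * x = x * u ∧ w * x = x * w) ∧ x • a = b}.ncard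

variable [Finite G] (hQ : Hyp G Ω Z)
include hQ

/-- Two commuting involutions fixing two points commute with a member exchanging them. -/
theorem exists_swap_pair {u w : G} (hu : IsInv u) (hw : IsInv w) (hne : u ≠ w) (huw : u * w = w * u) {a b : Ω}
    (hb : b ≠ a) (hua : u • a = a) (hub : u • b = b) (hwa : w • a = a) (hwb : w • b = b) :
    ∃ c ∈ Z, c • a = b ∧ u * c = c * u ∧ w * c = c * w := by
  obtain ⟨-, -, h2⟩ := CfsgLib.CyclicInt.four_group hu hw hne huw
  have hle : Subgroup.closure ({u, w} : Set G) ≤ two a b := by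
    refine (Subgroup.closure_le _).mpr ?_
    rintro x (rfl | rfl)
    · exact mem_two.mpr ⟨hua, hub⟩
    · exact mem_two.mpr ⟨hwa, hwb⟩
  obtain ⟨c, hc, hca, hcX⟩ := exists_swap_cent hQ h2 hb (fun x hx => (mem_two.mp (hle hx)).1)
    fun x hx => (mem_two.mp (hle hx)).2
  exact ⟨c, hc, hca, hcX u (Subgroup.subset_closure (Or.inl rfl)), hcX w (Subgroup.subset_closure (Or.inr rfl))⟩

/-- The members at `b` commuting with both, matched with the swappers. -/
theorem sAt2_eq {u w : G} {a b : Ω} (hb : b ≠ a) {i : G} (hi : i ∈ Z) (hia : i • a = a) (hui : u * i = i * u)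
    (hwi : w * i = i * w) : sAt2 Z u w a b = {z | z ∈ eSet Z u b ∧ w * z = z * w}.ncard := by
  refine Set.ncard_congr (fun x _ => x * i * x) ?_ ?_ ?_
  · rintro x ⟨hx, ⟨hxu, hxw⟩, hxa⟩
    refine ⟨⟨conj_member hQ hx hi, ?_, ?_⟩, ?_⟩
    · exact (((show Commute u x from hxu).mul_right hui).mul_right hxu).eq
    · rw [mul_smul, mul_smul, (hQ.inv _ hx).swap_back hxa, hia, hxa]
    · exact (((show Commute w x from hxw).mul_right hwi).mul_right hxw).eq
  · rintro x x' ⟨hx, -, hxa⟩ ⟨hx', -, -⟩ h
    have hxb : (x * i * x) • b = b := by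
      rw [mul_smul, mul_smul, (hQ.inv _ hx).swap_back hxa, hia, hxa]
    exact swap_unique hQ hi hia hb.symm hx' hx (h ▸ hxb) h
  · rintro j ⟨⟨hj, hju, hjb⟩, hjw⟩
    obtain ⟨x, hx, he, hcl⟩ := exists_swap_conj hQ hi hia hj hjb hb.symm
    have key : ∀ y : G, y * i = i * y → y * j = j * y → y * x = x * y := fun y h1 h2 =>
      mem_cent_iff.mp ((Subgroup.closure_le _).mpr (by
        rintro _ (rfl | rfl)
        · exact mem_cent_iff.mpr h1
        · exact mem_cent_iff.mpr h2) hcl)
    exact ⟨x, ⟨hx, ⟨key u hui hju, key w hwi hjw⟩, (swap_points hQ hia hj hjb hx he).1⟩, he⟩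

/-- The four parts of the members exchanging the points of two commuting involutions. -/
theorem pair_split {u w c : G} (hu : IsInv u) (hw : IsInv w) (huw : u * w = w * u) {a b : Ω}
    (hb : b ≠ a) (hua : u • a = a) (hub : u • b = b) (hwa : w • a = a) (hwb : w • b = b) (hc : c ∈ Z)
    (hca : c • a = b) (huc : u * c = c * u) (hwc : w * c = c * w) :
    ∃ p q r : ℕ, sAt Z u a b = sAt2 Z u w a b * p ∧ sAt Z w a b = sAt2 Z u w a b * q ∧
      sAt Z (u * w) a b = sAt2 Z u w a b * r ∧ Nat.card (MemAt Z a) = sAt2 Z u w a b * p * q * r ∧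
      sAt Z (u * c) a b = q * r := by
  set D : Subgroup G := two a b
  set O := oddRad D
  have hci := hQ.inv c hc
  have hOn : ∀ {v : G}, v • a = a → v • b = b → v ∈ Subgroup.normalizer (O : Set G) := fun h1 h2 =>
    le_normalizer_oddRad _ (Subgroup.le_normalizer (mem_two.mpr ⟨h1, h2⟩))
  have hodd : ∀ y : G, Odd (Nat.card ↥(O ⊓ Subgroup.centralizer ({y} : Set G))) := fun y =>
    (odd_oddRad D).of_dvd_nat (Subgroup.card_dvd_of_le inf_le_left)
  set N : (G → Prop) → ℕ := fun P => {x | x ∈ O ∧ c * x * c = x⁻¹ ∧ P x}.ncard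
  have hcomm : ∀ {v : G}, IsInv v → v * c = c * v → ∀ x, c * x * c = x⁻¹ → (v * x = x * v ↔ v * (x * c) = x * c * v) :=
    fun {v} _ hvc x _ => by
      constructor
      · intro h
        exact ((show Commute v x from h).mul_right hvc).eq
      · intro h
        have := ((show Commute v (x * c) from h).mul_right (show Commute v c from hvc)).eq
        rwa [mul_assoc, hci.2, mul_one] at this
  have hu' : sAt Z u a b = N fun x => u * x = x * u :=
    ncard_swap_eq hQ hb hc hca (fun y => u * y = y * u) _ (hcomm hu huc)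
  have hw' : sAt Z w a b = N fun x => w * x = x * w :=
    ncard_swap_eq hQ hb hc hca (fun y => w * y = y * w) _ (hcomm hw hwc)
  have hx' : sAt Z (u * w) a b = N fun x => u * w * x = x * (u * w) := by
    refine ncard_swap_eq hQ hb hc hca (fun y => u * w * y = y * (u * w)) _ fun x _ => ?_
    have hxc : Commute (u * w) c := (show Commute u c from huc).mul_left hwc
    constructor
    · intro h
      exact ((show Commute (u * w) x from h).mul_right hxc).eq
    · intro h
      have := ((show Commute (u * w) (x * c) from h).mul_right hxc).eq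
      rwa [mul_assoc x c c, hci.2, mul_one] at this
  have h0 : sAt2 Z u w a b = N fun x => u * x = x * u ∧ w * x = x * w :=
    ncard_swap_eq hQ hb hc hca (fun y => u * y = y * u ∧ w * y = y * w) _
      fun x hx => and_congr (hcomm hu huc x hx) (hcomm hw hwc x hx)
  have huc' : sAt Z (u * c) a b = N fun x => u * x * u = x⁻¹ := by
    refine ncard_swap_eq hQ hb hc hca (fun y => u * c * y = y * (u * c)) _ fun x hxc => ?_
    have hl : (u * c) * (x * c) = u * x⁻¹ := by rw [← hxc]; group
    have hr : x * c * (u * c) = x * u := by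
      rw [huc, show x * c * (c * u) = x * (c * c) * u by group, hci.2, mul_one]
    rw [hl, hr]
    constructor
    · intro h1
      calc u * x⁻¹ = u * (u * x * u) := by rw [h1]
        _ = x * u := by rw [show u * (u * x * u) = (u * u) * x * u by group, hu.2, one_mul]
    · intro h1
      calc u * x * u = u * (x * u) := by group
        _ = x⁻¹ := by rw [← h1, ← mul_assoc, hu.2, one_mul]
  have hm : Nat.card (MemAt Z a) = sAt Z u a b * sAt Z (u * c) a b :=
    card_memAt_eq_mul hQ hb hc hca hu huc (Subgroup.le_normalizer (mem_two.mpr ⟨hua, hub⟩))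
  -- the splittings inside the four centralisers
  have hsplit : ∀ (y v : G), v * v = 1 → v * y = y * v → v * c = c * v →
      v ∈ Subgroup.normalizer (O : Set G) →
      (N fun x => y * x = x * y) = (N fun x => y * x = x * y ∧ v * x * v = x) *
        (N fun x => y * x = x * y ∧ v * x * v = x⁻¹) := fun y v hv hvy hvc hvn => by
    have h := ncard_inverted_split (hodd y) hci.2 hv hvc.symm (mem_normalizer_inf_centralizer hvn hvy.symm)
    have e1 : ∀ P : G → Prop, {x | x ∈ O ⊓ Subgroup.centralizer ({y} : Set G) ∧ c * x * c = x⁻¹ ∧ P x} =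
        {x | x ∈ O ∧ c * x * c = x⁻¹ ∧ y * x = x * y ∧ P x} := fun P => by
      ext x
      exact ⟨fun ⟨⟨h1, h2⟩, h3, h4⟩ => ⟨h1, h3, mem_cent_iff.mp h2, h4⟩,
        fun ⟨h1, h3, h2, h4⟩ => ⟨⟨h1, mem_cent_iff.mpr h2⟩, h3, h4⟩⟩
    rw [e1, e1] at h
    show {x | x ∈ O ∧ c * x * c = x⁻¹ ∧ y * x = x * y}.ncard = _
    rw [← h]
    congr 1
    ext x
    exact ⟨fun ⟨h1, h3, h2⟩ => ⟨⟨h1, mem_cent_iff.mpr h2⟩, h3⟩, fun ⟨⟨h1, h2⟩, h3⟩ => ⟨h1, h3, mem_cent_iff.mp h2⟩⟩
  have hN : ∀ {P P' : G → Prop}, (∀ x, c * x * c = x⁻¹ → (P x ↔ P' x)) → N P = N P' := fun {P P'} h => by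
    show Set.ncard _ = Set.ncard _
    congr 1
    ext x
    exact and_congr_right fun _ => and_congr_right fun hx => h x hx
  have huw2 : u * w * (u * w) = 1 := by
    rw [show u * w * (u * w) = u * (w * u) * w by group, ← huw, show u * (u * w) * w = u * u * (w * w) by group,
      hu.2, hw.2, one_mul]
  -- `u+`, split by `w`
  have h1 := hsplit u w hw.2 huw.symm hwc (hOn hwa hwb)
  -- `w+`, split by `u`
  have h2 := hsplit w u hu.2 huw huc (hOn hua hub)
  -- `uw+`, split by `u`
  have h3 := hsplit (u * w) u hu.2 (by rw [mul_assoc, huw]) huc (hOn hua hub)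
  -- `u-`, split by `w`
  have h4 := hsplit (u * c) w hw.2 ((show Commute w u from huw.symm).mul_right hwc).eq hwc (hOn hwa hwb)
  have huc2 : ∀ x, c * x * c = x⁻¹ → (u * c * x = x * (u * c) ↔ u * x * u = x⁻¹) := fun x hxc => by
    have hl : u * c * x = u * x⁻¹ * c := by
      rw [← hxc, show u * (c * x * c) * c = u * c * x * (c * c) by group, hci.2, mul_one]
    rw [hl, ← mul_assoc x, mul_left_inj]
    constructor
    · intro h
      calc u * x * u = u * (x * u) := by group
        _ = x⁻¹ := by rw [← h, ← mul_assoc, hu.2, one_mul]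
    · intro h
      calc u * x⁻¹ = u * (u * x * u) := by rw [h]
        _ = x * u := by rw [show u * (u * x * u) = (u * u) * x * u by group, hu.2, one_mul]
  have hminus : ∀ x, u * x * u = x⁻¹ → (u * w * x = x * (u * w) ↔ w * x * w = x⁻¹) := fun x hxu => by
    rw [← conj_eq_self_iff huw2]
    have e : u * w * x * (u * w) = w * (u * x * u) * w := by
      calc u * w * x * (u * w) = (u * w) * x * (u * w) := by group
        _ = (w * u) * x * (u * w) := by rw [huw]
        _ = _ := by group
    rw [e, hxu]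
    constructor
    · intro h
      calc w * x * w = (w * x⁻¹ * w)⁻¹ := by rw [mul_inv_rev, mul_inv_rev, inv_inv, hw.inv, mul_assoc]
        _ = x⁻¹ := by rw [h]
    · intro h
      calc w * x⁻¹ * w = (w * x * w)⁻¹ := by rw [mul_inv_rev, mul_inv_rev, hw.inv, mul_assoc]
        _ = x := by rw [h, inv_inv]
  have hplus : ∀ x, u * x = x * u → (u * w * x = x * (u * w) ↔ w * x = x * w) := fun x hxu => by
    constructor
    · intro h
      have := ((show Commute u x from hxu).mul_left (show Commute (u * w) x from h)).eq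
      rwa [show u * (u * w) = w by rw [← mul_assoc, hu.2, one_mul]] at this
    · intro h
      exact ((show Commute u x from hxu).mul_left h).eq
  set e0 := N fun x => u * x = x * u ∧ w * x = x * w
  refine ⟨N fun x => u * x = x * u ∧ w * x * w = x⁻¹, N fun x => w * x = x * w ∧ u * x * u = x⁻¹,
    N fun x => u * w * x = x * (u * w) ∧ u * x * u = x⁻¹, ?_, ?_, ?_, ?_⟩
  · rw [hu', h0, h1, hN fun x _ => and_congr_right fun _ => conj_eq_self_iff hw.2]
  · rw [hw', h0, h2]
    congr 1
    exact hN fun x _ => by rw [conj_eq_self_iff hu.2, and_comm]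
  · rw [hx', h0, h3]
    congr 1
    exact hN fun x _ => by
      rw [conj_eq_self_iff hu.2]
      exact ⟨fun ⟨h, h'⟩ => ⟨h', (hplus x h').mp h⟩, fun ⟨h', h⟩ => ⟨(hplus x h').mpr h, h'⟩⟩
  · have hT : sAt Z (u * c) a b = (N fun x => w * x = x * w ∧ u * x * u = x⁻¹) *
        N fun x => u * w * x = x * (u * w) ∧ u * x * u = x⁻¹ := by
      rw [huc', ← hN huc2, h4]
      congr 1
      · exact hN fun x hx => by rw [huc2 x hx, conj_eq_self_iff hw.2, and_comm]
      · exact hN fun x hx => by
          rw [huc2 x hx, and_comm]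
          exact ⟨fun ⟨h, h'⟩ => ⟨(hminus x h').mpr h, h'⟩, fun ⟨h, h'⟩ => ⟨(hminus x h').mp h, h'⟩⟩
    refine ⟨?_, hT⟩
    rw [hm, hT, hu', h1, hN fun x _ => and_congr_right fun _ => conj_eq_self_iff hw.2, h0]
    ring

variable [FaithfulSMul G Ω] (hX : Ctx G Ω Z)
include hX

omit hQ in
/-- An element whose square centralises the members at a point commuting with `u` centralises at least the square root
of them. -/
theorem eAt_succ_le_sq_aut {u w : G} (hu : IsB Ω u) {a : Ω} (hua : u • a = a) (hwa : w • a = a)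
    (huw : u * w = w * u) (hw2 : ∀ z ∈ eSet Z u a, w * w * z = z * (w * w)) :
    eAt Z u a + 1 ≤ ({z | z ∈ eSet Z u a ∧ w * z = z * w}.ncard + 1) ^ 2 ∧
      ({z | z ∈ eSet Z u a ∧ w * z = z * w}.ncard + 1) ∣ eAt Z u a + 1 := by
  classical
  have hQ := hX.hyp
  let A : Subgroup G :=
    { carrier := insert 1 (eSet Z u a)
      one_mem' := Set.mem_insert _ _
      mul_mem' := by
        intro x y hx hy
        rcases hx with rfl | hx
        · simpa using hy
        rcases hy with rfl | hy
        · simpa using Or.inr hx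
        rcases eq_or_ne x y with rfl | hne
        · exact Or.inl (hQ.inv x hx.1).2
        refine Or.inr ⟨prod_mem hQ hx.1 hy.1 hne (commute_at hX hu hua hx hy), ?_, ?_⟩
        · exact ((show Commute u x from hx.2.1).mul_right hy.2.1).eq
        · rw [mul_smul, hy.2.2, hx.2.2]
      inv_mem' := by
        intro x hx
        rcases hx with rfl | hx
        · simp
        · rw [(hQ.inv x hx.1).inv]
          exact Or.inr hx }
  have hA : ∀ x : G, x ∈ A ↔ x = 1 ∨ x ∈ eSet Z u a := fun x => Iff.rfl
  have hcomm : ∀ x ∈ A, ∀ y ∈ A, x * y = y * x := fun x hx y hy => by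
    rcases (hA x).mp hx with rfl | hx
    · simp
    rcases (hA y).mp hy with rfl | hy
    · simp
    exact commute_at hX hu hua hx hy
  have hsq : ∀ x ∈ A, x * x = 1 := fun x hx => by
    rcases (hA x).mp hx with rfl | hx
    · simp
    · exact (hQ.inv x hx.1).2
  have hconj : ∀ x ∈ A, w * x * w⁻¹ ∈ A := fun x hx => by
    rcases (hA x).mp hx with rfl | hx
    · rw [mul_one, mul_inv_cancel]; exact A.one_mem
    refine (hA _).mpr (Or.inr ⟨hQ.conj x hx.1 w, ?_, ?_⟩)
    · exact (((show Commute u w from huw).mul_right hx.2.1).mul_right (show Commute u w from huw).inv_right).eq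
    · rw [mul_smul, mul_smul, inv_smul_eq_iff.mpr hwa.symm, hx.2.2, hwa]
  let φ : A →* A :=
    { toFun := fun x => ⟨(x : G) * (w * x * w⁻¹), A.mul_mem x.2 (hconj x x.2)⟩
      map_one' := Subtype.ext (by simp)
      map_mul' := fun x y => Subtype.ext (by
        show (x : G) * y * (w * ((x : G) * y) * w⁻¹) = x * (w * x * w⁻¹) * (y * (w * y * w⁻¹))
        rw [← conj_mul]
        calc (x : G) * y * ((w * x * w⁻¹) * (w * y * w⁻¹)) = x * (y * (w * x * w⁻¹)) * (w * y * w⁻¹) := by group
          _ = x * ((w * x * w⁻¹) * y) * (w * y * w⁻¹) := by rw [hcomm _ y.2 _ (hconj x x.2)]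
          _ = _ := by group) }
  have hcard : Nat.card A = eAt Z u a + 1 := by
    rw [show Nat.card A = (insert 1 (eSet Z u a) : Set G).ncard from Nat.card_coe_set_eq _,
      Set.ncard_insert_of_notMem (fun h => (hQ.inv 1 h.1).1 rfl) (Set.toFinite _), eAt]
  have hker : Nat.card φ.ker = {z | z ∈ eSet Z u a ∧ w * z = z * w}.ncard + 1 := by
    rw [← Set.ncard_insert_of_notMem (a := (1 : G)) (fun h => (hQ.inv 1 h.1.1).1 rfl) (Set.toFinite _),
      ← Nat.card_coe_set_eq]
    have hk : ∀ x : A, x ∈ φ.ker ↔ w * (x : G) = x * w := fun x => by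
      rw [MonoidHom.mem_ker, Subtype.ext_iff]
      show (x : G) * (w * x * w⁻¹) = 1 ↔ _
      rw [mul_eq_one_iff_inv_eq, inv_eq_of_mul_eq_one_right (hsq x x.2), eq_comm, mul_inv_eq_iff_eq_mul]
    refine Nat.card_eq_of_bijective (fun x : φ.ker => ⟨((x : A) : G), ?_⟩) ⟨fun x y h => ?_, ?_⟩
    · rcases (hA _).mp (x : A).2 with h | h
      · exact Or.inl h
      · exact Or.inr ⟨h, (hk _).mp x.2⟩
    · exact Subtype.ext (Subtype.ext (congrArg Subtype.val h :))
    · rintro ⟨x, rfl | ⟨hx, hxw⟩⟩
      · exact ⟨1, rfl⟩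
      · exact ⟨⟨⟨x, Or.inr hx⟩, (hk ⟨x, Or.inr hx⟩).mpr hxw⟩, rfl⟩
  have hrange : Nat.card φ.range ≤ Nat.card φ.ker := by
    refine Subgroup.card_le_of_le ?_
    rintro _ ⟨x, rfl⟩
    rw [MonoidHom.mem_ker]
    apply Subtype.ext
    show (x : G) * (w * x * w⁻¹) * (w * ((x : G) * (w * x * w⁻¹)) * w⁻¹) = 1
    have h2 : w * w * (x : G) * (w * w)⁻¹ = x := by
      rcases (hA x).mp x.2 with e | e
      · rw [e, mul_one, mul_inv_cancel]
      · rw [hw2 x e, mul_inv_cancel_right]
    rw [show w * ((x : G) * (w * x * w⁻¹)) * w⁻¹ = w * (x : G) * w⁻¹ * (w * w * x * (w * w)⁻¹) by group, h2]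
    calc (x : G) * (w * x * w⁻¹) * ((w * x * w⁻¹) * x) = x * ((w * x * w⁻¹) * (w * x * w⁻¹)) * x := by group
      _ = 1 := by rw [hsq _ (hconj x x.2), mul_one, hsq _ x.2]
  have hprod : Nat.card φ.range * Nat.card φ.ker = Nat.card A := by
    rw [← Nat.card_congr (QuotientGroup.quotientKerEquivRange φ).toEquiv]
    exact (Subgroup.card_eq_card_quotient_mul_card_subgroup φ.ker).symm
  refine ⟨?_, ?_⟩
  · rw [← hcard, ← hprod, ← hker, pow_two]
    exact Nat.mul_le_mul_right _ hrange
  · rw [← hcard, ← hker, ← hprod]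
    exact dvd_mul_left _ _

omit hQ in
/-- An involution fixing a point fixes at least the square root of the members there commuting with a second one. -/
theorem eAt_succ_le_sq {u w : G} (hu : IsB Ω u) {a : Ω} (hua : u • a = a) (hw : IsInv w) (hwa : w • a = a)
    (huw : u * w = w * u) :
    eAt Z u a + 1 ≤ ({z | z ∈ eSet Z u a ∧ w * z = z * w}.ncard + 1) ^ 2 ∧
      ({z | z ∈ eSet Z u a ∧ w * z = z * w}.ncard + 1) ∣ eAt Z u a + 1 :=
  eAt_succ_le_sq_aut hX hu hua hwa huw fun z _ => by rw [hw.2, one_mul, mul_one]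

end CfsgLib.Bender.Q
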