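import Cfsg.Agent.Lib.Bender.Q.Count
import Cfsg.Agent.Lib.Bender.Q.Pair

/-!
Common fixed points of two commuting involutions: their number divides the number of fixed points of one commuting
with a single member at each, and is one more than a power of two when the other commutes with several.

Blueprint: `blueprint/bender/Q2.md` II.5, the case `r = 2`.
-/

set_option autoImplicit false
set_option linter.unusedSectionVars false
set_option linter.style.haveILetI false

universe u v

namespace CfsgLib.Bender.Q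

open MulAction Cfsg
open CfsgLib.Bender.TwoClosed (IsInv two mem_two smul_conj mem_of_sq_mem mem_normalizer_of_conj conj_mem_of_normalizer)

section RankOne

variable {G : Type u} {Ω : Type v} [Group G] [Finite G] [MulAction G Ω] {a : Ω} {t : G} {Q : Subgroup G}
  (hS : IsRankOneSetup G Ω a t Q)
include hS

theorem mem_Q_of_pow_two {y : G} (hy : y • a = a) {i : ℕ} (hi : y ^ 2 ^ i = 1) : y ∈ Q := by
  obtain ⟨x, hx, d, hd, rfl⟩ := CfsgLib.RankOne.exists_decomp hS hy
  have hpow : ∀ n : ℕ, ∃ x' ∈ Q, (x * d) ^ n = x' * d ^ n := by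
    intro n
    induction n with
    | zero => exact ⟨1, Q.one_mem, by simp⟩
    | succ n ih =>
      obtain ⟨x', hx', he⟩ := ih
      have hda : (d ^ n) • a = a := ((CfsgLib.RankOne.mem_D hS).mp (Subgroup.pow_mem _ hd n)).1
      refine ⟨x' * (d ^ n * x * (d ^ n)⁻¹), Q.mul_mem hx' (CfsgLib.RankOne.conj_Q hS hda hx), ?_⟩
      rw [pow_succ, he, pow_succ]
      group
  obtain ⟨x', hx', he⟩ := hpow (2 ^ i)
  rw [hi] at he
  have h1 : d ^ 2 ^ i = 1 := by
    refine CfsgLib.RankOne.eq_one_of_fix_ta hS ?_ ((CfsgLib.RankOne.mem_D hS).mp (Subgroup.pow_mem _ hd _)).2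
    rw [show d ^ 2 ^ i = x'⁻¹ by rw [eq_inv_iff_mul_eq_one]; exact mul_eq_one_comm.mp he.symm]
    exact Q.inv_mem hx'
  have h2 : orderOf d = 1 := Nat.eq_one_of_dvd_coprimes
    ((Nat.coprime_two_left.mpr (hS.odd_card)).pow_left i) (orderOf_dvd_of_pow_eq_one h1)
    (Subgroup.orderOf_dvd_natCard _ hd)
  rwa [orderOf_eq_one_iff.mp h2, mul_one]

/-- A permutation normalising the set-up and fixing `a` fixes one more than a power of two points, if more than one. -/
theorem card_fix_of_normalizing (hQ : IsPGroup 2 Q) {W : Ω → Ω} (σ : G →* G) (hσ : Function.Involutive σ)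
    (hW : ∀ (g : G) (c : Ω), W (g • c) = σ g • W c) (hWa : W a = a) {b : Ω} (hb : b ≠ a) (hWb : W b = b) :
    ∃ i : ℕ, {c : Ω | W c = c}.ncard = 2 ^ i + 1 := by
  haveI : Fact (Nat.Prime 2) := ⟨Nat.prime_two⟩
  haveI := CfsgLib.RankOne.finite_points hS
  have hmem : ∀ x ∈ Q, σ x ∈ Q := fun x hx => by
    have ha : σ x • a = a := by
      conv_lhs => arg 2; rw [← hWa]
      rw [← hW, CfsgLib.RankOne.mem_Q_a hS hx, hWa]
    obtain ⟨i, hi⟩ := hQ ⟨x, hx⟩
    have hi' : x ^ 2 ^ i = 1 := congrArg Subtype.val hi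
    exact mem_Q_of_pow_two hS ha (i := i) (by rw [← map_pow, hi', map_one])
  let C : Subgroup G :=
    { carrier := {x | x ∈ Q ∧ σ x = x}
      one_mem' := ⟨Q.one_mem, map_one σ⟩
      mul_mem' := fun {x y} hx hy => ⟨Q.mul_mem hx.1 hy.1, by rw [map_mul, hx.2, hy.2]⟩
      inv_mem' := fun {x} hx => ⟨Q.inv_mem hx.1, by rw [map_inv, hx.2]⟩ }
  obtain ⟨i, hi⟩ := IsPGroup.iff_card.mp (hQ.to_le (show C ≤ Q from fun x hx => hx.1))
  refine ⟨i, ?_⟩
  have hset : {c : Ω | W c = c} = insert a ((fun x : G => x • b) '' C) := by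
    ext c
    constructor
    · intro hc
      rcases eq_or_ne c a with rfl | hca
      · exact Or.inl rfl
      · obtain ⟨⟨x, hx⟩, hxb, huniq⟩ := CfsgLib.RankOne.exists_unique_Q hS hb hca
        refine Or.inr ⟨x, ⟨hx, ?_⟩, hxb⟩
        refine congrArg Subtype.val (huniq ⟨σ x, hmem x hx⟩ ?_)
        have hc' : W c = c := hc
        show σ x • b = c
        have hxb' : x • b = c := hxb
        conv_lhs => arg 2; rw [← hWb]
        rw [← hW, hxb', hc']
    · rintro (rfl | ⟨x, ⟨hx, hxσ⟩, rfl⟩)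
      · exact hWa
      · show W (x • b) = x • b
        rw [hW, hxσ, hWb]
  have hinj : Set.InjOn (fun x : G => x • b) (C : Set G) := fun x hx y hy h => by
    have h1 : (y⁻¹ * x) • b = b := by
      rw [mul_smul, show x • b = y • b from h, inv_smul_smul]
    exact (inv_mul_eq_one.mp (CfsgLib.RankOne.eq_one_of_fix hS (Q.mul_mem (Q.inv_mem hy.1) hx.1) hb h1)).symm
  have hnot : a ∉ (fun x : G => x • b) '' C := by
    rintro ⟨x, hx, he⟩
    refine hb ?_
    have he' : x • b = a := he
    rw [← CfsgLib.RankOne.mem_Q_a hS hx.1] at he'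
    exact smul_left_cancel x he'
  rw [hset, Set.ncard_insert_of_notMem hnot (Set.toFinite _), hinj.ncard_image, ← Nat.card_coe_set_eq]
  exact congrArg (· + 1) hi

end RankOne

variable {G Ω : Type u} [Group G] [MulAction G Ω] [Finite G] [FaithfulSMul G Ω] {Z : Set G} (hX : Ctx G Ω Z)
include hX

/-- Common fixed points with an involution commuting with several members at a point. -/
theorem card_common_fix_two_pow {u w : G} (hu : IsB Ω u) {a b : Ω} (hua : u • a = a) (hub : u • b = b)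
    (he : eAt Z u a ≠ 1) (huw : u * w = w * u) (hw : IsInv w) (hwa : w • a = a) (hwb : w • b = b) (hb : b ≠ a) :
    ∃ i : ℕ, {c : Ω | u • c = c ∧ w • c = c}.ncard = 2 ^ i + 1 := by
  have hQ := hX.hyp
  have h4 := four_of_eAt_ne_one hX hu hua he
  set C := Subgroup.centralizer ({u} : Set G)
  set X := memGrp Z C with hXdef
  have hcen : centres Ω Z X = {c : Ω | u • c = c} := centres_memGrp_cent hX hu
  have hax : a ∈ centres Ω Z X := hcen.ge hua
  obtain ⟨t, Q, hS, hq⟩ := exists_setup_fix hX hu h4 hax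
  have hF := (isTopOdd_memGrp (isTop_cent hX hu h4)).fourTop hQ hX.below
  obtain ⟨j, -, hj⟩ := Ext.qZ_two_pow hS hF
  have hQp : IsPGroup 2 Q := by
    haveI : Fact (Nat.Prime 2) := ⟨Nat.prime_two⟩
    rcases Ext.shape_cases hS hF with ⟨-, h | h⟩ | ⟨-, h⟩
    · exact IsPGroup.of_card (h.trans hj)
    · exact IsPGroup.of_card (h.trans (by rw [hj, ← pow_mul]))
    · exact IsPGroup.of_card (h.trans (by rw [hj, ← pow_mul]))
  have hwC : w ∈ Subgroup.normalizer (C : Set G) := Subgroup.le_normalizer (mem_cent_iff.mpr huw)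
  have hwX : ∀ x ∈ X, w * x * w ∈ X := fun x hx => by
    have := conj_memGrp hQ hwC hx
    rwa [hw.inv] at this
  have hwc : ∀ c ∈ centres Ω Z X, w • c ∈ centres Ω Z X := fun c hc => by
    rw [hcen] at hc ⊢
    show u • w • c = w • c
    rw [← mul_smul, huw, mul_smul, show u • c = c from hc]
  let W : centres Ω Z X → centres Ω Z X := fun c => ⟨w • (c : Ω), hwc c c.2⟩
  have hW2 : ∀ c, W (W c) = c := fun c => Subtype.ext (hw.smul_twice (c : Ω))
  let P : Equiv.Perm (centres Ω Z X) := Function.Involutive.toPerm W hW2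
  have hP2 : P * P = 1 := Equiv.ext fun c => hW2 c
  have hPP : ∀ g : Equiv.Perm (centres Ω Z X), g ∈ topGrp hQ X → P * g * P ∈ topGrp hQ X := by
    rintro _ ⟨x, rfl⟩
    refine ⟨⟨w * x * w, hwX x x.2⟩, Equiv.ext fun c => Subtype.ext ?_⟩
    show (w * (x : G) * w) • (c : Ω) = w • (x : G) • w • (c : Ω)
    rw [mul_smul, mul_smul]
  let σ : topGrp hQ X →* topGrp hQ X :=
    { toFun := fun g => ⟨P * g * P, hPP g g.2⟩
      map_one' := Subtype.ext (by simp [hP2])
      map_mul' := fun g g' => Subtype.ext (by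
        show P * ((g : Equiv.Perm (centres Ω Z X)) * g') * P = P * g * P * (P * g' * P)
        calc P * ((g : Equiv.Perm (centres Ω Z X)) * g') * P = P * g * (P * P) * g' * P := by rw [hP2]; group
          _ = _ := by group) }
  have hσ : Function.Involutive σ := fun g => Subtype.ext (by
    show P * (P * (g : Equiv.Perm (centres Ω Z X)) * P) * P = g
    calc P * (P * (g : Equiv.Perm (centres Ω Z X)) * P) * P = (P * P) * g * (P * P) := by group
      _ = g := by rw [hP2, one_mul, mul_one])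
  have hbx : b ∈ centres Ω Z X := hcen.ge hub
  obtain ⟨i, hi⟩ := card_fix_of_normalizing hS hQp (W := W) σ hσ (fun g c => by
      show W ((g : Equiv.Perm (centres Ω Z X)) c) = P ((g : Equiv.Perm (centres Ω Z X)) (P (W c)))
      rw [show P (W c) = c from hW2 c]
      rfl)
    (Subtype.ext hwa) (b := ⟨b, hbx⟩) (fun e => hb (congrArg Subtype.val e)) (Subtype.ext hwb)
  refine ⟨i, ?_⟩
  rw [← hi, ← Set.ncard_image_of_injective {c : centres Ω Z X | W c = c} Subtype.val_injective]
  congr 1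
  ext c
  constructor
  · rintro ⟨hc1, hc2⟩
    exact ⟨⟨c, hcen.ge hc1⟩, Subtype.ext hc2, rfl⟩
  · rintro ⟨d, hd, rfl⟩
    exact ⟨hcen.le d.2, congrArg Subtype.val hd⟩

/-- Common fixed points with an involution commuting with one member at each of its fixed points. -/
theorem card_common_fix_dvd {u w : G} (hw : IsB Ω w) {a : Ω} (hua : u • a = a) (hwa : w • a = a)
    (he : eAt Z w a = 1) (hu : IsInv u) (huw : u * w = w * u) :
    {c : Ω | u • c = c ∧ w • c = c}.ncard ∣ fixN Ω w := by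
  have hQ := hX.hyp
  haveI := finite_points hQ
  set X := Subgroup.centralizer ({w} : Set G) with hXdef
  have h4 : ¬ FourIn Z X := fun h => by
    have := (card_fix_cases hX hw h hwa).1
    omega
  have hall : ∀ c, w • c = c → eAt Z w c = 1 := fun c hc => (eAt_eq hQ hw hc hwa).trans he
  obtain ⟨z, hzs⟩ := Set.ncard_eq_one.mp he
  have hz : z ∈ eSet Z w a := hzs.ge rfl
  obtain ⟨hzZ, hzw, hza⟩ := hz
  have hzi := hQ.inv z hzZ
  have hzX : z ∈ X := mem_cent_iff.mpr hzw
  set N := oddRad X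
  set k := (Nat.card N + 1) / 2
  have hmemN : ∀ {y : G}, y ∈ Z → y ∈ X → y * z ∈ N := fun {y} hy hyX => by
    refine mem_of_sq_mem (odd_mul_of_no_four hQ h4 hyX hzX hy hzZ) ?_
    have h := comm_mem_of_no_four hQ h4 hy hyX hzX
    rwa [hzi.inv, mul_assoc (y * z)] at h
  have hback : ∀ x : G, x ∈ N → z * x * z = x⁻¹ → x * z ∈ Z ∧ x * z ∈ X := fun x hx hxz => by
    refine ⟨?_, X.mul_mem (oddRad_le _ hx) hzX⟩
    have hr := inv_conj_pow hzi.2 hxz k
    have h2 := hQ.conj z hzZ (x ^ k)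
    rwa [show x ^ k * z * (x ^ k)⁻¹ = x * z by
      rw [← hr, show x ^ k * z * (z * x ^ k * z) = x ^ k * (z * z) * x ^ k * z by group, hzi.2, mul_one,
        pow_half_mul_self (odd_oddRad _) hx]] at h2
  have huz : u * z = z * u := by
    have hmem : u * z * u ∈ eSet Z w a := by
      refine ⟨by have := hQ.conj z hzZ u; rwa [hu.inv] at this, ?_, ?_⟩
      · exact (((show Commute w u from huw.symm).mul_right hzw).mul_right huw.symm).eq
      · rw [mul_smul, mul_smul, hua, hza, hua]
    rw [hzs, Set.mem_singleton_iff, conj_eq_self_iff hu.2] at hmem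
    exact hmem
  have hsplit := ncard_inverted_split (odd_oddRad X) hzi.2 hu.2 huz.symm
    (le_normalizer_oddRad _ (Subgroup.le_normalizer (mem_cent_iff.mpr huw.symm)))
  have hmove : ∀ P : G → Prop, ∀ P' : G → Prop, (∀ x, (P' x ↔ P (x * z))) →
      {y | y ∈ Z ∧ y ∈ X ∧ P y}.ncard = {x | x ∈ N ∧ z * x * z = x⁻¹ ∧ P' x}.ncard := fun P P' hP => by
    rw [← Set.ncard_image_of_injective {x | x ∈ N ∧ z * x * z = x⁻¹ ∧ P' x} (mul_left_injective z)]
    congr 1
    ext y
    constructor
    · rintro ⟨hy, hyX, hPy⟩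
      refine ⟨y * z, ⟨hmemN hy hyX, ?_, ?_⟩, ?_⟩
      · rw [mul_inv_rev, hzi.inv, (hQ.inv y hy).inv, mul_assoc, mul_assoc y z z, hzi.2, mul_one]
      · rw [hP, mul_assoc, hzi.2, mul_one]
        exact hPy
      · show y * z * z = y
        rw [mul_assoc, hzi.2, mul_one]
    · rintro ⟨x, ⟨hx, hxz, hPx⟩, rfl⟩
      exact ⟨(hback x hx hxz).1, (hback x hx hxz).2, (hP x).mp hPx⟩
  have hall' : {y | y ∈ Z ∧ y ∈ X ∧ True}.ncard = fixN Ω w := by
    rw [show {y | y ∈ Z ∧ y ∈ X ∧ True} = {y | y ∈ Z ∧ w * y = y * w} by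
      ext y
      exact ⟨fun h => ⟨h.1, mem_cent_iff.mp h.2.1⟩, fun h => ⟨h.1, mem_cent_iff.mpr h.2, trivial⟩⟩,
      ncard_members hX hw hwa, he, mul_one]
  have hboth : {y | y ∈ Z ∧ y ∈ X ∧ u * y = y * u}.ncard = {c : Ω | u • c = c ∧ w • c = c}.ncard := by
    have h := ncard_mul_eq (S := {y | y ∈ Z ∧ y ∈ X ∧ u * y = y * u}) (T := {c : Ω | u • c = c ∧ w • c = c})
      (fun y c => y • c = c) (m := 1) (n := 1) (fun y hy => ?_) (fun c hc => ?_)
    · simpa using h
    · obtain ⟨p, hp, huniq⟩ := hQ.one_fix y hy.1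
      rw [Set.ncard_eq_one]
      exact ⟨p, Set.eq_singleton_iff_unique_mem.mpr
        ⟨⟨⟨commute_fix hQ hy.1 hp hy.2.2, commute_fix hQ hy.1 hp (mem_cent_iff.mp hy.2.1)⟩, hp⟩,
          fun x hx => huniq x hx.2⟩⟩
    · obtain ⟨y, hys⟩ := Set.ncard_eq_one.mp (hall c hc.2)
      obtain ⟨hy, hyw, hyc⟩ : y ∈ eSet Z w c := hys.ge rfl
      have huy : u * y = y * u := by
        have hmem : u * y * u ∈ eSet Z w c := by
          refine ⟨by have := hQ.conj y hy u; rwa [hu.inv] at this, ?_, ?_⟩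
          · exact (((show Commute w u from huw.symm).mul_right hyw).mul_right huw.symm).eq
          · rw [mul_smul, mul_smul, hc.1, hyc, hc.1]
        rw [hys, Set.mem_singleton_iff, conj_eq_self_iff hu.2] at hmem
        exact hmem
      rw [Set.ncard_eq_one]
      refine ⟨y, Set.eq_singleton_iff_unique_mem.mpr ⟨⟨⟨hy, mem_cent_iff.mpr hyw, huy⟩, hyc⟩, fun x hx => ?_⟩⟩
      have : x ∈ eSet Z w c := ⟨hx.1.1, mem_cent_iff.mp hx.1.2.1, hx.2⟩
      rw [hys] at this
      exact this
  rw [← hall', ← hboth, hmove (fun _ => True) (fun _ => True) (fun _ => Iff.rfl),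
    hmove (fun y => u * y = y * u) (fun x => u * x * u = x) (fun x => by
      rw [conj_eq_self_iff hu.2]
      constructor
      · intro h
        exact ((show Commute u x from h).mul_right huz).eq
      · intro h
        have := ((show Commute u (x * z) from h).mul_right huz).eq
        rwa [mul_assoc, hzi.2, mul_one] at this)]
  simp only [and_true]
  exact Dvd.intro _ hsplit.symm

end CfsgLib.Bender.Q
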