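import Cfsg.Agent.Lib.Bender.Q.FixCount
import Mathlib.Data.ZMod.Basic

/-!
A four group inside a pair stabiliser consists of full involutions; so either every involution with two fixed points is
full or none is, they form one class and no two of them commute inside a pair stabiliser.

Blueprint: `blueprint/bender/Q2.md` II.5, II.7.
-/

set_option autoImplicit false
set_option linter.unusedSectionVars false
set_option linter.style.haveILetI false

universe u

namespace CfsgLib.Bender.Q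

open MulAction
open CfsgLib.Bender.TwoClosed (IsInv two mem_two smul_conj MaxP exists_maxP)

section Arith

theorem ratio_cases {e0 p : ℕ} (h0 : 0 < e0) (h1 : e0 * p + 1 ≤ (e0 + 1) ^ 2) (h2 : ∃ i, e0 * p + 1 = 2 ^ i)
    (h3 : e0 + 1 ∣ e0 * p + 1) : p = 1 ∨ p = e0 + 2 := by
  obtain ⟨i, hi⟩ := h2
  obtain ⟨j, hji, hj⟩ := (Nat.dvd_prime_pow Nat.prime_two).mp (hi ▸ h3)
  have hj1 : 1 ≤ j := by
    by_contra hc
    rw [show j = 0 by omega, pow_zero] at hj
    omega
  have hij : i ≤ 2 * j := by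
    rw [hi, hj, ← pow_mul, mul_comm j] at h1
    exact (Nat.pow_le_pow_iff_right (by norm_num)).mp h1
  have hdvd : 2 ^ j - 1 ∣ 2 ^ i - 1 :=
    ⟨p, by rw [show 2 ^ j - 1 = e0 by omega, show 2 ^ i - 1 = e0 * p by omega]⟩
  have hg := Nat.gcd_eq_left hdvd
  rw [Nat.pow_sub_one_gcd_pow_sub_one] at hg
  have hg' : Nat.gcd j i = j := Nat.pow_right_injective le_rfl (show 2 ^ Nat.gcd j i = 2 ^ j by
    have := Nat.one_le_two_pow (n := Nat.gcd j i)
    have := Nat.one_le_two_pow (n := j)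
    omega)
  obtain ⟨t, rfl⟩ : j ∣ i := hg' ▸ Nat.gcd_dvd_right j i
  obtain rfl | rfl : t = 1 ∨ t = 2 := by
    rcases t with _ | _ | _ | t
    · omega
    · exact Or.inl rfl
    · exact Or.inr rfl
    · nlinarith
  · rw [mul_one, ← hj] at hi
    exact Or.inl (Nat.eq_of_mul_eq_mul_left h0 (by omega))
  · rw [pow_mul, ← hj] at hi
    refine Or.inr (Nat.eq_of_mul_eq_mul_left h0 ?_)
    nlinarith

theorem two_pow_ne {i N : ℕ} (hN : N = 12 ∨ N = 6 ∨ N = 48 ∨ N = 192) : 2 ^ i ≠ N := by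
  intro h
  have hlt : i < 8 := (Nat.pow_lt_pow_iff_right (a := 2) (by norm_num)).mp (by omega)
  interval_cases i <;> omega

end Arith

variable {G Ω : Type u} [Group G] [MulAction G Ω] [Finite G] [FaithfulSMul G Ω] {Z : Set G} (hX : Ctx G Ω Z)
include hX

theorem full_iff {u : G} (hu : IsB Ω u) {a : Ω} (ha : u • a = a) :
    Full Ω Z u ↔ eAt Z u a = Nat.card (MemAt Z a) := by
  have hQ := hX.hyp
  have hcard : ∀ c : Ω, Nat.card (MemAt Z c) = {z : G | z ∈ Z ∧ z • c = c}.ncard := fun c =>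
    Nat.card_coe_set_eq {z : G | z ∈ Z ∧ z • c = c}
  constructor
  · intro h
    rw [hcard, eAt, eSet]
    congr 1
    ext z
    exact ⟨fun hz => ⟨hz.1, hz.2.2⟩, fun hz => ⟨hz.1, h a ha z hz.1 hz.2, hz.2⟩⟩
  · intro h c hc z hz hzc
    have he : {z : G | z ∈ Z ∧ z • c = c}.ncard ≤ (eSet Z u c).ncard := by
      rw [← hcard, card_memAt_eq hQ c a, ← h, ← eAt, eAt_eq hQ hu hc ha]
    have heq := Set.eq_of_subset_of_ncard_le (fun z (hz : z ∈ eSet Z u c) =>
      (⟨hz.1, hz.2.2⟩ : z ∈ {z : G | z ∈ Z ∧ z • c = c})) he (Set.toFinite _)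
    exact (heq.ge (⟨hz, hzc⟩ : z ∈ {z : G | z ∈ Z ∧ z • c = c})).2.1

/-- The fixed points of an involution with several commuting members at a point are `2` modulo their number. -/
theorem fixN_mod {u : G} (hu : IsB Ω u) {a : Ω} (ha : u • a = a) (he : eAt Z u a ≠ 1) {P : ℕ}
    (hP : P ∣ eAt Z u a) : fixN Ω u ≡ 2 [MOD P] := by
  obtain ⟨-, hc⟩ := card_fix_cases hX hu (four_of_eAt_ne_one hX hu ha he) ha
  have h0 : eAt Z u a + 1 ≡ 1 [MOD P] := by
    simpa using (Nat.modEq_zero_iff_dvd.mpr hP).add_right 1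
  rcases hc with hc | hc | hc <;> rw [fixN, hc]
  · exact h0.add_right 1
  · simpa using (h0.pow 2).add_right 1
  · simpa using (h0.pow 3).add_right 1

/-- Two involutions of a four group have the small ratio. -/
theorem false_of_two {u : G} (hu : IsB Ω u) {a : Ω} (ha : u • a = a) {s t : ℕ} (hs : Odd s)
    (he : eAt Z u a = s * (s + 2)) (hm : Nat.card (MemAt Z a) = s * (s + 2) * (s + 2) * t) : False := by
  obtain ⟨k, hk, -, -, hEQ⟩ := hX.eq_count hu ha
  have hspos : 0 < s := hs.pos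
  have hk' : k = (s + 2) * t := Nat.eq_of_mul_eq_mul_right (show 0 < s * (s + 2) by positivity) (by
    rw [← he, hk, hm, he]; ring)
  obtain ⟨P, hP, hPs⟩ := Nat.exists_prime_and_dvd (show s + 2 ≠ 1 by omega)
  haveI := Fact.mk hP
  have hPe : P ∣ eAt Z u a := he ▸ hPs.mul_left s
  have hn := hX.card_points_mod (hm ▸ ((hPs.mul_left s).mul_right (s + 2)).mul_right t)
  have hf := fixN_mod hX hu ha (by rw [he]; nlinarith) hPe
  haveI := finite_points hX.hyp
  haveI : Nonempty Ω := ⟨a⟩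
  have h1 : t * (Nat.card Ω - 1) = (fixN Ω u - 1) * (t + fixN Ω u * s) :=
    Nat.eq_of_mul_eq_mul_left (show 0 < s + 2 by omega) (by
      calc (s + 2) * (t * (Nat.card Ω - 1)) = k * (Nat.card Ω - 1) := by rw [hk']; ring
        _ = _ := by rw [hEQ, hk', he]; ring)
  have h2 := congrArg (fun x : ℕ => (x : ZMod P)) h1
  simp only [Nat.cast_mul, Nat.cast_add] at h2
  rw [Nat.cast_sub (one_lt_fixN hX hu).le, Nat.cast_sub Nat.card_pos, Nat.cast_one,
    (ZMod.natCast_eq_natCast_iff _ _ _).mpr hn, (ZMod.natCast_eq_natCast_iff _ _ _).mpr hf] at h2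
  have h3 : ((s + 2 : ℕ) : ZMod P) = 0 := (ZMod.natCast_eq_zero_iff _ _).mpr hPs
  push_cast at h2 h3
  have h4 : ((4 : ℕ) : ZMod P) = 0 := by
    push_cast
    linear_combination h2 + 2 * h3
  have h5 : P ∣ 4 := (ZMod.natCast_eq_zero_iff _ _).mp h4
  have h6 : P = 2 := (Nat.prime_dvd_prime_iff_eq hP Nat.prime_two).mp
    (hP.dvd_of_dvd_pow (show P ∣ 2 ^ 2 from h5))
  rw [h6] at hPs
  obtain ⟨i, hi⟩ := hs
  omega

/-- One involution of a four group full, another with the small number. -/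
theorem false_of_one {u w : G} {a b : Ω} (hb : b ≠ a) (hu : IsInv u) (hw : IsInv w) (huw : u * w = w * u)
    (hua : u • a = a) (hub : u • b = b) (hwa : w • a = a) (hwb : w • b = b) {s : ℕ} (hs : Odd s)
    (heu : eAt Z u a = s * (s + 2)) (hew : eAt Z w a = s) (hm : Nat.card (MemAt Z a) = s * (s + 2)) : False := by
  have hQ := hX.hyp
  haveI := finite_points hQ
  have huB : IsB Ω u := ⟨hu, a, b, hb.symm, hua, hub⟩
  have hwB : IsB Ω w := ⟨hw, a, b, hb.symm, hwa, hwb⟩
  have hspos : 0 < s := hs.pos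
  have hne1 : eAt Z u a ≠ 1 := by rw [heu]; nlinarith
  obtain ⟨ku, hku, -, -, hEQu⟩ := hX.eq_count huB hua
  obtain ⟨kw, hkw, -, -, hEQw⟩ := hX.eq_count hwB hwa
  rw [heu, hm] at hku
  rw [hew, hm] at hkw
  have hku1 : ku = 1 := Nat.eq_of_mul_eq_mul_right (show 0 < s * (s + 2) by positivity) (by rw [hku, one_mul])
  have hkw1 : kw = s + 2 := Nat.eq_of_mul_eq_mul_right hspos (by rw [hkw]; ring)
  rw [hku1, one_mul, heu] at hEQu
  rw [hkw1, hew] at hEQw
  have hfu := one_lt_fixN hX huB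
  have hfw := one_lt_fixN hX hwB
  set N := Nat.card Ω - 1
  rcases Nat.lt_or_ge s 3 with hs3 | hs3
  · obtain rfl : s = 1 := by obtain ⟨i, hi⟩ := hs; omega
    obtain ⟨i, hi⟩ := card_common_fix_two_pow hX huB hua hub hne1 huw hw hwa hwb hb
    have hdvd := card_common_fix_dvd hX hwB hua hwa hew hu huw
    rw [hi] at hdvd
    have hcases : fixN Ω w = 13 ∨ fixN Ω w = 49 ∨ fixN Ω w = 193 := by
      obtain ⟨-, hc⟩ := card_fix_cases hX huB (four_of_eAt_ne_one hX huB hua hne1) hua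
      rw [heu] at hc
      rcases hc with hc | hc | hc
      all_goals rw [fixN, hc] at hEQu
      all_goals norm_num at hEQu
      all_goals rw [hEQu] at hEQw
      all_goals generalize fixN Ω w = f at hfw hEQw ⊢
      all_goals obtain ⟨g, rfl⟩ : ∃ g, f = g + 1 := ⟨f - 1, by omega⟩
      all_goals simp only [Nat.add_sub_cancel] at hEQw
      · exact Or.inl (by nlinarith)
      · exact Or.inr (Or.inl (by nlinarith))
      · exact Or.inr (Or.inr (by nlinarith))
    have h2i := Nat.one_le_two_pow (n := i)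
    rcases hcases with h | h | h <;> rw [h] at hdvd
    · rcases (Nat.dvd_prime (by norm_num)).mp hdvd with h' | h'
      · omega
      · exact two_pow_ne (i := i) (N := 12) (Or.inl rfl) (by omega)
    · obtain ⟨k, hk, h'⟩ := (Nat.dvd_prime_pow (show Nat.Prime 7 by norm_num)).mp (show 2 ^ i + 1 ∣ 7 ^ 2 from hdvd)
      interval_cases k
      · norm_num at h'
      · exact two_pow_ne (i := i) (N := 6) (Or.inr (Or.inl rfl)) (by omega)
      · exact two_pow_ne (i := i) (N := 48) (Or.inr (Or.inr (Or.inl rfl))) (by omega)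
    · rcases (Nat.dvd_prime (by norm_num)).mp hdvd with h' | h'
      · omega
      · exact two_pow_ne (i := i) (N := 192) (Or.inr (Or.inr (Or.inr rfl))) (by omega)
  have hN : s * (s + 2) * 2 + 1 ≤ N := by
    rw [hEQu]
    calc s * (s + 2) * 2 + 1 ≤ 1 * (1 + fixN Ω u * (s * (s + 2))) := by nlinarith
      _ ≤ _ := Nat.mul_le_mul_right _ (by omega)
  obtain ⟨-, hc⟩ := card_fix_cases hX hwB (four_of_eAt_ne_one hX hwB hwa (by omega)) hwa
  rw [hew] at hc
  rcases hc with hc | hc | hc <;> rw [fixN, hc, Nat.add_sub_cancel] at hEQw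
  · have h : N = (s + 1) * (s + 1) := Nat.eq_of_mul_eq_mul_left (show 0 < s + 2 by omega) (by rw [hEQw]; ring)
    nlinarith
  · have hZ := congrArg (fun x : ℕ => (x : ℤ)) hEQw
    push_cast at hZ
    have h4 : ((s + 2 : ℕ) : ℤ) ∣ 4 := ⟨((s : ℤ) + 1) ^ 4 - 2 * ((s : ℤ) + 1) ^ 3 + 3 * ((s : ℤ) + 1) ^ 2
      - 4 * ((s : ℤ) + 1) + 4 + ((s : ℤ) + 1) ^ 2 - N, by push_cast; linear_combination hZ⟩
    have := Nat.le_of_dvd (by norm_num) (show s + 2 ∣ 4 by exact_mod_cast h4)
    omega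
  · obtain ⟨P, hP, hPs⟩ := Nat.exists_prime_and_dvd (show s + 2 ≠ 1 by omega)
    haveI := Fact.mk hP
    haveI : Nonempty Ω := ⟨a⟩
    have hn := hX.card_points_mod (hm ▸ hPs.mul_left s)
    have hZ := congrArg (fun x : ℕ => (x : ℤ)) hEQw
    push_cast at hZ
    have hNZ : (N : ℤ) = ((s : ℤ) + 1) ^ 3 * (1 + (((s : ℤ) + 1) ^ 2 - ((s : ℤ) + 1) + 1) * s) :=
      mul_left_cancel₀ (show ((s : ℤ) + 2) ≠ 0 by omega) (by linear_combination hZ)
    have h2 := congrArg (fun x : ℤ => (x : ZMod P)) hNZ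
    simp only [Int.cast_mul, Int.cast_add, Int.cast_sub, Int.cast_pow, Int.cast_natCast, Int.cast_one] at h2
    rw [show N = Nat.card Ω - 1 from rfl, Nat.cast_sub Nat.card_pos, Nat.cast_one,
      (ZMod.natCast_eq_natCast_iff _ _ _).mpr hn] at h2
    have h3 : ((s + 2 : ℕ) : ZMod P) = 0 := (ZMod.natCast_eq_zero_iff _ _).mpr hPs
    push_cast at h2 h3
    have hs' : (s : ZMod P) = -2 := by linear_combination h3
    rw [hs'] at h2
    have h4 : ((4 : ℕ) : ZMod P) = 0 := by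
      push_cast
      linear_combination -h2
    have h5 : P ∣ 4 := (ZMod.natCast_eq_zero_iff _ _).mp h4
    have h6 : P = 2 := (Nat.prime_dvd_prime_iff_eq hP Nat.prime_two).mp
      (hP.dvd_of_dvd_pow (show P ∣ 2 ^ 2 from h5))
    rw [h6] at hPs
    obtain ⟨i, hi⟩ := hs
    omega

/-- II.5: commuting involutions of a pair stabiliser are full. -/
theorem full_of_four {u w : G} {a b : Ω} (hb : b ≠ a) (hu : IsInv u) (hw : IsInv w) (hne : u ≠ w)
    (huw : u * w = w * u) (hua : u • a = a) (hub : u • b = b) (hwa : w • a = a) (hwb : w • b = b) :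
    Full Ω Z u := by
  have hQ := hX.hyp
  have hx : IsInv (u * w) := ⟨fun e => hne ((mul_eq_one_iff_eq_inv.mp e).trans hw.inv), by
    rw [show u * w * (u * w) = u * (w * u) * w by group, ← huw, show u * (u * w) * w = u * u * (w * w) by group,
      hu.2, hw.2, one_mul]⟩
  have hxa : (u * w) • a = a := by rw [mul_smul, hwa, hua]
  have hxb : (u * w) • b = b := by rw [mul_smul, hwb, hub]
  have hB : ∀ {v : G}, IsInv v → v • a = a → v • b = b → IsB Ω v := fun hv h1 h2 => ⟨hv, a, b, hb.symm, h1, h2⟩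
  have hsAt : ∀ {v : G}, IsInv v → v • a = a → v • b = b → sAt Z v a b = eAt Z v a := fun {v} hv h1 h2 => by
    rw [sAt_eq_eAt hQ hv hb h1, eAt_eq hQ (hB hv h1 h2) h2 h1]
  obtain ⟨c, hc, hca, huc, hwc⟩ := exists_swap_pair hQ hu hw hne huw hb hua hub hwa hwb
  obtain ⟨p, q, r, hp, hq, hr, hm, -⟩ := pair_split hQ hu hw huw hb hua hub hwa hwb hc hca huc hwc
  rw [hsAt hu hua hub] at hp
  rw [hsAt hw hwa hwb] at hq
  rw [hsAt hx hxa hxb] at hr
  -- a member at `a` commuting with both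
  obtain ⟨-, -, h2⟩ := CfsgLib.CyclicInt.four_group hu hw hne huw
  have hle : Subgroup.closure ({u, w} : Set G) ≤ stabilizer G a := by
    refine (Subgroup.closure_le _).mpr ?_
    rintro x (rfl | rfl) <;> assumption
  obtain ⟨i, hi, hia, hiX⟩ := hQ.two_cent _ a h2 fun x hx => mem_stabilizer_iff.mp (hle hx)
  have hui : u * i = i * u := hiX u (Subgroup.subset_closure (Or.inl rfl))
  have hwi : w * i = i * w := hiX w (Subgroup.subset_closure (Or.inr rfl))
  set e0 := sAt2 Z u w a b with he0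
  have h0 : Odd e0 := by
    have h := odd_eAt hQ hu hua
    rw [hp] at h
    exact (Nat.odd_mul.mp h).1
  have hcases : ∀ {v v' : G}, IsInv v → IsInv v' → v * v' = v' * v → v • a = a → v • b = b → v' • a = a →
      v' • b = b → v * i = i * v → v' * i = i * v' → sAt2 Z v v' a b = e0 → ∀ {p' : ℕ}, eAt Z v a = e0 * p' →
      p' = 1 ∨ p' = e0 + 2 := fun {v v'} hv hv' hvv hva hvb hv'a hv'b hvi hv'i he {p'} hp' => by
    obtain ⟨hle, hdvd⟩ := eAt_succ_le_sq hX (hB hv hva hvb) hvb hv' hv'b hvv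
    rw [← sAt2_eq hQ hb hi hia hvi hv'i, he, eAt_eq hQ (hB hv hva hvb) hvb hva, hp'] at hle hdvd
    obtain ⟨n, -, hn⟩ := eAt_two_pow hX (hB hv hva hvb) hva
    exact ratio_cases h0.pos hle ⟨n, hp' ▸ hn⟩ hdvd
  have hswap : sAt2 Z w u a b = e0 := by
    rw [he0, sAt2, sAt2]
    congr 1
    ext x
    exact and_congr_right fun _ => and_congr_left' and_comm
  have hxu : (u * w) * u = u * (u * w) := by rw [mul_assoc, huw]
  have hx2 : sAt2 Z (u * w) u a b = e0 := by
    rw [he0, sAt2, sAt2]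
    congr 1
    ext x
    refine and_congr_right fun _ => and_congr_left' ⟨fun ⟨h1, h2⟩ => ⟨h2, ?_⟩, fun ⟨h1, h2⟩ => ⟨?_, h1⟩⟩
    · have := ((show Commute u x from h2).mul_left (show Commute (u * w) x from h1)).eq
      rwa [show u * (u * w) = w by rw [← mul_assoc, hu.2, one_mul]] at this
    · exact ((show Commute u x from h1).mul_left h2).eq
  have hp' := hcases hu hw huw hua hub hwa hwb hui hwi rfl hp
  have hq' := hcases hw hu huw.symm hwa hwb hua hub hwi hui hswap hq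
  have hr' := hcases hx hu hxu hxa hxb hua hub ((show Commute u i from hui).mul_left hwi).eq hui hx2 hr
  rw [full_iff hX (hB hu hua hub) hua, hm, hp]
  rcases hp' with rfl | rfl <;> rcases hq' with rfl | rfl <;> rcases hr' with rfl | rfl
  · ring
  · exact (false_of_one hX hb hx hu hxu hxa hxb hua hub h0 hr (by rw [hp, mul_one]) (hm.trans (by ring))).elim
  · exact (false_of_one hX hb hw hu huw.symm hwa hwb hua hub h0 hq (by rw [hp, mul_one]) (hm.trans (by ring))).elim
  · exact (false_of_two hX (hB hw hwa hwb) hwa h0 hq (t := 1) (hm.trans (by ring))).elim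
  · exact (false_of_one hX hb hu hw huw hua hub hwa hwb h0 hp (by rw [hq, mul_one]) (hm.trans (by ring))).elim
  · exact (false_of_two hX (hB hu hua hub) hua h0 hp (t := 1) (hm.trans (by ring))).elim
  · exact (false_of_two hX (hB hu hua hub) hua h0 hp (t := 1) (hm.trans (by ring))).elim
  · exact (false_of_two hX (hB hu hua hub) hua h0 hp (t := e0 + 2) (hm.trans (by ring))).elim

/-- II.7: the dichotomy. -/
theorem full_or : (∀ u : G, IsB Ω u → Full Ω Z u) ∨ ((∀ u : G, IsB Ω u → ¬ Full Ω Z u) ∧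
    (∀ u v : G, IsB Ω u → IsB Ω v → ∃ g : G, g * u * g⁻¹ = v) ∧
    ∀ (u v : G) (a b : Ω), a ≠ b → IsInv u → IsInv v → u • a = a → u • b = b → v • a = a → v • b = b →
      u * v = v * u → u = v) := by
  have hQ := hX.hyp
  haveI : Fact (Nat.Prime 2) := ⟨Nat.prime_two⟩
  -- move a pair to a chosen one
  have move : ∀ {a b : Ω}, b ≠ a → ∀ {x : G}, IsB Ω x → ∃ g : G, (g * x * g⁻¹) • a = a ∧ (g * x * g⁻¹) • b = b := by
    intro a b hb x hx
    obtain ⟨-, a', b', hab, ha', hb'⟩ := hx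
    obtain ⟨g, hga, hgb⟩ := hX.two_trans hab.symm hb
    exact ⟨g, hga ▸ smul_conj ha', hgb ▸ smul_conj hb'⟩
  -- inside a pair stabiliser, into one Sylow subgroup
  have into : ∀ {a b : Ω} {T : Subgroup G}, MaxP 2 (two a b) T → ∀ {x : G}, IsInv x → x • a = a → x • b = b →
      ∃ g ∈ (two a b : Subgroup G), g * x * g⁻¹ ∈ T := by
    intro a b T hT x hx hxa hxb
    obtain ⟨S, hxS, hS⟩ := exists_maxP (K := two a b) (isPGroup_zpowers hx)
      (Subgroup.zpowers_le.mpr (mem_two.mpr ⟨hxa, hxb⟩))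
    obtain ⟨g, hg, hgT⟩ := hS.conj hT
    exact ⟨g, hg, (hgT x).mp (hxS (Subgroup.mem_zpowers x))⟩
  -- a central involution
  have central : ∀ {T : Subgroup G}, IsPGroup 2 T → ∀ {x : G}, IsInv x → x ∈ T →
      ∃ z ∈ T, IsInv z ∧ ∀ y ∈ T, y * z = z * y := by
    intro T hT x hx hxT
    haveI : Nontrivial T := ⟨⟨⟨x, hxT⟩, 1, fun e => hx.1 (congrArg Subtype.val e)⟩⟩
    haveI := hT.center_nontrivial
    have hp : IsPGroup 2 (Subgroup.center T) := hT.to_subgroup _
    obtain ⟨k, hk⟩ := IsPGroup.iff_card.mp hp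
    obtain ⟨z, hz⟩ := exists_prime_orderOf_dvd_card' (G := Subgroup.center T) 2 (by
      rw [hk]
      refine dvd_pow_self 2 fun k0 => ?_
      rw [k0, pow_zero] at hk
      exact absurd hk Finite.one_lt_card.ne')
    obtain ⟨hz2, hz1⟩ := CfsgLib.Involutions.orderOf_eq_two_iff'.mp hz
    exact ⟨((z : T) : G), (z : T).2, ⟨fun e => hz1 (Subtype.ext (Subtype.ext e)),
      congrArg (fun w : Subgroup.center T => ((w : T) : G)) hz2⟩,
      fun y hy => congrArg Subtype.val (Subgroup.mem_center_iff.mp z.2 ⟨y, hy⟩)⟩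
  by_cases h4 : ∃ (u w : G) (a b : Ω), b ≠ a ∧ IsInv u ∧ IsInv w ∧ u ≠ w ∧ u * w = w * u ∧ u • a = a ∧ u • b = b ∧
      w • a = a ∧ w • b = b
  · obtain ⟨u, w, a, b, hb, hu, hw, hne, huw, hua, hub, hwa, hwb⟩ := h4
    left
    intro x hx
    obtain ⟨g, hga, hgb⟩ := move hb hx
    obtain ⟨-, -, hF⟩ := CfsgLib.CyclicInt.four_group hu hw hne huw
    obtain ⟨T, hFT, hT⟩ := exists_maxP (K := two a b) hF (by
      refine (Subgroup.closure_le _).mpr ?_
      rintro y (rfl | rfl)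
      · exact mem_two.mpr ⟨hua, hub⟩
      · exact mem_two.mpr ⟨hwa, hwb⟩)
    have huT : u ∈ T := hFT (Subgroup.subset_closure (Or.inl rfl))
    have hwT : w ∈ T := hFT (Subgroup.subset_closure (Or.inr rfl))
    have hx' := hx.1.conj g
    obtain ⟨d, hd, hdT⟩ := into hT hx' hga hgb
    obtain ⟨z, hzT, hz, hzc⟩ := central hT.isPGroup hu huT
    have hfix : ∀ {y : G}, y ∈ T → y • a = a ∧ y • b = b := fun hy => mem_two.mp (hT.le hy)
    have hfull : Full Ω Z (d * (g * x * g⁻¹) * d⁻¹) := by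
      rcases eq_or_ne (d * (g * x * g⁻¹) * d⁻¹) z with e | e
      · rw [e]
        rcases eq_or_ne u z with euz | euz
        · exact euz ▸ full_of_four hX hb hu hw hne huw hua hub hwa hwb
        · exact full_of_four hX hb hz hu euz.symm (hzc u huT).symm (hfix hzT).1 (hfix hzT).2 hua hub
      · exact full_of_four hX hb (hx'.conj d) hz e (hzc _ hdT) (hfix hdT).1 (hfix hdT).2 (hfix hzT).1 (hfix hzT).2
    have h1 := hfull.conj hQ (g⁻¹ * d⁻¹)
    rwa [show g⁻¹ * d⁻¹ * (d * (g * x * g⁻¹) * d⁻¹) * (g⁻¹ * d⁻¹)⁻¹ = x by group] at h1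
  · push Not at h4
    have huniq : ∀ (u v : G) (a b : Ω), a ≠ b → IsInv u → IsInv v → u • a = a → u • b = b → v • a = a → v • b = b →
        u * v = v * u → u = v := fun u v a b hab hu hv h1 h2 h3 h5 hc =>
      by_contra fun hne => h4 u v a b hab.symm hu hv hne hc h1 h2 h3 h5
    have hclass : ∀ u v : G, IsB Ω u → IsB Ω v → ∃ g : G, g * u * g⁻¹ = v := by
      intro u v hu hv
      obtain ⟨hvi, a, b, hab, hva, hvb⟩ := hv
      obtain ⟨g, hga, hgb⟩ := move hab.symm hu
      have hu' := hu.1.conj g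
      obtain ⟨T, hvT, hT⟩ := exists_maxP (K := two a b) (isPGroup_zpowers hvi)
        (Subgroup.zpowers_le.mpr (mem_two.mpr ⟨hva, hvb⟩))
      obtain ⟨d, hd, hdT⟩ := into hT hu' hga hgb
      obtain ⟨z, hzT, hz, hzc⟩ := central hT.isPGroup hvi (hvT (Subgroup.mem_zpowers v))
      have hall : ∀ {y : G}, IsInv y → y ∈ T → y = z := fun {y} hy hyT =>
        huniq y z a b hab hy hz (mem_two.mp (hT.le hyT)).1 (mem_two.mp (hT.le hyT)).2 (mem_two.mp (hT.le hzT)).1
          (mem_two.mp (hT.le hzT)).2 (hzc y hyT)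
      refine ⟨d * g, ?_⟩
      rw [hall hvi (hvT (Subgroup.mem_zpowers v)), ← hall (hu'.conj d) hdT]
      group
    by_cases hsome : ∃ u : G, IsB Ω u ∧ Full Ω Z u
    · obtain ⟨u, hu, hf⟩ := hsome
      refine Or.inl fun v hv => ?_
      obtain ⟨g, rfl⟩ := hclass u v hu hv
      exact hf.conj hQ g
    · push Not at hsome
      exact Or.inr ⟨hsome, hclass, huniq⟩

end CfsgLib.Bender.Q
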