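import Cfsg.Agent.Lib.Bender.Q.Members
import Cfsg.Agent.Lib.Bender.GoodAll

/-!
Hypothesis Q passes to the group a subgroup induces on the points of its members; with the induction hypothesis and
Bender's theorem this gives a rank one set-up when two members of the subgroup commute.  Otherwise the members of the
subgroup are isolated in it.

Blueprint: `blueprint/bender/Q_B1.md` 0.5, 0.6.
-/

set_option autoImplicit false
set_option linter.unusedSectionVars false
set_option linter.style.haveILetI false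

universe u

namespace CfsgLib.Bender.Q

open MulAction
open CfsgLib.Bender.TwoClosed (IsInv two mem_two smul_conj)

/-- The induction hypothesis: theorem Q for groups smaller than `n`. -/
def Below (n : ℕ) : Prop :=
  ∀ (K Δ : Type u) [Group K] [Finite K] [MulAction K Δ] [FaithfulSMul K Δ] (Z : Set K),
    Hyp K Δ Z → Nat.card K < n → ∀ x ∈ Subgroup.closure Z, IsInv x → ∃! c : Δ, x • c = c

variable {G : Type u} {Ω : Type u} [Group G] [MulAction G Ω]

/-- The points of the members in `X`. -/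
def centres (Ω : Type u) [MulAction G Ω] (Z : Set G) (X : Subgroup G) : Set Ω :=
  {c | ∃ x ∈ X, x ∈ Z ∧ x • c = c}

/-- `X` has two distinct commuting members. -/
def FourIn (Z : Set G) (X : Subgroup G) : Prop := ∃ x ∈ X, ∃ y ∈ X, x ∈ Z ∧ y ∈ Z ∧ x ≠ y ∧ x * y = y * x

/-- The subgroup generated by the members in `X`. -/
def memGrp (Z : Set G) (X : Subgroup G) : Subgroup G := Subgroup.closure {x | x ∈ Z ∧ x ∈ X}

variable {Z : Set G} {X Y : Subgroup G}

theorem memGrp_le : memGrp Z X ≤ X := (Subgroup.closure_le _).mpr fun _ hx => hx.2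

theorem mem_memGrp {x : G} (hx : x ∈ Z) (hxX : x ∈ X) : x ∈ memGrp Z X := Subgroup.subset_closure ⟨hx, hxX⟩

theorem mem_centres {x : G} (hxX : x ∈ X) (hx : x ∈ Z) {c : Ω} (hc : x • c = c) : c ∈ centres Ω Z X :=
  ⟨x, hxX, hx, hc⟩

theorem centres_mono (h : X ≤ Y) : centres Ω Z X ⊆ centres Ω Z Y := fun _ ⟨x, hx, hi, hc⟩ => ⟨x, h hx, hi, hc⟩

theorem centres_smul (hQ : Hyp G Ω Z) {x : G} (hx : x ∈ X) {c : Ω} (hc : c ∈ centres Ω Z X) :
    x • c ∈ centres Ω Z X := by
  obtain ⟨i, hi, hiv, hic⟩ := hc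
  exact ⟨x * i * x⁻¹, X.mul_mem (X.mul_mem hx hi) (X.inv_mem hx), hQ.conj i hiv x, smul_conj hic⟩

/-- The action of a subgroup on the points of its members. -/
@[reducible] def centresAct (hQ : Hyp G Ω Z) (X : Subgroup G) : MulAction X (centres Ω Z X) where
  smul x c := ⟨(x : G) • (c : Ω), centres_smul hQ x.2 c.2⟩
  one_smul c := Subtype.ext (one_smul G (c : Ω))
  mul_smul x y c := Subtype.ext (mul_smul (x : G) (y : G) (c : Ω))

/-- The permutations of the points of its members induced by `X`. -/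
def centresPerm (hQ : Hyp G Ω Z) (X : Subgroup G) : X →* Equiv.Perm (centres Ω Z X) :=
  letI := centresAct hQ X
  MulAction.toPermHom X (centres Ω Z X)

/-- The group induced on the points. -/
abbrev topGrp (hQ : Hyp G Ω Z) (X : Subgroup G) : Subgroup (Equiv.Perm (centres Ω Z X)) :=
  (centresPerm hQ X).range

/-- The image of an element. -/
abbrev img (hQ : Hyp G Ω Z) (X : Subgroup G) : X →* topGrp hQ X := (centresPerm hQ X).rangeRestrict

variable {hQ : Hyp G Ω Z}

theorem img_surjective : Function.Surjective (img hQ X) := MonoidHom.rangeRestrict_surjective _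

/-- The images of the members. -/
def imgSet (hQ : Hyp G Ω Z) (X : Subgroup G) : Set (topGrp hQ X) := {y | ∃ x : X, (x : G) ∈ Z ∧ img hQ X x = y}

theorem img_smul (x : X) (c : centres Ω Z X) : ((img hQ X x • c : centres Ω Z X) : Ω) = (x : G) • (c : Ω) := rfl

theorem smul_of_img_eq {x y : X} (h : img hQ X x = img hQ X y) {c : Ω} (hc : c ∈ centres Ω Z X) :
    (x : G) • c = (y : G) • c := by
  have := congrArg (fun z : topGrp hQ X => ((z • (⟨c, hc⟩ : centres Ω Z X) : centres Ω Z X) : Ω)) h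
  rwa [img_smul, img_smul] at this

theorem img_eq_of_smul {x y : X} (h : ∀ c ∈ centres Ω Z X, (x : G) • c = (y : G) • c) :
    img hQ X x = img hQ X y :=
  Subtype.ext (Equiv.ext fun c => Subtype.ext (h c c.2))

theorem img_eq_one_iff {x : X} : img hQ X x = 1 ↔ ∀ c ∈ centres Ω Z X, (x : G) • c = c := by
  rw [← map_one (img hQ X)]
  refine ⟨fun h c hc => by simpa using smul_of_img_eq h hc, fun h => img_eq_of_smul fun c hc => by
    simpa using h c hc⟩

instance finite_topGrp [Finite G] (hQ : Hyp G Ω Z) (X : Subgroup G) : Finite (topGrp hQ X) :=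
  Finite.of_surjective _ (MonoidHom.rangeRestrict_surjective (centresPerm hQ X))

variable (hQ)
include hQ

theorem img_mem_closure {x : X} (hx : (x : G) ∈ memGrp Z X) :
    img hQ X x ∈ Subgroup.closure (imgSet hQ X) := by
  have key : ∀ g ∈ memGrp Z X, ∀ h : g ∈ X, img hQ X ⟨g, h⟩ ∈ Subgroup.closure (imgSet hQ X) := by
    intro g hg
    induction hg using Subgroup.closure_induction with
    | mem y hy => exact fun h => Subgroup.subset_closure ⟨⟨y, h⟩, hy.1, rfl⟩
    | one =>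
      intro h
      rw [show (⟨1, h⟩ : X) = 1 from rfl, map_one]
      exact one_mem _
    | mul y z hy hz iy iz =>
      intro h
      rw [show (⟨y * z, h⟩ : X) = ⟨y, memGrp_le hy⟩ * ⟨z, memGrp_le hz⟩ from rfl, map_mul]
      exact Subgroup.mul_mem _ (iy _) (iz _)
    | inv y hy iy =>
      intro h
      rw [show (⟨y⁻¹, h⟩ : X) = (⟨y, memGrp_le hy⟩ : X)⁻¹ from rfl, map_inv]
      exact inv_mem (iy _)
  exact key x hx x.2

variable [Finite G]

theorem centres_swap {c d : Ω} (hc : c ∈ centres Ω Z X) (hd : d ∈ centres Ω Z X) (hne : c ≠ d) :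
    ∃ w ∈ X, w ∈ Z ∧ w • c = d := by
  obtain ⟨i, hiX, hi, hic⟩ := hc
  obtain ⟨j, hjX, hj, hjd⟩ := hd
  obtain ⟨w, hw, he, hcl⟩ := exists_swap_conj hQ hi hic hj hjd hne
  refine ⟨w, (Subgroup.closure_le _).mpr ?_ hcl, hw, (swap_points hQ hic hj hjd hw he).1⟩
  rintro y (rfl | rfl)
  · exact hiX
  · exact hjX

/-- A subgroup normalised by `X` fixing one of the points fixes all. -/
theorem fix_centres (hn : X ≤ Subgroup.normalizer (Y : Set G)) {g c : Ω} (hg : g ∈ centres Ω Z X)
    (hY : ∀ y ∈ Y, y • g = g) (hc : c ∈ centres Ω Z X) : ∀ y ∈ Y, y • c = c := by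
  intro y hy
  rcases eq_or_ne g c with rfl | hne
  · exact hY y hy
  · obtain ⟨w, hwX, hw, rfl⟩ := centres_swap hQ hg hc hne
    have h1 := hY _ ((Subgroup.mem_normalizer_iff.mp (hn hwX) y).mp hy)
    rw [(hQ.inv w hw).inv, mul_smul, mul_smul] at h1
    calc y • w • g = w • w • y • w • g := ((hQ.inv w hw).smul_twice _).symm
      _ = w • g := by rw [h1]

/-- No member fixes two of the points. -/
theorem img_ne_one {g c : Ω} (hg : g ∈ centres Ω Z X) (hc : c ∈ centres Ω Z X) (hne : c ≠ g) {x : X}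
    (hx : (x : G) ∈ Z) : img hQ X x ≠ 1 := fun e =>
  hne (eq_of_fix hQ hx (img_eq_one_iff.mp e c hc) (img_eq_one_iff.mp e g hg))

variable [FaithfulSMul G Ω]

/-- Hypothesis Q for the induced group. -/
theorem hyp_img {g c : Ω} (hg : g ∈ centres Ω Z X) (hc : c ∈ centres Ω Z X) (hne : c ≠ g) :
    Hyp (topGrp hQ X) (centres Ω Z X) (imgSet hQ X) where
  inv := by
    rintro _ ⟨x, hx, rfl⟩
    refine ⟨img_ne_one hQ hg hc hne hx, ?_⟩
    rw [← map_mul, show x * x = 1 from Subtype.ext (hQ.inv _ hx).2, map_one]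
  conj := by
    rintro _ ⟨x, hx, rfl⟩ y
    obtain ⟨y, rfl⟩ := img_surjective (hQ := hQ) y
    exact ⟨y * x * y⁻¹, hQ.conj _ hx _, by rw [map_mul, map_mul, map_inv]⟩
  one_fix := by
    rintro _ ⟨x, hx, rfl⟩
    obtain ⟨d, hd⟩ := exists_fix hQ hx
    exact ⟨⟨d, mem_centres x.2 hx hd⟩, Subtype.ext hd,
      fun d' hd' => Subtype.ext (eq_of_fix hQ hx (congrArg Subtype.val hd') hd)⟩
  exists_at := by
    rintro ⟨d, hd⟩
    obtain ⟨x, hxX, hx, hxd⟩ := hd
    exact ⟨img hQ X ⟨x, hxX⟩, ⟨_, hx, rfl⟩, Subtype.ext hxd⟩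
  nontriv := ⟨⟨g, hg⟩, ⟨c, hc⟩, fun e => hne (congrArg Subtype.val e).symm⟩
  two_cent := by
    intro P a hP hPa
    haveI : Fact (Nat.Prime 2) := ⟨Nat.prime_two⟩
    let H : Subgroup X := P.comap (img hQ X)
    let f : H →* P := ((img hQ X).comp H.subtype).codRestrict P fun h => h.2
    have hf : Function.Surjective f := fun y => by
      obtain ⟨x, hx⟩ := img_surjective (hQ := hQ) (X := X) (y : topGrp hQ X)
      exact ⟨⟨x, show img hQ X x ∈ P by rw [hx]; exact y.2⟩, Subtype.ext hx⟩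
    let S : Sylow 2 H := default
    have hSP : ∀ y : P, ∃ s ∈ (S : Subgroup H), f s = y := fun y => by
      have h1 := (S.mapSurjective hf).is_maximal' (IsPGroup.to_le hP le_rfl |>.to_subgroup ⊤) le_top
      have h2 : y ∈ ((S.mapSurjective hf : Sylow 2 P) : Subgroup P) := h1 ▸ Subgroup.mem_top y
      exact h2
    have hHa : ∀ h : H, ((h : X) : G) • (a : Ω) = a := fun h => congrArg Subtype.val (hPa _ h.2)
    obtain ⟨x, hxX, hx, hxa⟩ := a.2
    have hcard := odd_memIn hQ (X := X) hx hxX hxa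
    have hmaps : ∀ (s : S) (w : {y : G // y ∈ Z ∧ y ∈ X ∧ y • (a : Ω) = a}),
        (((s : H) : X) : G) * w.1 * (((s : H) : X) : G)⁻¹ ∈ Z ∧
        (((s : H) : X) : G) * w.1 * (((s : H) : X) : G)⁻¹ ∈ X ∧
        ((((s : H) : X) : G) * w.1 * (((s : H) : X) : G)⁻¹) • (a : Ω) = a := fun s w => by
      have h := smul_conj (g := (((s : H) : X) : G)) w.2.2.2
      rw [hHa] at h
      exact ⟨hQ.conj _ w.2.1 _,
        X.mul_mem (X.mul_mem ((s : H) : X).2 w.2.2.1) (X.inv_mem ((s : H) : X).2), h⟩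
    letI : MulAction S {y : G // y ∈ Z ∧ y ∈ X ∧ y • (a : Ω) = a} :=
      { smul := fun s w => ⟨_, hmaps s w⟩
        one_smul := fun w => Subtype.ext (show (1 : G) * w.1 * (1 : G)⁻¹ = w.1 by group)
        mul_smul := fun s t w => Subtype.ext (show ((((s : H) : X) : G) * (((t : H) : X) : G)) * w.1 *
          ((((s : H) : X) : G) * (((t : H) : X) : G))⁻¹ = (((s : H) : X) : G) *
            ((((t : H) : X) : G) * w.1 * (((t : H) : X) : G)⁻¹) * (((s : H) : X) : G)⁻¹ by group) }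
    obtain ⟨w, hw⟩ := S.isPGroup'.nonempty_fixed_point_of_prime_not_dvd_card
      {y : G // y ∈ Z ∧ y ∈ X ∧ y • (a : Ω) = a}
      (fun hd => Nat.not_even_iff_odd.mpr hcard (even_iff_two_dvd.mpr hd))
    refine ⟨img hQ X ⟨w.1, w.2.2.1⟩, ⟨_, w.2.1, rfl⟩, Subtype.ext w.2.2.2, fun y hy => ?_⟩
    obtain ⟨s, hs, hse⟩ := hSP ⟨y, hy⟩
    have h : (((s : X) : G)) * w.1 * ((s : X) : G)⁻¹ = w.1 := congrArg Subtype.val (hw ⟨s, hs⟩)
    have hse' : img hQ X (s : X) = y := congrArg Subtype.val hse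
    rw [← hse', ← map_mul, ← map_mul]
    exact congrArg _ (Subtype.ext (mul_inv_eq_iff_eq_mul.mp h))
  odd_mul := by
    rintro _ ⟨x, hx, rfl⟩ _ ⟨y, hy, rfl⟩ p q hp hq hpq
    refine (hQ.odd_mul _ hx _ hy _ _ (congrArg Subtype.val hp) (congrArg Subtype.val hq)
      fun e => hpq (Subtype.ext e)).of_dvd_nat ?_
    rw [← map_mul, ← Subgroup.coe_mul, Subgroup.orderOf_coe]
    exact orderOf_map_dvd _ _
  prod_fix := by
    rintro _ ⟨x, hx, rfl⟩ _ ⟨y, hy, rfl⟩ hne' hcomm d hd
    have hev : Even (orderOf ((x : G) * y)) := by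
      by_contra hodd
      rw [Nat.not_even_iff_odd] at hodd
      refine hne' (eq_of_commute_odd ⟨img_ne_one hQ hg hc hne hx, ?_⟩
        ⟨img_ne_one hQ hg hc hne hy, ?_⟩ hcomm (hodd.of_dvd_nat ?_))
      · rw [← map_mul, show x * x = 1 from Subtype.ext (hQ.inv _ hx).2, map_one]
      · rw [← map_mul, show y * y = 1 from Subtype.ext (hQ.inv _ hy).2, map_one]
      · rw [← map_mul, ← Subgroup.coe_mul, Subgroup.orderOf_coe]
        exact orderOf_map_dvd _ _
    obtain ⟨h1, -⟩ := CfsgLib.Involutions.central_half (hQ.inv _ hx).2 (hQ.inv _ hy).2 hev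
    have hxy : ((x : G) * y) • (d : Ω) = d := by
      rw [mul_smul]
      exact congrArg Subtype.val ((mul_smul _ _ _).symm.trans hd)
    have hwd : (((x : G) * y) ^ (orderOf ((x : G) * y) / 2)) • (d : Ω) = d :=
      mem_stabilizer_iff.mp (pow_mem (mem_stabilizer_iff.mpr hxy) _)
    exact Subtype.ext (commute_fix hQ (central_mem hQ hx hy hev) hwd h1.eq.symm)

/-- Two commuting members have different images. -/
theorem img_ne_of_commute {g c : Ω} (hg : g ∈ centres Ω Z X) (hc : c ∈ centres Ω Z X) (hne : c ≠ g) {x y : X}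
    (hx : (x : G) ∈ Z) (hy : (y : G) ∈ Z) (hxy : x ≠ y) (hcom : (x : G) * y = y * x) :
    img hQ X x ≠ img hQ X y := fun e => by
  refine img_ne_one hQ hg hc hne (x := x * y)
    (prod_mem hQ hx hy (fun h => hxy (Subtype.ext h)) hcom) ?_
  rw [map_mul, e, ← map_mul, show y * y = 1 from Subtype.ext (hQ.inv _ hy).2, map_one]

/-- With two commuting members the induced group has one fixed point involutions. -/
theorem oneFix_img (hB : Below.{u} (Nat.card G)) (hX : X ≠ ⊤) (h4 : FourIn Z X)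
    (hidx : Odd ((memGrp Z X).relIndex X)) {g c : Ω} (hg : g ∈ centres Ω Z X) (hc : c ∈ centres Ω Z X)
    (hne : c ≠ g) : OneFix (topGrp hQ X) (centres Ω Z X) := by
  have hH := hyp_img hQ hg hc hne
  have hlt : Nat.card (topGrp hQ X) < Nat.card G := by
    have h1 : Nat.card (topGrp hQ X) ≤ Nat.card X := Nat.card_le_card_of_surjective _ img_surjective
    have h2 : Nat.card X < Nat.card G :=
      lt_of_le_of_ne (Subgroup.card_le_card_group X) fun e => hX ((Subgroup.card_eq_iff_eq_top X).mp e)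
    omega
  refine ⟨pretransitive hH, fun y hy => hB _ _ _ hH hlt y ?_ hy, ?_⟩
  · obtain ⟨x, rfl⟩ := img_surjective y
    haveI : ((memGrp Z X).subgroupOf X).Normal := by
      refine ⟨fun n hn m => ?_⟩
      have key : ∀ z ∈ memGrp Z X, (m : G) * z * (m : G)⁻¹ ∈ memGrp Z X := fun z hz => by
        induction hz using Subgroup.closure_induction with
        | mem y hy => exact mem_memGrp (hQ.conj y hy.1 _) (X.mul_mem (X.mul_mem m.2 hy.2) (X.inv_mem m.2))
        | one => simp
        | mul y z _ _ iy iz => rw [← conj_mul]; exact Subgroup.mul_mem _ iy iz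
        | inv y _ iy => rw [← conj_inv]; exact inv_mem iy
      exact key _ hn
    obtain ⟨k, hk⟩ := hidx
    have h := img_mem_closure hQ (Subgroup.mem_subgroupOf.mp (Subgroup.pow_index_mem ((memGrp Z X).subgroupOf X) x))
    rw [show ((memGrp Z X).subgroupOf X).index = 2 * k + 1 from hk, map_pow, pow_succ, pow_mul, pow_two, hy.2,
      one_pow, one_mul] at h
    exact h
  · obtain ⟨x, hxX, y, hyX, hx, hy, hxy, hcom⟩ := h4
    refine ⟨img hQ X ⟨x, hxX⟩, img hQ X ⟨y, hyX⟩, img_ne_one hQ hg hc hne hx, img_ne_one hQ hg hc hne hy,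
      img_ne_of_commute hQ hg hc hne hx hy (fun e => hxy (congrArg Subtype.val e)) hcom, ?_, ?_, ?_⟩
    · rw [← map_mul, show (⟨x, hxX⟩ : X) * ⟨x, hxX⟩ = 1 from Subtype.ext (hQ.inv _ hx).2, map_one]
    · rw [← map_mul, show (⟨y, hyX⟩ : X) * ⟨y, hyX⟩ = 1 from Subtype.ext (hQ.inv _ hy).2, map_one]
    · rw [← map_mul, ← map_mul, show (⟨x, hxX⟩ : X) * ⟨y, hyX⟩ = ⟨y, hyX⟩ * ⟨x, hxX⟩ from Subtype.ext hcom]

theorem good_img (hB : Below.{u} (Nat.card G)) (hX : X ≠ ⊤) (h4 : FourIn Z X)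
    (hidx : Odd ((memGrp Z X).relIndex X)) {g c : Ω} (hg : g ∈ centres Ω Z X) (hc : c ∈ centres Ω Z X)
    (hne : c ≠ g) : B1.Good (topGrp hQ X) (centres Ω Z X) :=
  Assembly.goodAll _ _ (oneFix_img hQ hB hX h4 hidx hg hc hne)

/-- The products of two members of a subgroup without commuting members have odd order. -/
theorem odd_mul_of_no_four (h4 : ¬ FourIn Z X) {i j : G} (hiX : i ∈ X) (hjX : j ∈ X) (hi : i ∈ Z) (hj : j ∈ Z) :
    Odd (orderOf (i * j)) := by
  by_contra hodd
  rw [Nat.not_odd_iff_even] at hodd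
  obtain ⟨h1, h2⟩ := CfsgLib.Involutions.central_half (hQ.inv i hi).2 (hQ.inv j hj).2 hodd
  have hz := central_mem hQ hi hj hodd
  set z := (i * j) ^ (orderOf (i * j) / 2)
  have hzX : z ∈ X := pow_mem (X.mul_mem hiX hjX) _
  have e1 : z = i := by_contra fun h => h4 ⟨z, hzX, i, hiX, hz, hi, h, h1.eq⟩
  have e2 : z = j := by_contra fun h => h4 ⟨z, hzX, j, hjX, hz, hj, h, h2.eq⟩
  have hij : i = j := e1 ▸ e2
  rw [← hij, (hQ.inv i hi).2, orderOf_one] at hodd
  exact absurd hodd (by decide)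

/-- In a subgroup without commuting members every commutator with a member lies in the odd core. -/
theorem comm_mem_of_no_four (h4 : ¬ FourIn Z X) {u : G} (hu : u ∈ Z) (huX : u ∈ X) {x : G} (hx : x ∈ X) :
    u * x * u * x⁻¹ ∈ oddRad X := by
  have h := comm_mem_oddRad (hQ.inv u hu) (Subgroup.le_normalizer huX) (fun k hk =>
    odd_mul_of_no_four hQ h4 huX (X.mul_mem (X.mul_mem hk huX) (X.inv_mem hk)) hu (hQ.conj u hu k)) hx
  rwa [(hQ.inv u hu).inv] at h

end CfsgLib.Bender.Q
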