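import Cfsg.Agent.Lib.Bender.Q.Cent

/-!
Two commuting involutions on a group of odd order: every element inverted by the first is uniquely `a * t * a` with
`a` centralised and `t` inverted by the second.  So the members exchanging two points split as a product.

Blueprint: `blueprint/bender/Q2.md`, setting (Klein).
-/

set_option autoImplicit false
set_option linter.unusedSectionVars false
set_option linter.style.haveILetI false

universe u

namespace CfsgLib.Bender.Q

open MulAction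
open CfsgLib.Bender.TwoClosed (IsInv two mem_two smul_conj)

section Generic

variable {G : Type u} [Group G] [Finite G]

theorem pow_half_mul_self {O : Subgroup G} (hO : Odd (Nat.card O)) {x : G} (hx : x ∈ O) :
    x ^ ((Nat.card O + 1) / 2) * x ^ ((Nat.card O + 1) / 2) = x := by
  obtain ⟨i, hi⟩ := hO
  have h1 : x ^ Nat.card O = 1 :=
    orderOf_dvd_iff_pow_eq_one.mp (Subgroup.orderOf_dvd_natCard O hx)
  rw [← pow_add, show (Nat.card O + 1) / 2 + (Nat.card O + 1) / 2 = Nat.card O + 1 by omega, pow_succ, h1, one_mul]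

theorem eq_of_mul_self {O : Subgroup G} (hO : Odd (Nat.card O)) {x y : G} (hx : x ∈ O) (hy : y ∈ O)
    (h : x * x = y * y) : x = y := by
  rw [← pow_half_mul_self hO hx, ← pow_half_mul_self hO hy, ← (Commute.refl x).mul_pow,
    ← (Commute.refl y).mul_pow, h]

/-- The solution `z` of `z * x⁻¹ * z = y` in `O` is unique. -/
theorem eq_of_midpoint {O : Subgroup G} (hO : Odd (Nat.card O)) {x z z' : G} (hx : x ∈ O) (hz : z ∈ O)
    (hz' : z' ∈ O) (h : z * x⁻¹ * z = z' * x⁻¹ * z') : z = z' := by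
  have hwx := pow_half_mul_self hO hx
  set w := x ^ ((Nat.card O + 1) / 2)
  have hw : w ∈ O := O.pow_mem hx _
  have e : ∀ y : G, w⁻¹ * y * w⁻¹ * (w⁻¹ * y * w⁻¹) = w⁻¹ * (y * x⁻¹ * y) * w⁻¹ := fun y => by
    rw [← hwx]; group
  have h2 := eq_of_mul_self hO (O.mul_mem (O.mul_mem (O.inv_mem hw) hz) (O.inv_mem hw))
    (O.mul_mem (O.mul_mem (O.inv_mem hw) hz') (O.inv_mem hw)) (by rw [e, e, h])
  exact mul_left_cancel (mul_right_cancel h2)

theorem inv_conj_pow {c x : G} (hc : c * c = 1) (h : c * x * c = x⁻¹) (n : ℕ) : c * x ^ n * c = (x ^ n)⁻¹ := by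
  have hci : c⁻¹ = c := inv_eq_of_mul_eq_one_right hc
  have h1 := conj_pow (i := n) (a := c) (b := x)
  rw [hci, h, inv_pow] at h1
  exact h1.symm

theorem inv_mul_three {c p q : G} (hc : c * c = 1) (hp : c * p * c = p⁻¹) (hq : c * q * c = q⁻¹) :
    c * (p * q * p) * c = (p * q * p)⁻¹ := by
  calc c * (p * q * p) * c = c * p * (c * c) * q * (c * c) * p * c := by rw [hc]; group
    _ = (c * p * c) * (c * q * c) * (c * p * c) := by group
    _ = _ := by rw [hp, hq]; group

/-- The elements of `O` inverted by `c` are the products `a * t * a`, for an automorphism of order two of `O`. -/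
theorem ncard_inverted_split_aut {O : Subgroup G} (hO : Odd (Nat.card O)) {c v : G} (hc : c * c = 1)
    (hcv : c * v = v * c) (hvO : v ∈ Subgroup.normalizer (O : Set G))
    (hv : ∀ x ∈ O, v * (v * x * v⁻¹) * v⁻¹ = x) :
    {x | x ∈ O ∧ c * x * c = x⁻¹}.ncard = {x | x ∈ O ∧ c * x * c = x⁻¹ ∧ v * x * v⁻¹ = x}.ncard *
      {x | x ∈ O ∧ c * x * c = x⁻¹ ∧ v * x * v⁻¹ = x⁻¹}.ncard := by
  set k := (Nat.card O + 1) / 2
  set A := {x | x ∈ O ∧ c * x * c = x⁻¹ ∧ v * x * v⁻¹ = x}
  set T := {x | x ∈ O ∧ c * x * c = x⁻¹ ∧ v * x * v⁻¹ = x⁻¹}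
  have hvm : ∀ p q : G, v * (p * q) * v⁻¹ = (v * p * v⁻¹) * (v * q * v⁻¹) := fun p q => conj_mul.symm
  have hvinv : ∀ p : G, v * p⁻¹ * v⁻¹ = (v * p * v⁻¹)⁻¹ := fun p => conj_inv.symm
  -- the midpoint of `x` and `v * x * v⁻¹`
  have hmid : ∀ a t : G, a ∈ A → t ∈ T →
      (a * a) * (a * t * a)⁻¹ * (a * a) = v * (a * t * a) * v⁻¹ := fun a t ha ht => by
    rw [hvm, hvm, ha.2.2, ht.2.2]; group
  rw [← Set.ncard_prod]
  refine (Set.ncard_congr (fun q _ => q.1 * q.2 * q.1) ?_ ?_ ?_).symm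
  · rintro ⟨a, t⟩ ⟨ha, ht⟩
    exact ⟨O.mul_mem (O.mul_mem ha.1 ht.1) ha.1, inv_mul_three hc ha.2.1 ht.2.1⟩
  · rintro ⟨a, t⟩ ⟨a', t'⟩ ⟨ha, ht⟩ ⟨ha', ht'⟩ h
    simp only at h
    have h1 := hmid a t ha ht
    rw [h, ← hmid a' t' ha' ht'] at h1
    have h2 := eq_of_mul_self hO ha.1 ha'.1 (eq_of_midpoint hO
      (O.mul_mem (O.mul_mem ha'.1 ht'.1) ha'.1) (O.mul_mem ha.1 ha.1) (O.mul_mem ha'.1 ha'.1) h1)
    subst h2
    rw [mul_left_cancel (mul_right_cancel h)]
  · rintro x ⟨hx, hxc⟩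
    have hwx : x ^ k * x ^ k = x := pow_half_mul_self hO hx
    set w := x ^ k with hw
    set x' := v * x * v⁻¹ with hx'
    have hwO : w ∈ O := O.pow_mem hx _
    have hxO' : x' ∈ O := (Subgroup.mem_normalizer_iff.mp hvO x).mp hx
    have hx'c : c * x' * c = x'⁻¹ := by
      have hcv' : v⁻¹ * c = c * v⁻¹ := (show Commute c v from hcv).inv_right.eq.symm
      calc c * (v * x * v⁻¹) * c = (c * v) * x * (v⁻¹ * c) := by group
        _ = v * (c * x * c) * v⁻¹ := by rw [hcv, hcv']; group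
        _ = _ := by rw [hxc, hvinv]
    have hwc : c * w⁻¹ * c = w⁻¹⁻¹ := by
      rw [inv_inv, show c * w⁻¹ * c = (c * w * c)⁻¹ by
        rw [mul_inv_rev, mul_inv_rev, inv_eq_of_mul_eq_one_right hc, mul_assoc], inv_conj_pow hc hxc, inv_inv]
    set M := w⁻¹ * x' * w⁻¹ with hM
    have hMO : M ∈ O := O.mul_mem (O.mul_mem (O.inv_mem hwO) hxO') (O.inv_mem hwO)
    set y := w * M ^ k * w with hy
    have hyO : y ∈ O := O.mul_mem (O.mul_mem hwO (O.pow_mem hMO _)) hwO
    have hyc : c * y * c = y⁻¹ :=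
      inv_mul_three hc (inv_conj_pow hc hxc k) (inv_conj_pow hc (inv_mul_three hc hwc hx'c) k)
    have hsolve : y * x⁻¹ * y = x' := by
      calc y * x⁻¹ * y = w * (M ^ k * ((w * x⁻¹ * w) * M ^ k)) * w := by rw [hy]; group
        _ = x' := by
            rw [show w * x⁻¹ * w = 1 by rw [← hwx]; group, one_mul, pow_half_mul_self hO hMO, hM]; group
    have hvy : v * y * v⁻¹ = y := by
      refine eq_of_midpoint hO (x := x') hxO' ((Subgroup.mem_normalizer_iff.mp hvO y).mp hyO) hyO ?_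
      rw [show x'⁻¹ = v * x⁻¹ * v⁻¹ from (hvinv x).symm, ← hvm, ← hvm, hsolve, hvinv, ← hx',
        show v * x' * v⁻¹ = x from hv x hx, ← hsolve]
      group
    set a := y ^ k with ha
    have haa : a * a = y := pow_half_mul_self hO hyO
    have hva : v * a * v⁻¹ = a := by
      have h1 := conj_pow (i := k) (a := v) (b := y)
      rw [hvy] at h1
      exact h1.symm
    have hac : c * a * c = a⁻¹ := inv_conj_pow hc hyc k
    have hainv : c * a⁻¹ * c = a⁻¹⁻¹ := by
      rw [inv_inv, show c * a⁻¹ * c = (c * a * c)⁻¹ by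
        rw [mul_inv_rev, mul_inv_rev, inv_eq_of_mul_eq_one_right hc, mul_assoc], hac, inv_inv]
    have hai : a⁻¹ ∈ O := O.inv_mem (O.pow_mem hyO _)
    refine ⟨(a, a⁻¹ * x * a⁻¹), ⟨⟨O.pow_mem hyO _, hac, hva⟩,
      O.mul_mem (O.mul_mem hai hx) hai, inv_mul_three hc hainv hxc, ?_⟩, ?_⟩
    · rw [hvm, hvm, hvinv, hva, ← hx', ← hsolve, ← haa]
      group
    · group

/-- The splitting by a second involution. -/
theorem ncard_inverted_split {O : Subgroup G} (hO : Odd (Nat.card O)) {c v : G} (hc : c * c = 1) (hv : v * v = 1)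
    (hcv : c * v = v * c) (hvO : v ∈ Subgroup.normalizer (O : Set G)) :
    {x | x ∈ O ∧ c * x * c = x⁻¹}.ncard = {x | x ∈ O ∧ c * x * c = x⁻¹ ∧ v * x * v = x}.ncard *
      {x | x ∈ O ∧ c * x * c = x⁻¹ ∧ v * x * v = x⁻¹}.ncard := by
  have hvi : v⁻¹ = v := inv_eq_of_mul_eq_one_right hv
  have h := ncard_inverted_split_aut hO hc hcv hvO fun x _ => by
    calc v * (v * x * v⁻¹) * v⁻¹ = (v * v) * x * (v⁻¹ * v⁻¹) := by group
      _ = x := by rw [hvi, hv, one_mul, mul_one]
  rwa [hvi] at h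

end Generic

variable {G Ω : Type u} [Group G] [MulAction G Ω] [Finite G] {Z : Set G} (hQ : Hyp G Ω Z)
include hQ

/-- The members exchanging two points with a property are the products of the swapper with inverted elements. -/
theorem ncard_swap_eq {g h : Ω} (hne : h ≠ g) {c : G} (hc : c ∈ Z) (hcg : c • g = h) (P P' : G → Prop)
    (hP : ∀ x, c * x * c = x⁻¹ → (P' x ↔ P (x * c))) :
    {w | w ∈ Z ∧ P w ∧ w • g = h}.ncard =
      {x | x ∈ oddRad (two g h : Subgroup G) ∧ c * x * c = x⁻¹ ∧ P' x}.ncard := by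
  set O := oddRad (two g h : Subgroup G)
  have hci := hQ.inv c hc
  have hswap : ∀ x : G, x ∈ O → c * x * c = x⁻¹ → x * c ∈ Z ∧ (x * c) • g = h := fun x hx hxc => by
    have hr := inv_conj_pow hci.2 hxc ((Nat.card O + 1) / 2)
    set r := x ^ ((Nat.card O + 1) / 2)
    have h2 := conj_swap hQ hne hc hcg (oddRad_le _ (O.pow_mem hx ((Nat.card O + 1) / 2)))
    rwa [show r * c * r⁻¹ = x * c by
      rw [← hr, show r * c * (c * r * c) = r * (c * c) * r * c by group, hci.2, mul_one,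
        pow_half_mul_self (odd_oddRad _) hx]] at h2
  have hback : ∀ w : G, w ∈ Z → w • g = h → w * c ∈ O ∧ c * (w * c) * c = (w * c)⁻¹ := fun w hw hwg =>
    ⟨swap_mul_mem hQ hne hc hcg hw hwg, by
      rw [mul_inv_rev, hci.inv, (hQ.inv w hw).inv, mul_assoc, mul_assoc w c c, hci.2, mul_one]⟩
  rw [← Set.ncard_image_of_injective {x | x ∈ O ∧ c * x * c = x⁻¹ ∧ P' x} (mul_left_injective c)]
  congr 1
  ext w
  constructor
  · rintro ⟨hw, hPw, hwg⟩
    refine ⟨w * c, ⟨(hback w hw hwg).1, (hback w hw hwg).2, ?_⟩, ?_⟩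
    · rw [hP _ (hback w hw hwg).2, mul_assoc, hci.2, mul_one]
      exact hPw
    · show w * c * c = w
      rw [mul_assoc, hci.2, mul_one]
  · rintro ⟨x, ⟨hx, hxc, hPx⟩, rfl⟩
    exact ⟨(hswap x hx hxc).1, (hP x hxc).mp hPx, (hswap x hx hxc).2⟩

/-- An involution commuting with a swapper splits the number of members at a point. -/
theorem card_memAt_eq_mul {g h : Ω} (hne : h ≠ g) {c v : G} (hc : c ∈ Z) (hcg : c • g = h) (hv : IsInv v)
    (hcv : v * c = c * v) (hvD : v ∈ Subgroup.normalizer ((two g h : Subgroup G) : Set G)) :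
    Nat.card (MemAt Z g) = sAt Z v g h * sAt Z (v * c) g h := by
  set O := oddRad (two g h : Subgroup G)
  have hci := hQ.inv c hc
  have himg := ncard_swap_eq hQ hne hc hcg
  have hA : sAt Z v g h = {x | x ∈ O ∧ c * x * c = x⁻¹ ∧ v * x * v = x}.ncard :=
    himg (fun w => v * w = w * v) (fun x => v * x * v = x) fun x _ => by
      constructor
      · intro h1
        calc v * (x * c) = (v * x * v) * (v * c) := by
              rw [show v * x * v * (v * c) = v * x * (v * v) * c by group, hv.2]; group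
          _ = x * c * v := by rw [h1, hcv]; group
      · intro h1
        calc v * x * v = v * (x * c) * (v * c)⁻¹ * (v * v) := by group
          _ = x := by rw [h1, hv.2, hcv]; group
  have hT : sAt Z (v * c) g h = {x | x ∈ O ∧ c * x * c = x⁻¹ ∧ v * x * v = x⁻¹}.ncard :=
    himg (fun w => (v * c) * w = w * (v * c)) (fun x => v * x * v = x⁻¹) fun x hxc => by
      have hl : (v * c) * (x * c) = v * x⁻¹ := by rw [← hxc]; group
      have hr : x * c * (v * c) = x * v := by
        rw [hcv, show x * c * (c * v) = x * (c * c) * v by group, hci.2, mul_one]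
      rw [hl, hr]
      constructor
      · intro h1
        calc v * x⁻¹ = v * (v * x * v) := by rw [h1]
          _ = x * v := by rw [show v * (v * x * v) = (v * v) * x * v by group, hv.2, one_mul]
      · intro h1
        calc v * x * v = v * (x * v) := by group
          _ = x⁻¹ := by rw [← h1, ← mul_assoc, hv.2, one_mul]
  have hJ : Nat.card (MemAt Z g) = {x | x ∈ O ∧ c * x * c = x⁻¹}.ncard := by
    rw [← card_swp hQ hne, Nat.card_congr (Equiv.subtypeEquivRight (q := fun w => w ∈ {w : G | w ∈ Z ∧ True ∧ w • g = h})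
      fun w => by simp), Nat.card_coe_set_eq, himg (fun _ => True) (fun _ => True) fun _ _ => Iff.rfl]
    simp [O]
  rw [hJ, hA, hT]
  exact ncard_inverted_split (odd_oddRad _) hci.2 hv.2 hcv.symm (le_normalizer_oddRad _ hvD)

end CfsgLib.Bender.Q
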