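import Cfsg.Agent.Lib.Bender.Q.Swap

/-!
An involution with exactly one fixed point is a member; the central involution of two members with even product is a
member; oddness of the members of a subgroup at a point.

Blueprint: `blueprint/bender/Q_helper3.md` X1-X3, `blueprint/bender/Q_B1.md` 0.4, 0.5.
-/

set_option autoImplicit false
set_option linter.unusedSectionVars false
set_option linter.style.haveILetI false

universe u v

namespace CfsgLib.Bender.Q

open MulAction
open CfsgLib.Bender.TwoClosed (IsInv two mem_two smul_conj)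

variable {G : Type u} {Ω : Type v} [Group G] [MulAction G Ω] [Finite G] {Z : Set G}

theorem isPGroup_zpowers {x : G} (hx : IsInv x) : IsPGroup 2 (Subgroup.zpowers x) := by
  haveI : Fact (Nat.Prime 2) := ⟨Nat.prime_two⟩
  exact IsPGroup.of_card (n := 1)
    (by rw [Nat.card_zpowers, pow_one, CfsgLib.Involutions.orderOf_eq_two_iff'.mpr ⟨hx.2, hx.1⟩])

theorem fix_of_zpowers {x : G} {c : Ω} (h : x • c = c) : ∀ y ∈ Subgroup.zpowers x, y • c = c := fun _ hy =>
  mem_stabilizer_iff.mp ((Subgroup.zpowers_le.mpr (mem_stabilizer_iff.mpr h)) hy)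

variable (hQ : Hyp G Ω Z)
include hQ

/-- The central involution of two members with even product differs from the first by a commuting member. -/
theorem half_mem {y z : G} (hy : y ∈ Z) (hz : z ∈ Z) (h : Even (orderOf (y * z))) :
    (y * z) ^ (orderOf (y * z) / 2) * y ∈ Z ∧
      (y * z) ^ (orderOf (y * z) / 2) * y ≠ y ∧
      y * ((y * z) ^ (orderOf (y * z) / 2) * y) = (y * z) ^ (orderOf (y * z) / 2) * y * y := by
  obtain ⟨h1, -⟩ := CfsgLib.Involutions.central_half (hQ.inv y hy).2 (hQ.inv z hz).2 h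
  obtain ⟨-, hw1⟩ := CfsgLib.Involutions.orderOf_eq_two_iff'.mp (CfsgLib.Involutions.orderOf_half h)
  exact ⟨pow_mul_mem hQ hy hz _, fun e => hw1 (mul_eq_right.mp e), by rw [← mul_assoc, ← h1.eq]⟩

/-- An involution commutes with a member exchanging a point it moves with the image of that point. -/
theorem exists_cent_swap {x : G} (hx : IsInv x) {b : Ω} (hb : x • b ≠ b) :
    ∃ c ∈ Z, x * c = c * x ∧ c • b = x • b := by
  haveI : Fact (Nat.Prime 2) := ⟨Nat.prime_two⟩
  have hmaps : ∀ w : Swp Z b (x • b), x * w.1 * x⁻¹ ∈ Z ∧ (x * w.1 * x⁻¹) • b = x • b := fun w =>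
    ⟨hQ.conj _ w.2.1 x, by
      rw [hx.inv, mul_smul, mul_smul, (hQ.inv _ w.2.1).swap_back w.2.2]⟩
  let f : Swp Z b (x • b) → Swp Z b (x • b) := fun w => ⟨_, hmaps w⟩
  have hinv : Function.Involutive f := fun w => Subtype.ext (by
    show x * (x * w.1 * x⁻¹) * x⁻¹ = w.1
    rw [hx.inv]
    calc x * (x * w.1 * x) * x = (x * x) * w.1 * (x * x) := by group
      _ = w.1 := by rw [hx.2, one_mul, mul_one])
  haveI := Fintype.ofFinite (Swp Z b (x • b))
  obtain ⟨w, hw⟩ := Equiv.Perm.exists_fixed_point_of_prime (σ := hinv.toPerm f) (p := 2) (n := 1) (by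
    rw [← Nat.card_eq_fintype_card, card_swp hQ hb, ← even_iff_two_dvd, Nat.not_even_iff_odd]
    exact odd_memAt hQ b) (Equiv.ext fun w => by rw [pow_one, pow_two]; exact hinv w)
  exact ⟨w.1, w.2.1, mul_inv_eq_iff_eq_mul.mp (congrArg Subtype.val hw), w.2.2⟩

/-- X1: the members centralising an element with two fixed points centralised there are conjugate under it. -/
theorem exists_conj_cent {u c c' : G} (hu : IsInv u) {a b : Ω} (hab : a ≠ b) (hua : u • a = a) (hub : u • b = b)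
    (hc : c ∈ Z) (hcu : u * c = c * u) (hc' : c' ∈ Z) (hcu' : u * c' = c' * u) :
    ∃ g : G, u * g = g * u ∧ g * c * g⁻¹ = c' := by
  have key : ∀ {x y : G} {p q : Ω}, x ∈ Z → u * x = x * u → x • p = p → y ∈ Z → u * y = y * u → y • q = q →
      p ≠ q → ∃ g : G, u * g = g * u ∧ g * x * g⁻¹ = y := by
    intro x y p q hx hxu hp hy hyu hq hne
    obtain ⟨w, hw, hwe, hcl⟩ := exists_swap_conj hQ hx hp hy hq hne
    refine ⟨w, ?_, by rwa [(hQ.inv w hw).inv]⟩
    have hle : Subgroup.closure ({x, y} : Set G) ≤ Subgroup.centralizer ({u} : Set G) := by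
      rw [Subgroup.closure_le]
      rintro _ (rfl | rfl)
      · exact Subgroup.mem_centralizer_singleton_iff.mpr hxu.symm
      · exact Subgroup.mem_centralizer_singleton_iff.mpr hyu.symm
    exact (Subgroup.mem_centralizer_singleton_iff.mp (hle hcl)).symm
  obtain ⟨p, hp⟩ := exists_fix hQ hc
  obtain ⟨q, hq⟩ := exists_fix hQ hc'
  obtain ⟨e, hep, hue⟩ : ∃ e : Ω, e ≠ p ∧ u • e = e := by
    rcases eq_or_ne a p with rfl | h
    · exact ⟨b, hab.symm, hub⟩
    · exact ⟨a, h, hua⟩
  obtain ⟨k, hk, hke, hku⟩ := hQ.two_cent _ e (isPGroup_zpowers hu) (fix_of_zpowers hue)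
  have hku' : u * k = k * u := hku u (Subgroup.mem_zpowers u)
  obtain ⟨g, hg, hge⟩ := key hc hcu hp hk hku' hke hep.symm
  rcases eq_or_ne e q with rfl | heq
  · obtain ⟨g', hg', hge'⟩ : ∃ g' : G, u * g' = g' * u ∧ g' * c * g'⁻¹ = c' :=
      key hc hcu hp hc' hcu' hq hep.symm
    exact ⟨g', hg', hge'⟩
  · obtain ⟨g', hg', hge'⟩ := key hk hku' hke hc' hcu' hq heq
    refine ⟨g' * g, by rw [← mul_assoc, hg', mul_assoc, hg, mul_assoc], ?_⟩
    rw [← hge', ← hge]
    group

/-- X2: if `u` has two fixed points and commutes with the member `c`, then `u * c` fixes a point moved by `u`. -/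
theorem exists_moved_fix [FaithfulSMul G Ω] {u c : G} (hu : IsInv u) {a b : Ω} (hab : a ≠ b) (hua : u • a = a)
    (hub : u • b = b) (hc : c ∈ Z) (hcu : u * c = c * u) : ∃ g : Ω, u • g ≠ g ∧ (u * c) • g = g := by
  obtain ⟨g, hg⟩ : ∃ g : Ω, u • g ≠ g := by
    by_contra h
    push Not at h
    exact hu.1 (eq_of_smul_eq_smul (α := Ω) fun w => (h w).trans (one_smul G w).symm)
  obtain ⟨c₀, hc₀, hcu₀, hcg⟩ := exists_cent_swap hQ hu hg
  have hfix : (u * c₀) • g = g := by rw [mul_smul, hcg, hu.smul_twice]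
  obtain ⟨k, hk, hke⟩ := exists_conj_cent hQ hu hab hua hub hc₀ hcu₀ hc hcu
  refine ⟨k • g, fun e => hg ?_, ?_⟩
  · rw [← smul_left_cancel_iff k, ← mul_smul, ← hk, mul_smul, e]
  · rw [← hke, ← mul_assoc, ← mul_assoc, hk, mul_assoc k u, mul_smul, inv_smul_smul, mul_smul, hfix]

/-- X3: an involution fixing exactly one point is a member. -/
theorem mem_of_unique_fix [FaithfulSMul G Ω] {x : G} (hx : IsInv x) {p : Ω} (hp : x • p = p)
    (huniq : ∀ d : Ω, x • d = d → d = p) : x ∈ Z := by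
  obtain ⟨b, hb⟩ := exists_ne_point hQ p
  obtain ⟨c, hc, hxc, hcb⟩ := exists_cent_swap hQ hx (b := b) fun e => hb (huniq b e)
  by_contra hxZ
  have hcp : c • p = p := huniq _ (by rw [← mul_smul, hxc, mul_smul, hp])
  have hu : IsInv (x * c) := ⟨fun e => hxZ (by rwa [mul_eq_one_iff_eq_inv.mp e, (hQ.inv c hc).inv]), by
    calc x * c * (x * c) = x * (c * x) * c := by group
      _ = (x * x) * (c * c) := by rw [← hxc]; group
      _ = 1 := by rw [hx.2, (hQ.inv c hc).2, one_mul]⟩
  obtain ⟨g, hg, hfix⟩ := exists_moved_fix hQ hu hb (by rw [mul_smul, hcb, hx.smul_twice])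
    (by rw [mul_smul, hcp, hp]) hc (by rw [← mul_assoc, ← hxc])
  rw [mul_assoc, (hQ.inv c hc).2, mul_one] at hfix
  rw [huniq g hfix, mul_smul, hcp, hp] at hg
  exact hg rfl

/-- The product of distinct commuting members is a member. -/
theorem prod_mem [FaithfulSMul G Ω] {y z : G} (hy : y ∈ Z) (hz : z ∈ Z) (hne : y ≠ z) (h : y * z = z * y) :
    y * z ∈ Z := by
  obtain ⟨p, hp⟩ := exists_fix hQ hy
  have hzp : z • p = p := commute_fix hQ hy hp h.symm
  refine mem_of_unique_fix hQ ⟨fun e => hne ?_, ?_⟩ (p := p) (by rw [mul_smul, hzp, hp])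
    fun d hd => eq_of_fix hQ hy (hQ.prod_fix y hy z hz hne h d hd) hp
  · exact (mul_eq_one_iff_eq_inv.mp e).trans (hQ.inv z hz).inv
  · calc y * z * (y * z) = y * (z * y) * z := by group
      _ = (y * y) * (z * z) := by rw [← h]; group
      _ = 1 := by rw [(hQ.inv y hy).2, (hQ.inv z hz).2, one_mul]

/-- The central involution of two members with even product is a member commuting with both. -/
theorem central_mem [FaithfulSMul G Ω] {y z : G} (hy : y ∈ Z) (hz : z ∈ Z) (h : Even (orderOf (y * z))) :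
    (y * z) ^ (orderOf (y * z) / 2) ∈ Z := by
  obtain ⟨h1, h2, h3⟩ := half_mem hQ hy hz h
  have h4 := prod_mem hQ h1 hy h2 h3.symm
  rwa [mul_assoc, (hQ.inv y hy).2, mul_one] at h4

/-- A subgroup has an odd number of members at a point, if any. -/
theorem odd_memIn [FaithfulSMul G Ω] {X : Subgroup G} {a : Ω} {x : G} (hx : x ∈ Z) (hxX : x ∈ X)
    (hxa : x • a = a) : Odd (Nat.card {y : G // y ∈ Z ∧ y ∈ X ∧ y • a = a}) := by
  classical
  haveI : Fact (Nat.Prime 2) := ⟨Nat.prime_two⟩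
  set T := {y : G // y ∈ Z ∧ y ∈ X ∧ y • a = a}
  have hxi := hQ.inv x hx
  have hmaps : ∀ y : T, (if x * y.1 = y.1 * x ∧ y.1 ≠ x then x * y.1 else x * y.1 * x⁻¹) ∈ Z ∧
      (if x * y.1 = y.1 * x ∧ y.1 ≠ x then x * y.1 else x * y.1 * x⁻¹) ∈ X ∧
      (if x * y.1 = y.1 * x ∧ y.1 ≠ x then x * y.1 else x * y.1 * x⁻¹) • a = a := by
    intro y
    split_ifs with h
    · exact ⟨prod_mem hQ hx y.2.1 h.2.symm h.1, X.mul_mem hxX y.2.2.1, by rw [mul_smul, y.2.2.2, hxa]⟩
    · exact ⟨hQ.conj _ y.2.1 x, X.mul_mem (X.mul_mem hxX y.2.2.1) (X.inv_mem hxX),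
        by rw [mul_smul, mul_smul, inv_smul_eq_iff.mpr hxa.symm, y.2.2.2, hxa]⟩
  let f : T → T := fun y => ⟨_, hmaps y⟩
  have hval : ∀ y : T,
      (f y).1 = if x * y.1 = y.1 * x ∧ y.1 ≠ x then x * y.1 else x * y.1 * x⁻¹ := fun y => rfl
  have hxx : ∀ z : G, x * (x * z) = z := fun z => by rw [← mul_assoc, hxi.2, one_mul]
  have hinv : Function.Involutive f := fun y => Subtype.ext (by
    rw [hval, hval]
    by_cases h : x * y.1 = y.1 * x ∧ y.1 ≠ x
    · rw [if_pos h, if_pos ⟨by rw [hxx, mul_assoc, ← h.1, hxx],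
        fun e => (hQ.inv _ y.2.1).1 (mul_eq_left.mp e)⟩, hxx]
    · rw [if_neg h, if_neg, hxi.inv]
      · simp [mul_assoc, hxx, hxi.2]
      · rw [hxi.inv]
        rintro ⟨e1, e2⟩
        have e3 : x * y.1 = y.1 * x := by simpa [mul_assoc, hxx, hxi.2] using e1.symm
        exact h ⟨e3, fun e => e2 (by rw [e, hxi.2, one_mul])⟩)
  have hfix : ∀ y : T, f y = y ↔ y = ⟨x, hx, hxX, hxa⟩ := by
    intro y
    refine ⟨fun e => ?_, fun e => ?_⟩
    · have e' := congrArg Subtype.val e
      rw [hval] at e'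
      by_cases h : x * y.1 = y.1 * x ∧ y.1 ≠ x
      · rw [if_pos h] at e'
        exact absurd (mul_eq_right.mp e') hxi.1
      · rw [if_neg h] at e'
        exact Subtype.ext (by_contra fun hne => h ⟨mul_inv_eq_iff_eq_mul.mp e', hne⟩)
    · subst e
      refine Subtype.ext ?_
      rw [hval, if_neg (fun h => h.2 rfl)]
      simp
  haveI := Fintype.ofFinite T
  let σ : Equiv.Perm T := hinv.toPerm f
  have hσ : σ ^ 2 ^ 1 = 1 := Equiv.ext fun y => by
    rw [pow_one, pow_two]
    exact hinv y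
  have hcard := Equiv.Perm.card_compl_support_modEq hσ
  have h1 : σ.supportᶜ = {⟨x, hx, hxX, hxa⟩} := Finset.ext fun y => by
    rw [Finset.mem_compl, Equiv.Perm.notMem_support, Finset.mem_singleton]
    exact hfix y
  rw [h1, Finset.card_singleton, ← Nat.card_eq_fintype_card] at hcard
  exact Nat.odd_iff.mpr hcard.symm

end CfsgLib.Bender.Q
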