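import Cfsg.Agent.Lib.Bender.Q.Basics
import Mathlib.GroupTheory.PGroup

/-!
Hypothesis Q from one-fix members with odd products across points.

In a faithful action the other two clauses follow: counting shows that a member is moved to a given member at
another point by exactly one member; an involution all of whose centralised members fix one point then fixes only
that point; so members exchanging two points are pairwise non-commuting and their number is odd.
-/

set_option autoImplicit false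
set_option linter.unusedSectionVars false
set_option linter.style.haveILetI false

universe u v

namespace CfsgLib.Bender.Q

open MulAction
open CfsgLib.Bender.TwoClosed (IsInv smul_conj)

/-- The clauses of hypothesis Q about one member or two members at different points. -/
structure Pre (G : Type u) (Ω : Type v) [Group G] [MulAction G Ω] (Z : Set G) : Prop where
  inv : ∀ z ∈ Z, IsInv z
  conj : ∀ z ∈ Z, ∀ g : G, g * z * g⁻¹ ∈ Z
  one_fix : ∀ z ∈ Z, ∃! c : Ω, z • c = c
  exists_at : ∀ c : Ω, ∃ z ∈ Z, z • c = c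
  nontriv : Nontrivial Ω
  odd_mul : ∀ y ∈ Z, ∀ z ∈ Z, ∀ c d : Ω, y • c = c → z • d = d → c ≠ d → Odd (orderOf (y * z))

namespace Pre

variable {G : Type u} {Ω : Type v} [Group G] [MulAction G Ω] {Z : Set G} (hP : Pre G Ω Z)
include hP

theorem conjMem {u : G} (hu : u ∈ Z) {z : G} (hz : z ∈ Z) : u * z * u ∈ Z := by
  have h := hP.conj z hz u
  rwa [(hP.inv u hu).inv] at h

theorem eqFix {x : G} (hx : x ∈ Z) {c d : Ω} (hc : x • c = c) (hd : x • d = d) : c = d :=
  (hP.one_fix x hx).unique hc hd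

theorem commuteFix {x g : G} (hx : x ∈ Z) {c : Ω} (hc : x • c = c) (h : g * x = x * g) : g • c = c :=
  eqFix hP hx (by rw [← mul_smul, ← h, mul_smul, hc]) hc

theorem powMem {x y : G} (hx : x ∈ Z) (hy : y ∈ Z) : ∀ k : ℕ, (x * y) ^ k * x ∈ Z := by
  have hxy : x * (x * y)⁻¹ = x * y * x := by
    rw [mul_inv_rev, (hP.inv x hx).inv, (hP.inv y hy).inv, mul_assoc]
  intro k
  induction k using Nat.twoStepInduction with
  | zero => rwa [pow_zero, one_mul]
  | one => rw [pow_one]; exact conjMem hP hx hy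
  | more n ih _ =>
    have h := hP.conj _ ih (x * y)
    rwa [← mul_assoc, ← pow_succ', mul_assoc _ x, hxy, ← mul_assoc, ← pow_succ] at h

theorem moves {i j u : G} {c d : Ω} (hc : i • c = c) (hj : j ∈ Z) (hd : j • d = d) (hu : u ∈ Z)
    (he : u * i * u = j) : u • c = d := by
  refine eqFix hP hj ?_ hd
  rw [← he, mul_smul, mul_smul, (hP.inv u hu).smul_twice, hc]

variable [Finite G]

theorem swapConj {i j : G} {c d : Ω} (hi : i ∈ Z) (hc : i • c = c) (hj : j ∈ Z) (hd : j • d = d)
    (hne : c ≠ d) : ∃ u ∈ Z, u * i * u = j ∧ u ∈ Subgroup.closure ({i, j} : Set G) := by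
  obtain ⟨l, hl⟩ := hP.odd_mul i hi j hj c d hc hd hne
  have hi' := hP.inv i hi
  have hj' := hP.inv j hj
  have hpow : (i * j) ^ (l + l) = j * i := by
    have h1 : (i * j) * (i * j) ^ (l + l) = 1 := by
      rw [← pow_succ', ← two_mul, ← hl, pow_orderOf_eq_one]
    rw [← inv_eq_of_mul_eq_one_right h1, mul_inv_rev, hi'.inv, hj'.inv]
  refine ⟨_, powMem hP hi hj l, ?_, mul_mem (pow_mem (mul_mem (Subgroup.subset_closure (Set.mem_insert i {j}))
      (Subgroup.subset_closure (Set.mem_insert_of_mem i (Set.mem_singleton j)))) _)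
      (Subgroup.subset_closure (Set.mem_insert i {j}))⟩
  rw [mul_assoc _ i i, hi'.2, mul_one, ← mul_assoc, ← pow_add, hpow, mul_assoc, hi'.2, mul_one]

theorem transitive : IsPretransitive G Ω := ⟨fun c d => by
  rcases eq_or_ne c d with e | e
  · exact ⟨1, by rw [one_smul, e]⟩
  · obtain ⟨i, hi, hc⟩ := hP.exists_at c
    obtain ⟨j, hj, hd⟩ := hP.exists_at d
    obtain ⟨u, hu, he, -⟩ := swapConj hP hi hc hj hd e
    exact ⟨u, moves hP hc hj hd hu he⟩⟩

theorem finitePoints : Finite Ω := by
  haveI := transitive hP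
  haveI := hP.nontriv
  exact Finite.of_surjective (fun g : G => g • Classical.arbitrary Ω) (exists_smul_eq G _)

theorem cardMem (c a : Ω) : Nat.card (MemAt Z c) = Nat.card (MemAt Z a) := by
  haveI := transitive hP
  obtain ⟨g, rfl⟩ := exists_smul_eq G a c
  exact Nat.card_congr
    { toFun := fun x => ⟨g⁻¹ * x * g, by simpa using hP.conj _ x.2.1 g⁻¹, by
        rw [mul_smul, mul_smul, x.2.2, inv_smul_smul]⟩
      invFun := fun x => ⟨g * x * g⁻¹, hP.conj _ x.2.1 g, smul_conj x.2.2⟩
      left_inv := fun x => Subtype.ext (by simp [mul_assoc])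
      right_inv := fun x => Subtype.ext (by simp [mul_assoc]) }

/-- Conjugation of a member at `a`: the map from the members taking `a` to `b` to the members at `b`. -/
def conjMap {i : G} (hi : i ∈ Z) {a : Ω} (hia : i • a = a) (b : Ω) (u : Swp Z a b) : MemAt Z b :=
  ⟨u.1 * i * u.1, conjMem hP u.2.1 hi, by
    rw [mul_smul, mul_smul, (hP.inv _ u.2.1).swap_back u.2.2, hia, u.2.2]⟩

theorem conjMap_surjective {i : G} (hi : i ∈ Z) {a : Ω} (hia : i • a = a) {b : Ω} (hb : b ≠ a) :
    Function.Surjective (conjMap hP hi hia b) := by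
  rintro ⟨j, hj, hjb⟩
  obtain ⟨u, hu, he, -⟩ := swapConj hP hi hia hj hjb hb.symm
  exact ⟨⟨u, hu, moves hP hia hj hjb hu he⟩, Subtype.ext he⟩

/-- As many members take `a` to `b` as there are members at a point. -/
theorem cardSwp {a b : Ω} (hb : b ≠ a) : Nat.card (Swp Z a b) = Nat.card (MemAt Z a) := by
  classical
  haveI := finitePoints hP
  haveI : Fintype Ω := Fintype.ofFinite Ω
  obtain ⟨i, hi, hia⟩ := hP.exists_at a
  have hle : ∀ x : {x : Ω // x ≠ a}, Nat.card (MemAt Z a) ≤ Nat.card (Swp Z a x.1) := fun x => by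
    rw [← cardMem hP x.1 a]
    exact Nat.card_le_card_of_surjective _ (conjMap_surjective hP hi hia x.2)
  -- both sides count the members moving `a`
  have h1 : Nat.card {z : G // z ∈ Z ∧ z • a ≠ a} = Nat.card (Σ x : {x : Ω // x ≠ a}, Swp Z a x.1) :=
    Nat.card_congr
      { toFun := fun z => ⟨⟨z.1 • a, z.2.2⟩, ⟨z.1, z.2.1, rfl⟩⟩
        invFun := fun s => ⟨s.2.1, s.2.2.1, fun e => s.1.2 (s.2.2.2.symm.trans e)⟩
        left_inv := fun z => rfl
        right_inv := fun ⟨⟨x, hx⟩, ⟨z, hz, e⟩⟩ => Sigma.subtype_ext (Subtype.ext e) rfl }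
  have h2 : Nat.card {z : G // z ∈ Z ∧ z • a ≠ a} = Nat.card (Σ x : {x : Ω // x ≠ a}, MemAt Z x.1) := by
    have hfix : ∀ z : {z : G // z ∈ Z ∧ z • a ≠ a}, ∃ c : Ω, z.1 • c = c := fun z => (hP.one_fix _ z.2.1).exists
    exact Nat.card_congr
      { toFun := fun z => ⟨⟨(hfix z).choose, fun e => z.2.2 ((congrArg (z.1 • ·) e).symm.trans ((hfix z).choose_spec.trans e))⟩,
          ⟨z.1, z.2.1, (hfix z).choose_spec⟩⟩
        invFun := fun s => ⟨s.2.1, s.2.2.1, fun e => s.1.2 (eqFix hP s.2.2.1 s.2.2.2 e)⟩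
        left_inv := fun z => rfl
        right_inv := fun ⟨⟨x, hx⟩, ⟨z, hz, e⟩⟩ => by
          have hz' : z • a ≠ a := fun e' => hx (eqFix hP hz e e')
          exact Sigma.subtype_ext (Subtype.ext (eqFix hP hz (hfix ⟨z, hz, hz'⟩).choose_spec e)) rfl }
  have hsum : ∑ x : {x : Ω // x ≠ a}, Nat.card (MemAt Z a) =
      ∑ x : {x : Ω // x ≠ a}, Nat.card (Swp Z a x.1) := by
    calc ∑ x : {x : Ω // x ≠ a}, Nat.card (MemAt Z a) = ∑ x : {x : Ω // x ≠ a}, Nat.card (MemAt Z x.1) :=
          Finset.sum_congr rfl fun x _ => (cardMem hP x.1 a).symm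
      _ = Nat.card (Σ x : {x : Ω // x ≠ a}, MemAt Z x.1) := Nat.card_sigma.symm
      _ = Nat.card (Σ x : {x : Ω // x ≠ a}, Swp Z a x.1) := h2.symm.trans h1
      _ = _ := Nat.card_sigma
  exact ((Finset.sum_eq_sum_iff_of_le fun x _ => hle x).mp hsum ⟨b, hb⟩ (Finset.mem_univ _)).symm

/-- Only one member takes a member to a given member at another point. -/
theorem unique {i u u' : G} {c d : Ω} (hi : i ∈ Z) (hc : i • c = c) (hne : c ≠ d) (hu : u ∈ Z)
    (hu' : u' ∈ Z) (hd : u • c = d) (he : u' * i * u' = u * i * u) : u' = u := by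
  have hd' : u' • c = d := by
    refine moves hP hc (conjMem hP hu hi) ?_ hu' he
    rw [mul_smul, mul_smul, (hP.inv u hu).swap_back hd, hc, hd]
  haveI : Finite (Swp Z c d) := inferInstance
  have hcard : Nat.card (Swp Z c d) = Nat.card (MemAt Z d) := (cardSwp hP hne.symm).trans (cardMem hP c d)
  have hinj := ((Nat.bijective_iff_surjective_and_card (conjMap hP hi hc d)).mpr
    ⟨conjMap_surjective hP hi hc hne.symm, hcard⟩).1
  have := hinj (a₁ := ⟨u', hu', hd'⟩) (a₂ := ⟨u, hu, hd⟩) (Subtype.ext he)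
  exact congrArg Subtype.val this

variable [FaithfulSMul G Ω]

/-- An involution all of whose centralised members fix the same point fixes that point only. -/
theorem only_fix {t : G} (ht : IsInv t) {p₀ e : Ω} (h0 : t • p₀ = p₀)
    (hall : ∀ b ∈ Z, t * b = b * t → b • e = e) : p₀ = e := by
  by_contra hne
  obtain ⟨q₀, hq₀⟩ : ∃ q₀ : Ω, t • q₀ ≠ q₀ := by
    by_contra h
    push Not at h
    exact ht.1 (eq_of_smul_eq_smul (α := Ω) fun x => by rw [h x, one_smul])
  obtain ⟨b, hb, hbq⟩ := hP.exists_at q₀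
  have htt : t * t = 1 := ht.2
  have hv : t * b * t ∈ Z := by
    have := hP.conj b hb t
    rwa [ht.inv] at this
  have hvq : (t * b * t) • (t • q₀) = t • q₀ := by rw [mul_smul, ht.smul_twice, mul_smul, hbq]
  obtain ⟨q, hq, hqb, -⟩ := swapConj hP hb hbq hv hvq hq₀.symm
  have hqq : q * q = 1 := (hP.inv q hq).2
  have hqQ : q • q₀ = t • q₀ := moves hP hbq hv hvq hq hqb
  -- the swapper commutes with the involution
  have hqt : t * q * t ∈ Z := by
    have := hP.conj q hq t
    rwa [ht.inv] at this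
  have htq : t * q = q * t := by
    have e1 : (t * q * t) * b * (t * q * t) = q * b * q := by
      have : q * (t * b * t) * q = b := by
        rw [← hqb]; simp [← mul_assoc, hqq]; simp [mul_assoc, hqq]
      rw [hqb]
      calc t * q * t * b * (t * q * t) = t * (q * (t * b * t) * q) * t := by group
        _ = t * b * t := by rw [this]
    have h1 := unique hP hb hbq hq₀.symm hq hqt hqQ e1
    calc t * q = t * q * (t * t) := by rw [htt, mul_one]
      _ = (t * q * t) * t := by group
      _ = q * t := by rw [h1]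
  have hqe : q • e = e := hall q hq htq
  -- the product centralises the member and moves the second point
  obtain ⟨z, hz⟩ : ∃ z, z = t * q := ⟨_, rfl⟩
  have hzi : IsInv z := by
    refine ⟨fun e1 => ?_, ?_⟩
    · have : t = q := (mul_eq_one_iff_eq_inv.mp (hz.symm.trans e1)).trans (hP.inv q hq).inv
      exact hne (eqFix hP (this ▸ hq) h0 (this ▸ hqe))
    · calc z * z = (t * q) * (q * t) := by rw [hz]; nth_rewrite 2 [htq]; rfl
        _ = 1 := by rw [mul_assoc, ← mul_assoc q, hqq, one_mul, htt]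
  have hzq : z * q = t := by rw [hz, mul_assoc, hqq, mul_one]
  have hzqc : z * q = q * z := by
    rw [hzq, hz, ← mul_assoc, ← htq, mul_assoc, hqq, mul_one]
  have hzb : z * b = b * z := by
    have e1 : z * b * z = b := by
      calc z * b * z = t * (q * b * q) * t := by rw [hz]; nth_rewrite 2 [htq]; group
        _ = (t * t) * b * (t * t) := by rw [hqb]; group
        _ = b := by rw [htt, one_mul, mul_one]
    calc z * b = z * b * (z * z) := by rw [hzi.2, mul_one]
      _ = (z * b * z) * z := by group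
      _ = b * z := by rw [e1]
  have hzp : z • p₀ ≠ p₀ := fun e1 => by
    rw [hz, htq, mul_smul, h0] at e1
    exact hne (eqFix hP hq e1 hqe)
  obtain ⟨b', hb', hb'p⟩ := hP.exists_at p₀
  have hv' : z * b' * z ∈ Z := by
    have := hP.conj b' hb' z
    rwa [hzi.inv] at this
  have hv'p : (z * b' * z) • (z • p₀) = z • p₀ := by rw [mul_smul, hzi.smul_twice, mul_smul, hb'p]
  obtain ⟨c, hc, hcb, -⟩ := swapConj hP hb' hb'p hv' hv'p hzp.symm
  have hcc : c * c = 1 := (hP.inv c hc).2
  have hcP : c • p₀ = z • p₀ := moves hP hb'p hv' hv'p hc hcb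
  have hzc : z * c = c * z := by
    have hc' : z * c * z ∈ Z := by
      have := hP.conj c hc z
      rwa [hzi.inv] at this
    have e1 : (z * c * z) * b' * (z * c * z) = c * b' * c := by
      have : c * (z * b' * z) * c = b' := by
        rw [← hcb]; simp [← mul_assoc, hcc]; simp [mul_assoc, hcc]
      rw [hcb]
      calc z * c * z * b' * (z * c * z) = z * (c * (z * b' * z) * c) * z := by group
        _ = z * b' * z := by rw [this]
    have h1 := unique hP hb' hb'p hzp.symm hc hc' hcP e1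
    calc z * c = z * c * (z * z) := by rw [hzi.2, mul_one]
      _ = (z * c * z) * z := by group
      _ = c * z := by rw [h1]
  obtain ⟨f, hf⟩ := (hP.one_fix c hc).exists
  -- the new swapper is a conjugate of the first one in the centraliser of the product
  have hcent : ∀ x y : G, x * z = z * x → y * z = z * y → ∀ w ∈ Subgroup.closure ({x, y} : Set G),
      w * z = z * w := fun x y hx hy w hw =>
    Subgroup.mem_centralizer_singleton_iff.mp ((Subgroup.closure_le (Subgroup.centralizer ({z} : Set G))).mpr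
      (by rintro s (rfl | rfl) <;> exact Subgroup.mem_centralizer_singleton_iff.mpr ‹_›) hw)
  have step : ∀ {x y : G} {p r : Ω}, x ∈ Z → x • p = p → y ∈ Z → y • r = r → p ≠ r → z * x = x * z →
      z * y = y * z → ∃ w : G, w * z = z * w ∧ w * x * w⁻¹ = y := fun hx hxp hy hyr hpr h1 h2 => by
    obtain ⟨w, hw, hwe, hwc⟩ := swapConj hP hx hxp hy hyr hpr
    exact ⟨w, hcent _ _ h1.symm h2.symm w hwc, by rwa [(hP.inv w hw).inv]⟩
  obtain ⟨g, hgz, hgq⟩ : ∃ g : G, g * z = z * g ∧ g * q * g⁻¹ = c := by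
    rcases eq_or_ne e f with hef | hef
    · have hQe : q₀ ≠ e := fun e1 => hq₀ (by rw [← hqQ, e1, hqe])
      obtain ⟨w, hw1, hw2⟩ := step hq hqe hb hbq hQe.symm hzqc hzb
      obtain ⟨w', hw'1, hw'2⟩ := step hb hbq hc hf (hef ▸ hQe) hzb hzc
      refine ⟨w' * w, ?_, ?_⟩
      · rw [mul_assoc, hw1, ← mul_assoc, hw'1, mul_assoc]
      · rw [← hw'2, ← hw2]; group
    · exact step hq hqe hc hf hef hzqc hzc
  -- the second member is centralised, so fixes the point of the new swapper
  have hb'2 : g⁻¹ * b' * g ∈ Z := by simpa using hP.conj b' hb' g⁻¹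
  have hcomm : t * (g⁻¹ * b' * g) = (g⁻¹ * b' * g) * t := by
    have e1 : g * t * g⁻¹ = z * c := by
      rw [← hgq, ← hzq, ← mul_assoc, hgz]; group
    have e2 : (z * c) * b' = b' * (z * c) := by
      have h3 : (z * c) * b' * (z * c)⁻¹ = b' := by
        rw [mul_inv_rev, hzi.inv, (hP.inv c hc).inv]
        calc z * c * b' * (c * z) = z * (c * b' * c) * z := by group
          _ = (z * z) * b' * (z * z) := by rw [hcb]; group
          _ = b' := by rw [hzi.2, one_mul, mul_one]
      exact mul_inv_eq_iff_eq_mul.mp h3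
    rw [← e1] at e2
    calc t * (g⁻¹ * b' * g) = g⁻¹ * ((g * t * g⁻¹) * b') * g := by group
      _ = g⁻¹ * (b' * (g * t * g⁻¹)) * g := by rw [e2]
      _ = _ := by group
  have h1 : b' • (g • e) = g • e := by
    have := congrArg (g • ·) (hall _ hb'2 hcomm)
    simpa [mul_smul] using this
  have h2 : c • (g • e) = g • e := by
    rw [← hgq, mul_smul, mul_smul, inv_smul_smul, hqe]
  have h3 := eqFix hP hb' hb'p h1
  exact hzp (by rw [← hcP, h3, h2])

/-- The product of distinct commuting members fixes only their point. -/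
theorem prodFix {y z : G} (hy : y ∈ Z) (hz : z ∈ Z) (hne : y ≠ z) (h : y * z = z * y) {p : Ω}
    (hp : (y * z) • p = p) : y • p = p := by
  by_contra hyp
  obtain ⟨e, he⟩ := (hP.one_fix y hy).exists
  have hy' := hP.inv y hy
  have hz' := hP.inv z hz
  have ht : IsInv (y * z) := ⟨fun e1 => hne ((mul_eq_one_iff_eq_inv.mp e1).trans hz'.inv),
    by calc y * z * (y * z) = y * (z * y) * z := by group
         _ = (y * y) * (z * z) := by rw [← h]; group
         _ = 1 := by rw [hy'.2, hz'.2, one_mul]⟩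
  refine hyp ?_
  rw [only_fix hP ht hp (e := e) fun b hb hbt => ?_]
  · exact he
  by_contra hbe
  obtain ⟨r, hr⟩ := (hP.one_fix b hb).exists
  have htr : (y * z) • r = r := commuteFix hP hb hr hbt
  have hre : r ≠ e := fun e1 => hbe (e1 ▸ hr)
  have hyr : y • r ≠ r := fun e1 => hre (eqFix hP hy e1 he)
  refine hne (unique hP hb hr hyr.symm hz hy (by rw [← hy'.smul_twice (z • r), ← mul_smul y z r, htr]) ?_)
  calc y * b * y = y * b * (y * z) * z := by rw [mul_assoc _ (y * z), mul_assoc y z z, hz'.2, mul_one]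
    _ = y * ((y * z) * b) * z := by rw [hbt]; group
    _ = z * b * z := by simp [← mul_assoc, hy'.2]

omit hP [Finite G] [FaithfulSMul G Ω] in
private theorem odd_of_fixed_one {α : Type u} [Finite α] (σ : Equiv.Perm α) (hσ : σ ^ 2 = 1) (x : α)
    (h : ∀ y, σ y = y ↔ y = x) : Odd (Nat.card α) := by
  classical
  haveI : Fintype α := Fintype.ofFinite α
  haveI : Fact (Nat.Prime 2) := ⟨Nat.prime_two⟩
  have h1 : Fintype.card α ≡ Fintype.card (Function.fixedPoints σ) [MOD 2] :=
    Equiv.Perm.card_fixedPoints_modEq (f := (⇑σ : Function.End α)) (n := 1) (by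
      funext y
      show σ (σ y) = y
      rw [← Equiv.Perm.mul_apply, ← pow_two, hσ]; rfl)
  have h2 : Fintype.card (Function.fixedPoints σ) = 1 :=
    Fintype.card_eq_one_iff.mpr ⟨⟨x, (h x).mpr rfl⟩, fun y => Subtype.ext ((h y).mp y.2)⟩
  rw [h2] at h1
  rw [Nat.card_eq_fintype_card, Nat.odd_iff]
  exact h1

/-- The number of members at a point is odd. -/
theorem oddMem (a : Ω) : Odd (Nat.card (MemAt Z a)) := by
  haveI := hP.nontriv
  obtain ⟨b, hb⟩ := exists_ne a
  rw [← cardSwp hP hb]
  obtain ⟨i, hi, hia⟩ := hP.exists_at a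
  obtain ⟨j, hj, hjb⟩ := hP.exists_at b
  obtain ⟨c, hc, hce, -⟩ := swapConj hP hi hia hj hjb hb.symm
  have hc' := hP.inv c hc
  have hca : c • a = b := moves hP hia hj hjb hc hce
  have hcb : c • b = a := hc'.swap_back hca
  let σ : Equiv.Perm (Swp Z a b) := Function.Involutive.toPerm
    (fun u => ⟨c * u.1 * c, conjMem hP hc u.2.1, by
      rw [mul_smul, mul_smul, hca, (hP.inv _ u.2.1).swap_back u.2.2, hca]⟩)
    (fun u => Subtype.ext (by
      calc c * (c * u.1 * c) * c = (c * c) * u.1 * (c * c) := by group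
        _ = u.1 := by rw [hc'.2, one_mul, mul_one]))
  refine odd_of_fixed_one σ ?_ ⟨c, hc, hca⟩ fun u => ⟨fun h => ?_, fun h => ?_⟩
  · ext1 u
    rw [pow_two, Equiv.Perm.mul_apply]
    exact Function.Involutive.toPerm_involutive _ u
  · have h1 : c * u.1 * c = u.1 := congrArg Subtype.val h
    have hcomm : c * u.1 = u.1 * c := by
      calc c * u.1 = c * u.1 * (c * c) := by rw [hc'.2, mul_one]
        _ = (c * u.1 * c) * c := by group
        _ = u.1 * c := by rw [h1]
    by_contra hne
    refine hb ?_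
    rw [← hca]
    refine prodFix hP hc u.2.1 (fun e => hne (Subtype.ext e.symm)) hcomm ?_
    rw [mul_smul, u.2.2, hcb]
  · subst h
    exact Subtype.ext (by show c * c * c = c; rw [hc'.2, one_mul])

/-- Hypothesis Q. -/
theorem toHyp : Hyp G Ω Z where
  inv := hP.inv
  conj := hP.conj
  one_fix := hP.one_fix
  exists_at := hP.exists_at
  nontriv := hP.nontriv
  odd_mul := hP.odd_mul
  prod_fix _ hy _ hz hne h _ hp := prodFix hP hy hz hne h hp
  two_cent P a hP2 hfix := by
    haveI : Fact (Nat.Prime 2) := ⟨Nat.prime_two⟩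
    letI : MulAction P (MemAt Z a) :=
      { smul := fun g x => ⟨g.1 * x.1 * g.1⁻¹, hP.conj _ x.2.1 _, by
          rw [mul_smul, mul_smul, inv_smul_eq_iff.mpr (hfix _ g.2).symm, x.2.2, hfix _ g.2]⟩
        one_smul := fun x => Subtype.ext (by show (1 : G) * x.1 * 1⁻¹ = x.1; group)
        mul_smul := fun g h x => Subtype.ext (by
          show (g.1 * h.1) * x.1 * (g.1 * h.1)⁻¹ = g.1 * (h.1 * x.1 * h.1⁻¹) * g.1⁻¹
          group) }
    obtain ⟨⟨z, hz, hza⟩, hfx⟩ := hP2.nonempty_fixed_point_of_prime_not_dvd_card (MemAt Z a)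
      (fun h2 => Nat.not_even_iff_odd.mpr (oddMem hP a) (even_iff_two_dvd.mpr h2))
    refine ⟨z, hz, hza, fun x hx => ?_⟩
    exact mul_inv_eq_iff_eq_mul.mp (congrArg Subtype.val (hfx ⟨x, hx⟩))

end Pre

/-- Hypothesis Q for a faithful action, from one-fix members with odd products across points. -/
theorem Hyp.of_odd {G : Type u} {Ω : Type v} [Group G] [Finite G] [MulAction G Ω] [FaithfulSMul G Ω] {Z : Set G}
    (inv : ∀ z ∈ Z, IsInv z) (conj : ∀ z ∈ Z, ∀ g : G, g * z * g⁻¹ ∈ Z)
    (one_fix : ∀ z ∈ Z, ∃! c : Ω, z • c = c) (exists_at : ∀ c : Ω, ∃ z ∈ Z, z • c = c) (nontriv : Nontrivial Ω)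
    (odd_mul : ∀ y ∈ Z, ∀ z ∈ Z, ∀ c d : Ω, y • c = c → z • d = d → c ≠ d → Odd (orderOf (y * z))) :
    Hyp G Ω Z :=
  (⟨inv, conj, one_fix, exists_at, nontriv, odd_mul⟩ : Pre G Ω Z).toHyp

end CfsgLib.Bender.Q
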