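import Cfsg.Agent.Lib.Bender.Q.Basics
import Cfsg.Agent.S1187

/-!
The members exchanging two points are isolated in the two-point stabiliser they normalise: the odd core is transitive
on them, their number is odd, Sylow subgroups can be chosen invariant.

Blueprint: `blueprint/bender/Q.md` T1, T2.
-/

set_option autoImplicit false
set_option linter.unusedSectionVars false
set_option linter.style.haveILetI false

universe u v

namespace CfsgLib.Bender.Q

open MulAction
open CfsgLib.Bender.TwoClosed (IsInv two mem_two smul_conj MaxP mem_normalizer_of_conj conj_mem_of_normalizer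
  mem_of_sq_mem exists_maxP)

variable {G : Type u} [Group G]

/-- The largest normal subgroup of odd order of `X`, as a subgroup of the whole group. -/
def oddRad (X : Subgroup G) : Subgroup G := (Cfsg.pPrimeCore 2 X).map X.subtype

theorem oddRad_le (X : Subgroup G) : oddRad X ≤ X := Subgroup.map_subtype_le _

theorem mem_oddRad {X : Subgroup G} {x : G} :
    x ∈ oddRad X ↔ ∃ h : x ∈ X, (⟨x, h⟩ : X) ∈ Cfsg.pPrimeCore 2 X :=
  ⟨fun ⟨y, hy, e⟩ => by subst e; exact ⟨y.2, hy⟩, fun ⟨h, hx⟩ => ⟨⟨x, h⟩, hx, rfl⟩⟩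

variable [Finite G]

theorem oddRad_conj {X : Subgroup G} {g : G} (hg : g ∈ Subgroup.normalizer (X : Set G)) {x : G}
    (hx : x ∈ oddRad X) : g * x * g⁻¹ ∈ oddRad X := by
  obtain ⟨h, hx⟩ := mem_oddRad.mp hx
  refine mem_oddRad.mpr ⟨conj_mem_of_normalizer hg h, ?_⟩
  have h1 := Subgroup.characteristic_iff_map_le.mp (CfsgLib.pPrimeCore_characteristic (G := X) 2)
    (X.normalizerMonoidHom ⟨g, hg⟩) ⟨_, hx, rfl⟩
  exact h1

theorem le_normalizer_oddRad (X : Subgroup G) :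
    Subgroup.normalizer (X : Set G) ≤ Subgroup.normalizer (oddRad X : Set G) := fun g hg => by
  refine Subgroup.mem_normalizer_iff.mpr fun x => ⟨oddRad_conj hg, fun h => ?_⟩
  have := oddRad_conj (inv_mem hg) h
  simpa [mul_assoc] using this

theorem odd_oddRad (X : Subgroup G) : Odd (Nat.card (oddRad X)) := by
  rw [oddRad, Subgroup.card_map_of_injective X.subtype_injective]
  exact CfsgLib.odd_card_oddCore

theorem odd_orderOf_oddRad {X : Subgroup G} {x : G} (hx : x ∈ oddRad X) : Odd (orderOf x) :=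
  CfsgLib.Bender.TwoClosed.odd_orderOf (odd_oddRad X) hx

theorem le_oddRad {X K : Subgroup G} (hK : K ≤ X) (hodd : Odd (Nat.card K))
    (hn : ∀ g ∈ X, ∀ k ∈ K, g * k * g⁻¹ ∈ K) : K ≤ oddRad X := by
  haveI : (K.subgroupOf X).Normal := ⟨fun k hk g => hn g g.2 k hk⟩
  have h1 : K.subgroupOf X ≤ Cfsg.pPrimeCore 2 X := CfsgLib.le_oddCore (by
    rwa [Nat.card_congr (Subgroup.subgroupOfEquivOfLe hK).toEquiv])
  exact fun x hx => mem_oddRad.mpr ⟨hK hx, h1 hx⟩

/-- An element normalising `D` all of whose conjugates under `D` give odd products is isolated in the extension. -/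
theorem isolated_sup {D : Subgroup G} {c : G} (hc : IsInv c) (hn : c ∈ Subgroup.normalizer (D : Set G))
    (hodd : ∀ k ∈ D, Odd (orderOf (c * (k * c * k⁻¹)))) :
    Cfsg.IsIsolatedInvolution
      (⟨c, Subgroup.mem_sup_right (Subgroup.mem_zpowers c)⟩ : ↥(D ⊔ Subgroup.zpowers c)) := by
  refine ⟨?_, fun g hcomm => ?_⟩
  · rw [← Subgroup.orderOf_coe]
    exact CfsgLib.Involutions.orderOf_eq_two_iff'.mpr ⟨hc.2, hc.1⟩
  · have hg := g.2
    rw [← SetLike.mem_coe, Subgroup.coe_mul_of_right_le_normalizer_left _ _ (Subgroup.zpowers_le.mpr hn)] at hg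
    obtain ⟨k, hk, y, hy, e⟩ := Set.mem_mul.mp hg
    have hyc : y * c * y⁻¹ = c := by
      obtain ⟨n, rfl⟩ := Subgroup.mem_zpowers_iff.mp hy
      rw [((Commute.refl c).zpow_left n).eq, mul_inv_cancel_right]
    have hconj : ((g : G) * c * (g : G)⁻¹) = k * c * k⁻¹ := by
      rw [← e]
      calc k * y * c * (k * y)⁻¹ = k * (y * c * y⁻¹) * k⁻¹ := by group
        _ = k * c * k⁻¹ := by rw [hyc]
    apply Subtype.ext
    have h := congrArg Subtype.val hcomm.eq
    simp only [Subgroup.coe_mul, Subgroup.coe_inv, hconj] at h ⊢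
    exact (eq_of_commute_odd hc (hc.conj k) h (hodd k hk)).symm

theorem comm_mem_oddRad {D : Subgroup G} {c : G} (hc : IsInv c) (hn : c ∈ Subgroup.normalizer (D : Set G))
    (hodd : ∀ k ∈ D, Odd (orderOf (c * (k * c * k⁻¹)))) {g : G} (hg : g ∈ D) :
    c * g * c⁻¹ * g⁻¹ ∈ oddRad D := by
  obtain ⟨ho, hiso⟩ := isolated_sup hc hn hodd
  set K : Subgroup G := D ⊔ Subgroup.zpowers c
  have hgK : g ∈ K := Subgroup.mem_sup_left hg
  have h := CfsgLib.ZStar.commutator_mem ho hiso ⟨g, hgK⟩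
  have hle : oddRad K ⊓ D ≤ oddRad D := by
    refine le_oddRad inf_le_right ((odd_oddRad K).of_dvd_nat (Subgroup.card_dvd_of_le inf_le_left))
      fun y hy x hx => ⟨?_, D.mul_mem (D.mul_mem hy hx.2) (D.inv_mem hy)⟩
    exact oddRad_conj (Subgroup.le_normalizer (Subgroup.mem_sup_left hy)) hx.1
  refine hle ⟨mem_oddRad.mpr ⟨_, h⟩, D.mul_mem ?_ (D.inv_mem hg)⟩
  exact conj_mem_of_normalizer hn hg

/-- The invariant Sylow subgroups of an isolated involution. -/
theorem exists_invariant_maxP {D : Subgroup G} {c : G} (hc : IsInv c)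
    (hn : c ∈ Subgroup.normalizer (D : Set G))
    (hodd : ∀ k ∈ D, Odd (orderOf (c * (k * c * k⁻¹)))) {p : ℕ} [Fact p.Prime] {X : Subgroup G}
    (hX : IsPGroup p X) (hXD : X ≤ D) (hcX : c ∈ Subgroup.normalizer (X : Set G)) :
    ∃ R : Subgroup G, MaxP p D R ∧ X ≤ R ∧ c ∈ Subgroup.normalizer (R : Set G) := by
  have hiso := isolated_sup hc hn hodd
  set K : Subgroup G := D ⊔ Subgroup.zpowers c with hK
  have hcK : c ∈ K := Subgroup.mem_sup_right (Subgroup.mem_zpowers c)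
  have hnorm : ∀ {Y : Subgroup K}, (⟨c, hcK⟩ : K) ∈ Subgroup.normalizer (Y : Set K) →
      c ∈ Subgroup.normalizer ((Y.map K.subtype) : Set G) := fun {Y} h => mem_normalizer_of_conj (by
    rintro _ ⟨y, hy, rfl⟩
    exact ⟨_, conj_mem_of_normalizer h hy, rfl⟩)
  have hXK : X ≤ K := hXD.trans le_sup_left
  have hX' : IsPGroup p (X.subgroupOf K) := hX.of_equiv (Subgroup.subgroupOfEquivOfLe hXK).symm
  obtain ⟨Y, hXY, hY⟩ := Finite.exists_le_maximal
    (p := fun Y : Subgroup K => IsPGroup p Y ∧ (⟨c, hcK⟩ : K) ∈ Subgroup.normalizer (Y : Set K))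
    (a := X.subgroupOf K) ⟨hX', mem_normalizer_of_conj fun x hx =>
      Subgroup.mem_subgroupOf.mpr (conj_mem_of_normalizer hcX (Subgroup.mem_subgroupOf.mp hx))⟩
  obtain ⟨P, hP⟩ := Cfsg.Agent.S1187.result _ hiso Y hY.prop.1 hY.prop.2
    fun R hR hzR hle => le_antisymm (hY.le_of_ge ⟨hR, hzR⟩ hle) hle
  refine ⟨Y.map K.subtype ⊓ D, ⟨⟨(hY.prop.1.map _).to_le inf_le_left, inf_le_right⟩, ?_⟩, le_inf ?_ hXD, ?_⟩
  · rintro W ⟨hW, hWD⟩ hle
    have hWK : W ≤ K := hWD.trans le_sup_left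
    obtain ⟨P', hP'⟩ := (hW.of_equiv (Subgroup.subgroupOfEquivOfLe hWK).symm :
      IsPGroup p (W.subgroupOf K)).exists_le_sylow
    obtain ⟨g, hg⟩ := MulAction.exists_smul_eq K P' P
    let f : G ≃* G := MulAut.conj (g : G)
    have hmap : W.map f.toMonoidHom ≤ Y.map K.subtype ⊓ D := by
      rintro _ ⟨w, hw, rfl⟩
      refine ⟨⟨g * ⟨w, hWK hw⟩ * g⁻¹, ?_, rfl⟩, ?_⟩
      · rw [SetLike.mem_coe, ← hP, ← hg]
        exact ⟨⟨w, hWK hw⟩, hP' hw, rfl⟩
      · have hg' : (g : G) ∈ Subgroup.normalizer (D : Set G) :=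
          (sup_le Subgroup.le_normalizer (Subgroup.zpowers_le.mpr hn) : K ≤ _) g.2
        exact conj_mem_of_normalizer hg' (hWD hw)
    have h1 := Subgroup.card_le_of_le hmap
    rw [Subgroup.card_map_of_injective f.injective] at h1
    exact (Subgroup.eq_of_le_of_card_ge hle h1).ge
  · exact fun x hx => ⟨⟨x, hXK hx⟩, hXY hx, rfl⟩
  · refine mem_normalizer_of_conj fun x hx => ⟨conj_mem_of_normalizer (hnorm hY.prop.2) hx.1,
      conj_mem_of_normalizer hn hx.2⟩

variable {Ω : Type v} [MulAction G Ω] {Z : Set G} (hQ : Hyp G Ω Z)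
include hQ

section Pair

variable {a b : Ω} (hb : b ≠ a) {u : G} (hu : u ∈ Z) (hua : u • a = b)
include hb hu hua

theorem mem_normalizer_two : u ∈ Subgroup.normalizer ((two a b : Subgroup G) : Set G) :=
  mem_normalizer_of_conj fun k hk => by
    obtain ⟨h1, h2⟩ := mem_two.mp hk
    have hub := (hQ.inv u hu).swap_back hua
    rw [(hQ.inv u hu).inv]
    exact mem_two.mpr ⟨by rw [mul_smul, mul_smul, hua, h2, hub], by rw [mul_smul, mul_smul, hub, h1, hua]⟩

theorem conj_swap {k : G} (hk : k ∈ (two a b : Subgroup G)) :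
    k * u * k⁻¹ ∈ Z ∧ (k * u * k⁻¹) • a = b := by
  obtain ⟨h1, h2⟩ := mem_two.mp hk
  exact ⟨hQ.conj u hu k, by rw [mul_smul, mul_smul, inv_smul_eq_iff.mpr h1.symm, hua, h2]⟩

theorem odd_swap_conj {k : G} (hk : k ∈ (two a b : Subgroup G)) : Odd (orderOf (u * (k * u * k⁻¹))) :=
  odd_swap hQ hb hu hua (conj_swap hQ hb hu hua hk).1 (conj_swap hQ hb hu hua hk).2

theorem comm_mem {g : G} (hg : g ∈ (two a b : Subgroup G)) :
    u * g * u⁻¹ * g⁻¹ ∈ oddRad (two a b : Subgroup G) :=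
  comm_mem_oddRad (hQ.inv u hu) (mem_normalizer_two hQ hb hu hua) (fun _ hk => odd_swap_conj hQ hb hu hua hk) hg

/-- An element of odd order of the stabiliser inverted by a swapper lies in the odd core. -/
theorem inverted_mem_oddRad {j : G} (hj : j ∈ (two a b : Subgroup G)) (hodd : Odd (orderOf j))
    (hinv : u * j * u = j⁻¹) : j ∈ oddRad (two a b : Subgroup G) := by
  refine mem_of_sq_mem hodd ?_
  have h := inv_mem (comm_mem hQ hb hu hua hj)
  rwa [(hQ.inv u hu).inv, hinv, mul_inv_rev, inv_inv] at h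

/-- The swappers differ by elements of the odd core and are conjugate under it. -/
theorem swap_mul_mem {w : G} (hw : w ∈ Z) (hwa : w • a = b) :
    w * u ∈ oddRad (two a b : Subgroup G) := by
  have hui := hQ.inv u hu
  have hwi := hQ.inv w hw
  refine inverted_mem_oddRad hQ hb hu hua (mem_two.mpr ⟨by rw [mul_smul, hua, hwi.swap_back hwa],
    by rw [mul_smul, hui.swap_back hua, hwa]⟩) (odd_swap hQ hb hw hwa hu hua) ?_
  rw [mul_inv_rev, hui.inv, hwi.inv, mul_assoc, mul_assoc w u u, hui.2, mul_one]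

theorem exists_sqrt_conj {K : Subgroup G} {w : G} (hw : w ∈ Z) (hwa : w • a = b) (hwK : w * u ∈ K) :
    ∃ r ∈ K, r * u * r⁻¹ = w := by
  have hui := hQ.inv u hu
  have hwi := hQ.inv w hw
  obtain ⟨n, hn⟩ := CfsgLib.Involutions.exists_sqrt (odd_swap hQ hb hw hwa hu hua)
  refine ⟨(w * u) ^ n, pow_mem hwK n, ?_⟩
  have hinv : u * (w * u) ^ n * u = ((w * u) ^ n)⁻¹ := by
    have h1 := conj_pow (i := n) (a := u) (b := w * u)
    rw [hui.inv] at h1
    rw [← h1, mul_assoc, mul_assoc w u u, hui.2, mul_one, ← inv_pow, mul_inv_rev, hui.inv, hwi.inv]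
  rw [← hinv]
  calc (w * u) ^ n * u * (u * (w * u) ^ n * u) = (w * u) ^ n * (u * u) * (w * u) ^ n * u := by group
    _ = w := by rw [hui.2, mul_one, hn, mul_assoc, hui.2, mul_one]

theorem exists_oddRad_conj {w : G} (hw : w ∈ Z) (hwa : w • a = b) :
    ∃ r ∈ oddRad (two a b : Subgroup G), r * u * r⁻¹ = w :=
  exists_sqrt_conj hQ hb hu hua hw hwa (swap_mul_mem hQ hb hu hua hw hwa)

theorem card_eq_swp_mul {K : Subgroup G} (hKD : K ≤ two a b)
    (hK : ∀ w ∈ Z, w • a = b → w * u ∈ K) :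
    Nat.card K = Nat.card (MemAt Z a) * Nat.card ↥(K ⊓ Subgroup.centralizer ({u} : Set G)) := by
  set L := (K ⊓ Subgroup.centralizer ({u} : Set G)).subgroupOf K
  rw [Subgroup.card_eq_card_quotient_mul_card_subgroup L,
    Nat.card_congr (Subgroup.subgroupOfEquivOfLe (inf_le_left : K ⊓ Subgroup.centralizer ({u} : Set G) ≤ K)).toEquiv,
    ← card_swp hQ hb]
  congr 1
  have hiff : ∀ e e' : K, (e : G) * u * (e : G)⁻¹ = (e' : G) * u * (e' : G)⁻¹ ↔ e⁻¹ * e' ∈ L := fun e e' => by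
    rw [Subgroup.mem_subgroupOf, Subgroup.mem_inf, Subgroup.mem_centralizer_singleton_iff,
      and_iff_right (e⁻¹ * e').2, Subgroup.coe_mul, Subgroup.coe_inv]
    constructor
    · intro h
      calc (e : G)⁻¹ * e' * u = (e : G)⁻¹ * ((e' : G) * u * (e' : G)⁻¹) * e' := by group
        _ = u * ((e : G)⁻¹ * e') := by rw [← h]; group
    · intro h
      calc (e : G) * u * (e : G)⁻¹ = (e : G) * (u * ((e : G)⁻¹ * e')) * (e' : G)⁻¹ := by group
        _ = _ := by rw [← h]; group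
  refine Nat.card_eq_of_bijective (Quotient.lift (fun e : K => (⟨_, conj_swap hQ hb hu hua (hKD e.2)⟩ : Swp Z a b))
    fun e e' h => Subtype.ext ((hiff e e').mpr (QuotientGroup.leftRel_apply.mp h))) ⟨?_, ?_⟩
  · intro x y h
    induction x using Quotient.inductionOn
    induction y using Quotient.inductionOn
    exact Quotient.sound (QuotientGroup.leftRel_apply.mpr ((hiff _ _).mp (congrArg Subtype.val h)))
  · rintro ⟨w, hw, hwa⟩
    obtain ⟨r, hr, e⟩ := exists_sqrt_conj hQ hb hu hua hw hwa (hK w hw hwa)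
    exact ⟨Quotient.mk _ ⟨r, hr⟩, Subtype.ext e⟩

theorem card_two_eq : Nat.card (two a b : Subgroup G) =
    Nat.card (MemAt Z a) * Nat.card ↥(two a b ⊓ Subgroup.centralizer ({u} : Set G)) :=
  card_eq_swp_mul hQ hb hu hua le_rfl fun _ hw hwa => oddRad_le _ (swap_mul_mem hQ hb hu hua hw hwa)

theorem card_oddRad_eq : Nat.card (oddRad (two a b : Subgroup G)) =
    Nat.card (MemAt Z a) * Nat.card ↥(oddRad (two a b) ⊓ Subgroup.centralizer ({u} : Set G)) :=
  card_eq_swp_mul hQ hb hu hua (oddRad_le _) fun _ hw hwa => swap_mul_mem hQ hb hu hua hw hwa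

/-- A swapper normalises a Sylow subgroup of the stabiliser above any invariant one. -/
theorem exists_swap_maxP {p : ℕ} [Fact p.Prime] {X : Subgroup G} (hX : IsPGroup p X)
    (hXD : X ≤ two a b) (huX : u ∈ Subgroup.normalizer (X : Set G)) :
    ∃ R : Subgroup G, MaxP p (two a b) R ∧ X ≤ R ∧ u ∈ Subgroup.normalizer (R : Set G) :=
  exists_invariant_maxP (hQ.inv u hu) (mem_normalizer_two hQ hb hu hua)
    (fun _ hk => odd_swap_conj hQ hb hu hua hk) hX hXD huX

end Pair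

theorem odd_memAt (a : Ω) : Odd (Nat.card (MemAt Z a)) := by
  obtain ⟨b, hb⟩ := exists_ne_point hQ a
  obtain ⟨u, hu, hua, -⟩ := exists_swap hQ hb.symm
  exact (odd_oddRad (two a b : Subgroup G)).of_dvd_nat (Dvd.intro _ (card_oddRad_eq hQ hb hu hua).symm)

/-- Two members at a point are conjugate under the odd core of the stabiliser of that point and any other. -/
theorem exists_conj_oddRad {i i' : G} {c : Ω} (hi : i ∈ Z) (hc : i • c = c) (hi' : i' ∈ Z)
    (hc' : i' • c = c) {d : Ω} (hne : c ≠ d) :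
    ∃ g ∈ oddRad (two c d : Subgroup G), g * i * g⁻¹ = i' := by
  obtain ⟨j, hj, hd⟩ := hQ.exists_at d
  obtain ⟨u, hu, he, -⟩ := exists_swap_conj hQ hi hc hj hd hne
  obtain ⟨u', hu', he', -⟩ := exists_swap_conj hQ hi' hc' hj hd hne
  obtain ⟨h1, -⟩ := swap_points hQ hc hj hd hu he
  obtain ⟨h3, -⟩ := swap_points hQ hc' hj hd hu' he'
  refine ⟨u' * u, swap_mul_mem hQ hne.symm hu h1 hu' h3, ?_⟩
  rw [mul_inv_rev, (hQ.inv u hu).inv, (hQ.inv u' hu').inv]
  calc u' * u * i * (u * u') = u' * (u * i * u) * u' := by group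
    _ = u' * (u' * i' * u') * u' := by rw [he, he']
    _ = i' := by simp [← mul_assoc, (hQ.inv u' hu').2, mul_assoc i']

/-- A `2`-group fixing two points centralises a member exchanging them. -/
theorem exists_swap_cent {X : Subgroup G} (hX : IsPGroup 2 X) {a b : Ω} (hb : b ≠ a)
    (hXa : ∀ x ∈ X, x • a = a) (hXb : ∀ x ∈ X, x • b = b) :
    ∃ u ∈ Z, u • a = b ∧ ∀ x ∈ X, x * u = u * x := by
  haveI : Fact (Nat.Prime 2) := ⟨Nat.prime_two⟩
  have hmaps : ∀ (x : X) (w : Swp Z a b),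
      (x : G) * w.1 * (x : G)⁻¹ ∈ Z ∧ ((x : G) * w.1 * (x : G)⁻¹) • a = b := fun x w =>
    conj_swap hQ hb w.2.1 w.2.2 (mem_two.mpr ⟨hXa x x.2, hXb x x.2⟩)
  letI : MulAction X (Swp Z a b) :=
    { smul := fun x w => ⟨_, hmaps x w⟩
      one_smul := fun w => Subtype.ext (show (1 : G) * w.1 * (1 : G)⁻¹ = w.1 by group)
      mul_smul := fun x y w => Subtype.ext (show ((x : G) * y) * w.1 * ((x : G) * y)⁻¹ =
        (x : G) * ((y : G) * w.1 * (y : G)⁻¹) * (x : G)⁻¹ by group) }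
  have hcard : ¬ 2 ∣ Nat.card (Swp Z a b) := by
    rw [card_swp hQ hb, ← even_iff_two_dvd, Nat.not_even_iff_odd]
    exact odd_memAt hQ a
  obtain ⟨w, hw⟩ := hX.nonempty_fixed_point_of_prime_not_dvd_card (Swp Z a b) hcard
  exact ⟨w.1, w.2.1, w.2.2, fun x hx => mul_inv_eq_iff_eq_mul.mp (congrArg Subtype.val (hw ⟨x, hx⟩))⟩

end CfsgLib.Bender.Q
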